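import Cfsg.Agent.Lib.Invol.RankOneInter.Central.LocalFacts

/-!
Owner: helper5. The exceptional configuration does not occur.

* `X1_classes`: modulo the local 2-core the elements of the first kind cover the moved involutions.
* `Except.images`, `pair_points`, `single_image`: the local structure at an exceptional point.
* `no_except`: there is no exceptional point.
-/

set_option autoImplicit false
set_option linter.style.haveILetI false
set_option linter.unusedSectionVars false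

namespace CfsgLib.RankOneInter

open Subgroup
open CfsgLib.Signalizer (involution_sq involution_inv orderOf_eq_two_of involution_ne_one orderOf_conj)

universe u

variable {G : Type u} [Group G] [Finite G]

/-- A product of two elements of the first kind in the centre of `S`. -/
def InB (S : Sylow 2 G) (e : Q G) : Prop := ∃ a ∈ X1 S, ∃ b ∈ X1 S, a ≠ b ∧ e = a * b

theorem InB.mem {S : Sylow 2 G} {e : Q G} (h : InB S e) : e ∈ Spt S := by
  obtain ⟨a, ha, b, hb, -, rfl⟩ := h; exact mul_mem ha.2.1 hb.2.1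

theorem InB.central {S : Sylow 2 G} {e : Q G} (h : InB S e) : ∀ s ∈ Spt S, s * e = e * s := by
  obtain ⟨a, ha, b, hb, -, rfl⟩ := h
  exact Ee_central (mul_mem (subset_closure ha) (subset_closure hb))

theorem InB.conj {S : Sylow 2 G} {e : Q G} (h : InB S e) (g : G) : InB (g • S) (pr g * e * (pr g)⁻¹) := by
  obtain ⟨a, ha, b, hb, hab, rfl⟩ := h
  have key : ∀ {x : Q G}, x ∈ X1 S → pr g * x * (pr g)⁻¹ ∈ X1 (g • S) := fun {x} hx => by
    refine ⟨hx.1.conj _, pr_conj_mem_Spt hx.2.1, fun s hs => ?_⟩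
    have h0 := pr_conj_mem_Spt (g := g⁻¹) hs
    rw [inv_smul_smul, map_inv, inv_inv] at h0
    have h1 := hx.2.2 _ h0
    calc s * (pr g * x * (pr g)⁻¹) = pr g * ((pr g)⁻¹ * s * pr g * x) * (pr g)⁻¹ := by group
      _ = pr g * (x * ((pr g)⁻¹ * s * pr g)) * (pr g)⁻¹ := by rw [h1]
      _ = _ := by group
  exact ⟨_, key ha, _, key hb, fun e => hab (mul_left_cancel (mul_right_cancel e)), by group⟩

theorem InB.of_conj {S : Sylow 2 G} {e : Q G} {g : G} (h : InB (g • S) (pr g * e * (pr g)⁻¹)) : InB S e := by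
  have := h.conj g⁻¹
  rwa [inv_smul_smul, map_inv, inv_inv, show (pr g)⁻¹ * (pr g * e * (pr g)⁻¹) * pr g = e by group] at this

theorem X1_conj' {S : Sylow 2 G} {x : Q G} (hx : x ∈ X1 S) (g : G) :
    pr g * x * (pr g)⁻¹ ∈ X1 (g • S) := by
  refine ⟨hx.1.conj _, pr_conj_mem_Spt hx.2.1, fun s hs => ?_⟩
  have h0 := pr_conj_mem_Spt (g := g⁻¹) hs
  rw [inv_smul_smul, map_inv, inv_inv] at h0
  have h1 := hx.2.2 _ h0
  calc s * (pr g * x * (pr g)⁻¹) = pr g * ((pr g)⁻¹ * s * pr g * x) * (pr g)⁻¹ := by group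
    _ = pr g * (x * ((pr g)⁻¹ * s * pr g)) * (pr g)⁻¹ := by rw [h1]
    _ = _ := by group

theorem Multi.conj {c : Q G} (hc : Multi c) (g : G) : Multi (pr g * c * (pr g)⁻¹) := by
  obtain ⟨h1, h2, U, V, hne, hU, hV⟩ := hc
  refine ⟨?_, fun e => h2 (conj_eq_one_iff.1 e), g • U, g • V, fun e => hne (MulAction.injective g e),
    pr_conj_mem_Spt hU, pr_conj_mem_Spt hV⟩
  calc pr g * c * (pr g)⁻¹ * (pr g * c * (pr g)⁻¹) = pr g * (c * c) * (pr g)⁻¹ := by group
    _ = 1 := by rw [h1, mul_one, mul_inv_cancel]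

namespace Except

variable {S : Sylow 2 G} {x y w : Q G}

theorem inB_iff (hE : Except S x y w) {e : Q G} : InB S e ↔ e = x * y ∨ e = x * w ∨ e = y * w := by
  constructor
  · rintro ⟨a, ha, b, hb, hab, rfl⟩
    rcases hE.only a ha with rfl | rfl | rfl <;> rcases hE.only b hb with rfl | rfl | rfl
    exacts [absurd rfl hab, Or.inl rfl, Or.inr (Or.inl rfl), Or.inl (X1_mul_comm ha hb), absurd rfl hab,
      Or.inr (Or.inr rfl), Or.inr (Or.inl (X1_mul_comm ha hb)), Or.inr (Or.inr (X1_mul_comm ha hb)),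
      absurd rfl hab]
  · rintro (rfl | rfl | rfl)
    exacts [⟨x, hE.hx, y, hE.hy, hE.xy, rfl⟩, ⟨x, hE.hx, w, hE.hw, hE.xw, rfl⟩,
      ⟨y, hE.hy, w, hE.hw, hE.yw, rfl⟩]

theorem conj (hE : Except S x y w) (g : G) :
    Except (g • S) (pr g * x * (pr g)⁻¹) (pr g * y * (pr g)⁻¹) (pr g * w * (pr g)⁻¹) := by
  have hI : ∀ a : Q G, IsI (pr g * a * (pr g)⁻¹) → IsI a := fun a h => by
    have := h.conj (pr g)⁻¹
    rwa [inv_inv, show (pr g)⁻¹ * (pr g * a * (pr g)⁻¹) * pr g = a by group] at this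
  have hm : ∀ a b : Q G, pr g * a * (pr g)⁻¹ * (pr g * b * (pr g)⁻¹) = pr g * (a * b) * (pr g)⁻¹ :=
    fun a b => by group
  refine ⟨X1_conj' hE.hx g, X1_conj' hE.hy g, X1_conj' hE.hw g,
    fun e => hE.xy (mul_left_cancel (mul_right_cancel e)), fun e => hE.xw (mul_left_cancel (mul_right_cancel e)),
    fun e => hE.yw (mul_left_cancel (mul_right_cancel e)), fun u hu => ?_,
    fun h => hE.not_xy (hI _ (hm x y ▸ h)), fun h => hE.not_xw (hI _ (hm x w ▸ h)),
    fun h => hE.not_yw (hI _ (hm y w ▸ h)), fun h => hE.w0_ne ?_⟩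
  · have h0 := X1_conj' hu g⁻¹
    rw [inv_smul_smul, map_inv, inv_inv] at h0
    rcases hE.only _ h0 with e | e | e
    · exact Or.inl (by rw [← e]; group)
    · exact Or.inr (Or.inl (by rw [← e]; group))
    · exact Or.inr (Or.inr (by rw [← e]; group))
  · rw [hm, hm] at h
    exact conj_eq_one_iff.1 h

theorem w0_not_inB (hE : Except S x y w) : ¬ InB S (x * y * w) := by
  rw [hE.inB_iff]
  have cxy := X1_mul_comm hE.hx hE.hy
  rintro (h | h | h)
  · exact (by obtain ⟨a, -, -, h1⟩ := hE.hw.1; exact h1 : w ≠ 1) (mul_eq_left.1 h)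
  · refine (by obtain ⟨a, -, -, h1⟩ := hE.hy.1; exact h1 : y ≠ 1) (mul_left_cancel (a := x) ?_)
    rw [mul_one]; exact mul_right_cancel h
  · refine (by obtain ⟨a, -, -, h1⟩ := hE.hx.1; exact h1 : x ≠ 1) (mul_right_cancel (b := y) ?_)
    rw [one_mul]; exact mul_right_cancel h

theorem w0_mem (hE : Except S x y w) : x * y * w ∈ Ee S :=
  mul_mem (mul_mem (subset_closure hE.hx) (subset_closure hE.hy)) (subset_closure hE.hw)

theorem inB_ne (hE : Except S x y w) {e : Q G} (h : InB S e) : e * e = 1 ∧ e ≠ 1 ∧ ¬ IsI e := by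
  have hne : ∀ {a b : Q G}, a ∈ X1 S → a ≠ b → a * b ≠ 1 := fun {a b} ha hab he =>
    hab (((eq_inv_of_mul_eq_one_right he).trans (inv_eq_of_mul_eq_one_right ha.1.sq)).symm)
  refine ⟨?_, ?_, ?_⟩
  · obtain ⟨a, ha, b, hb, -, rfl⟩ := h
    exact Ee_sq (mul_mem (subset_closure ha) (subset_closure hb))
  · obtain ⟨a, ha, b, hb, hab, rfl⟩ := h
    exact hne ha hab
  · rcases hE.inB_iff.1 h with rfl | rfl | rfl
    exacts [hE.not_xy, hE.not_xw, hE.not_yw]

end Except

namespace Central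

variable (hC : Central G) {S T U V : Sylow 2 G} {c : Q G} {x y w : Q G}
include hC

variable (hD : ∃ S T : Sylow 2 G, S ≠ T ∧ Spt S ⊓ Spt T ≠ ⊥)
include hD

/-- The elements of the first kind modulo the local core. -/
theorem X1_classes (hc : c ≠ 1) (hS : c ∈ Spt S) (hT : c ∈ Spt T) (hne : hC.img hT hD ≠ hC.img hS hD) :
    ∃ (q : ℕ) (M : Subgroup (Lc c ⧸ Cfsg.pCore 2 (Lc c))), (∃ n, 2 ≤ n ∧ q = 2 ^ n) ∧ Nat.card M = q ∧
      (∀ a : Hc c, pr (a : G) ∈ X1 S → QuotientGroup.mk' _ (phi c a) ∈ M) ∧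
      ∀ m ∈ M, m ≠ 1 → ∃ a : Hc c, pr (a : G) ∈ X1 S ∧ QuotientGroup.mk' _ (phi c a) = m := by
  classical
  haveI := Fact.mk Nat.prime_two
  obtain ⟨z, hz, hz2⟩ := hC.exists_z
  obtain ⟨q, hq, hdata⟩ := hC.exists_data hD hc hS hT hne hz hz2
  obtain ⟨g, J, hL⟩ := hdata _ _ hne
  set π := QuotientGroup.mk' (Cfsg.pCore 2 (Lc c)) with hπ
  have hπ1 : ∀ {y : Lc c}, π y = 1 ↔ y ∈ Cfsg.pCore 2 (Lc c) := fun {y} => QuotientGroup.eq_one_iff y
  have hzz := involution_sq (hC.phi_z hD hS hz hz2)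
  have hcardM : Nat.card (J.map π) = q := by
    set f := π.comp J.subtype with hf
    have hk : f.ker = (Cfsg.pCore 2 (Lc c)).subgroupOf J := Subgroup.ext fun j => by
      rw [MonoidHom.mem_ker, mem_subgroupOf]; exact hπ1
    have hr : f.range = J.map π := by rw [hf, MonoidHom.range_comp, Subgroup.range_subtype]
    have h := ((Cfsg.pCore 2 (Lc c)).subgroupOf J).card_mul_index
    rw [← hk, Subgroup.index_ker, hr] at h
    rcases hL.kind with ⟨-, hJ, hJD⟩ | ⟨hq4, hJ, hsq⟩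
    · rw [hk, show (Cfsg.pCore 2 (Lc c)).subgroupOf J = ⊥ from
        subgroupOf_eq_bot.2 (disjoint_iff.2 (by rw [inf_comm]; exact hJD)), card_bot, one_mul, hJ] at h
      exact h
    · set zL := phi c ⟨z, pCore_le_Hc c hz⟩ with hzL
      have hzJ : zL ∈ J := by
        by_contra hzJ
        haveI : Nontrivial J := Finite.one_lt_card_iff_nontrivial.1 (by rw [hJ]; norm_num)
        obtain ⟨⟨j, hj⟩, hj1⟩ := exists_ne (1 : J)
        have := hsq j hj (fun e => hj1 (Subtype.ext e)) fun e => hzJ (e ▸ hj)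
        exact hzJ (this ▸ mul_mem hj hj)
      have h2 : Nat.card f.ker = 2 := by
        rw [hk]
        haveI := Fintype.ofFinite ↥((Cfsg.pCore 2 (Lc c)).subgroupOf J)
        rw [Nat.card_eq_fintype_card, ← Finset.card_univ,
          show (Finset.univ : Finset ↥((Cfsg.pCore 2 (Lc c)).subgroupOf J)) =
            {1, ⟨⟨zL, hzJ⟩, mem_subgroupOf.2 (hC.phi_core hD hS (Or.inr (pr_eq_one_iff.2 hz)))⟩} from ?_,
          Finset.card_pair]
        · intro e
          exact involution_ne_one (hC.phi_z hD hS hz hz2)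
            (congrArg (fun t : ↥((Cfsg.pCore 2 (Lc c)).subgroupOf J) => ((t : J) : Lc c)) e).symm
        · ext e
          simp only [Finset.mem_univ, Finset.mem_insert, Finset.mem_singleton, true_iff]
          rcases hL.z_mem _ (e : J).2 (mem_subgroupOf.1 e.2) with h | h
          · exact Or.inl (Subtype.ext (Subtype.ext h))
          · exact Or.inr (Subtype.ext (Subtype.ext h))
      rw [h2, hJ] at h
      omega
  refine ⟨q, J.map π, hq, hcardM, fun a ha => ?_, ?_⟩
  · obtain ⟨j, hj, d, hd, e⟩ := (hL.sq_iff _ (hC.phi_mem_img hD hS (mem_Spt.1 ha.2.1))).1 (by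
      rw [← map_mul]
      exact hC.phi_core hD hS (Or.inr (by rw [Subgroup.coe_mul, map_mul, ha.1.sq])))
    refine ⟨j, hj, ?_⟩
    rw [e, map_mul, hπ1.2 hd, mul_one]
  · rintro _ ⟨j', hj', rfl⟩ hm
    obtain ⟨x, hx⟩ := hC.exists_X1 hD S
    obtain ⟨a, rfl⟩ := pr_surjective x
    obtain ⟨haH, haS⟩ := hC.lift_facts hD hS hx
    obtain ⟨j, hj, d, hd, e⟩ := (hL.sq_iff _ (hC.phi_mem_img hD hS (s := ⟨a, haH⟩) haS)).1 (by
      rw [← map_mul]
      exact hC.phi_core hD hS (Or.inr (by rw [Subgroup.coe_mul, map_mul, hx.1.sq])))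
    have hjD : j ∉ Cfsg.pCore 2 (Lc c) := fun h =>
      hC.X1_not_core hD hS hT hne (a := ⟨a, haH⟩) hx (e ▸ mul_mem h hd)
    obtain ⟨i, hi⟩ := hL.g_trans j hj j' hj' hjD fun h => hm (hπ1.2 h)
    obtain ⟨g', hg'S, hg'⟩ := hC.exists_lift hD hS hL.fix_S
    refine ⟨g' ^ i * ⟨a, haH⟩ * (g' ^ i)⁻¹, ?_, ?_⟩
    · simp only [Subgroup.coe_mul, InvMemClass.coe_inv, SubmonoidClass.coe_pow, map_mul, map_inv]
      have hfix : (g' : G) ^ i • S = S := by
        rw [Sylow.smul_eq_iff_mem_normalizer]; exact pow_mem (Sylow.smul_eq_iff_mem_normalizer.1 hg'S) i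
      exact X1_conj hfix hx
    · have h1 := hπ1.2 hi
      rw [map_mul, map_inv, inv_mul_eq_one] at h1
      rw [← h1]
      simp only [map_mul, map_inv, map_pow, hg', e, hπ1.2 hd, mul_one]

/-- At an exceptional point the images of the three are the three nontrivial classes. -/
theorem except_images (hc : c ≠ 1) (hS : c ∈ Spt S) (hT : c ∈ Spt T) (hne : hC.img hT hD ≠ hC.img hS hD)
    (hE : Except S x y w) {a b d : Hc c} (ha : pr (a : G) = x) (hb : pr (b : G) = y) (hd : pr (d : G) = w) :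
    phi c (a * b * d) ∈ Cfsg.pCore 2 (Lc c) ∧ phi c (a * b) ∉ Cfsg.pCore 2 (Lc c) ∧
      phi c (a * d) ∉ Cfsg.pCore 2 (Lc c) ∧ phi c (b * d) ∉ Cfsg.pCore 2 (Lc c) := by
  classical
  obtain ⟨q, M, ⟨n, hn, hq⟩, hcard, hin, hout⟩ := hC.X1_classes hD hc hS hT hne
  set π := QuotientGroup.mk' (Cfsg.pCore 2 (Lc c)) with hπ
  have hπ1 : ∀ {y : Lc c}, π y = 1 ↔ y ∈ Cfsg.pCore 2 (Lc c) := fun {y} => QuotientGroup.eq_one_iff y
  set A := π (phi c a) with hA
  set B := π (phi c b) with hB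
  set D := π (phi c d) with hDd
  have hAM : A ∈ M := hin a (ha.symm ▸ hE.hx)
  have hBM : B ∈ M := hin b (hb.symm ▸ hE.hy)
  have hDM : D ∈ M := hin d (hd.symm ▸ hE.hw)
  have hsqP : ∀ {t : Hc c}, pr (t : G) ∈ X1 S → π (phi c t) * π (phi c t) = 1 := fun {t} ht => by
    rw [← map_mul, ← map_mul]
    exact hπ1.2 (hC.phi_core hD hS (Or.inr (by rw [Subgroup.coe_mul, map_mul, ht.1.sq])))
  have hall : ∀ m ∈ M, m = 1 ∨ m = A ∨ m = B ∨ m = D := by
    intro m hm
    by_cases hm1 : m = 1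
    · exact Or.inl hm1
    obtain ⟨t, ht, rfl⟩ := hout m hm hm1
    have key : ∀ s : Hc c, pr (t : G) = pr (s : G) → π (phi c t) = π (phi c s) := fun s h => by
      rw [← inv_mul_eq_one, ← map_inv, ← map_mul, ← map_inv, ← map_mul]
      exact hπ1.2 (hC.phi_core hD hS (Or.inr (by
        rw [Subgroup.coe_mul, InvMemClass.coe_inv, map_mul, map_inv, h, inv_mul_cancel])))
    rcases hE.only _ ht with h | h | h
    · exact Or.inr (Or.inl (key a (h.trans ha.symm)))
    · exact Or.inr (Or.inr (Or.inl (key b (h.trans hb.symm))))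
    · exact Or.inr (Or.inr (Or.inr (key d (h.trans hd.symm))))
  have h4 : ∀ s : Finset (Lc c ⧸ Cfsg.pCore 2 (Lc c)), (∀ m ∈ M, m ∈ s) → 4 ≤ s.card := by
    intro s hs
    haveI := Fintype.ofFinite M
    have h1 : Nat.card M ≤ s.card := by
      rw [← Nat.card_eq_finsetCard s]
      exact Nat.card_le_card_of_injective (fun m : M => (⟨m, hs m m.2⟩ : ↥s)) fun m m' h =>
        Subtype.ext (congrArg Subtype.val h :)
    have h2 : 2 ^ 2 ≤ 2 ^ n := Nat.pow_le_pow_right two_pos hn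
    omega
  have hdist : A ≠ B ∧ A ≠ D ∧ B ≠ D ∧ A ≠ 1 ∧ B ≠ 1 := by
    refine ⟨fun e => ?_, fun e => ?_, fun e => ?_, fun e => ?_, fun e => ?_⟩
    all_goals
      have h := h4 {1, A, B, D} fun m hm => by
        simpa only [Finset.mem_insert, Finset.mem_singleton] using hall m hm
      revert h
    · rw [e]; intro h
      have h3 : ({1, B, B, D} : Finset (Lc c ⧸ Cfsg.pCore 2 (Lc c))).card ≤ 3 := by
        rw [Finset.insert_eq_of_mem (show B ∈ ({B, D} : Finset _) by simp)]; exact Finset.card_le_three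
      omega
    · rw [e]; intro h
      have h3 : ({1, D, B, D} : Finset (Lc c ⧸ Cfsg.pCore 2 (Lc c))).card ≤ 3 := by
        rw [Finset.insert_eq_of_mem (show D ∈ ({B, D} : Finset _) by simp)]; exact Finset.card_le_three
      omega
    · rw [e]; intro h
      have h3 : ({1, A, D, D} : Finset (Lc c ⧸ Cfsg.pCore 2 (Lc c))).card ≤ 3 := by
        rw [Finset.insert_eq_of_mem (show D ∈ ({D} : Finset _) by simp)]; exact Finset.card_le_three
      omega
    · rw [e]; intro h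
      have h3 : ({1, 1, B, D} : Finset (Lc c ⧸ Cfsg.pCore 2 (Lc c))).card ≤ 3 := by
        rw [Finset.insert_eq_of_mem (show (1 : Lc c ⧸ Cfsg.pCore 2 (Lc c)) ∈ ({1, B, D} : Finset _) by simp)]
        exact Finset.card_le_three
      omega
    · rw [e]; intro h
      have h3 : ({1, A, 1, D} : Finset (Lc c ⧸ Cfsg.pCore 2 (Lc c))).card ≤ 3 := by
        rw [Finset.insert_eq_of_mem (show (1 : Lc c ⧸ Cfsg.pCore 2 (Lc c)) ∈ ({A, 1, D} : Finset _) by simp)]
        exact Finset.card_le_three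
      omega
  obtain ⟨hAB, hAD, hBD, hA1, hB1⟩ := hdist
  have hsA : A * A = 1 := hsqP (ha.symm ▸ hE.hx)
  have hsB : B * B = 1 := hsqP (hb.symm ▸ hE.hy)
  have hABD : A * B = D := by
    rcases hall _ (mul_mem hAM hBM) with h | h | h | h
    · exact absurd ((eq_inv_of_mul_eq_one_left h).trans (inv_eq_of_mul_eq_one_right hsB)) hAB
    · exact absurd (mul_eq_left.1 h) hB1
    · exact absurd (mul_eq_right.1 h) hA1
    · exact h
  have hsD : D * D = 1 := hsqP (hd.symm ▸ hE.hw)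
  refine ⟨hπ1.1 ?_, fun h => ?_, fun h => ?_, fun h => ?_⟩
  · rw [map_mul, map_mul, map_mul, map_mul, ← hA, ← hB, ← hDd, hABD, hsD]
  · have h := hπ1.2 h
    rw [map_mul, map_mul] at h
    exact hAB ((eq_inv_of_mul_eq_one_left h).trans (inv_eq_of_mul_eq_one_right hsB))
  · have h := hπ1.2 h
    rw [map_mul, map_mul] at h
    exact hAD ((eq_inv_of_mul_eq_one_left h).trans (inv_eq_of_mul_eq_one_right hsD))
  · have h := hπ1.2 h
    rw [map_mul, map_mul] at h
    exact hBD ((eq_inv_of_mul_eq_one_left h).trans (inv_eq_of_mul_eq_one_right hsD))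

/-- All points of a pair product have the same image. -/
theorem img_eq_of_inB (hE : Except S x y w) (hB : InB S c) (hS : c ∈ Spt S) (hU : c ∈ Spt U) :
    hC.img hU hD = hC.img hS hD := by
  by_contra hne
  obtain ⟨a, rfl⟩ := pr_surjective x
  obtain ⟨b, rfl⟩ := pr_surjective y
  obtain ⟨d, rfl⟩ := pr_surjective w
  obtain ⟨haH, -⟩ := hC.lift_facts hD hS hE.hx
  obtain ⟨hbH, -⟩ := hC.lift_facts hD hS hE.hy
  obtain ⟨hdH, -⟩ := hC.lift_facts hD hS hE.hw
  obtain ⟨-, h1, h2, h3⟩ := hC.except_images hD (hE.inB_ne hB).2.1 hS hU hne hE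
    (a := ⟨a, haH⟩) (b := ⟨b, hbH⟩) (d := ⟨d, hdH⟩) rfl rfl rfl
  rcases hE.inB_iff.1 hB with h | h | h
  · exact h1 (hC.phi_core hD hS (Or.inl (by rw [Subgroup.coe_mul, map_mul]; exact h.symm)))
  · exact h2 (hC.phi_core hD hS (Or.inl (by rw [Subgroup.coe_mul, map_mul]; exact h.symm)))
  · exact h3 (hC.phi_core hD hS (Or.inl (by rw [Subgroup.coe_mul, map_mul]; exact h.symm)))

/-- A point moved by the odd core contains all pair products. -/
theorem inB_mem_of_smul (hS : c ∈ Spt S) {o : G} (ho : o ∈ Oc c) (hmove : o • S ≠ S) :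
    ∃ x y w, Except S x y w ∧ ∀ e, InB S e → e ∈ Spt (o • S) := by
  obtain ⟨x, y, w, hE, h1, h2, h3⟩ := (hC.smul_or_except hD hS ho).resolve_left hmove
  refine ⟨x, y, w, hE, fun e he => ?_⟩
  rcases hE.inB_iff.1 he with rfl | rfl | rfl
  exacts [h1, h2, h3]

theorem inB_points (hE : Except S x y w) (hB : InB S c) (hU : c ∈ Spt U) {e : Q G} (he : InB S e) :
    e ∈ Spt U := by
  obtain ⟨o, ho, rfl⟩ := hC.img_eq hD hB.mem hU (hC.img_eq_of_inB hD hE hB hB.mem hU)
  by_cases hm : o • S = S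
  · rw [hm]; exact he.mem
  · obtain ⟨-, -, -, -, h⟩ := hC.inB_mem_of_smul hD hB.mem ho hm
    exact h e he

/-- The intersection of two points containing the pair products consists of them. -/
theorem inB_of_mem (hE : Except S x y w) (hne : S ≠ U) (hall : ∀ e, InB S e → e ∈ Spt U) {e : Q G}
    (he : e ∈ Spt S) (heU : e ∈ Spt U) : e = 1 ∨ InB S e := by
  obtain ⟨z, hz, hz2⟩ := hC.exists_z
  obtain ⟨a, ha, rfl, -⟩ := id hE.hx.1
  obtain ⟨b, hb, rfl, -⟩ := id hE.hy.1
  obtain ⟨d, hd, rfl, -⟩ := id hE.hw.1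
  obtain ⟨s, rfl⟩ := pr_surjective e
  obtain ⟨hba, -⟩ := hC.anticommute hz hz2 ha hb (X1_mul_comm hE.hx hE.hy) hE.xy hE.not_xy
  obtain ⟨hda, -⟩ := hC.anticommute hz hz2 ha hd (X1_mul_comm hE.hx hE.hw) hE.xw hE.not_xw
  obtain ⟨hdb, -⟩ := hC.anticommute hz hz2 hb hd (X1_mul_comm hE.hy hE.hw) hE.yw hE.not_yw
  have hzc := fun g : G => hC.comm_core hz g
  have mv : ∀ (g h : G), g * (z * h) = z * (g * h) := fun g h => by rw [← mul_assoc, hzc g, mul_assoc]
  have swap : ∀ {g k : G}, k * g = g * k * z → ∀ h, k * (g * h) = z * (g * (k * h)) := fun {g k} e h => by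
    rw [← mul_assoc, e, hzc (g * k)]; group
  have sq : ∀ {g : G}, orderOf g = 2 → ∀ h, g * (g * h) = h := fun e h => by
    rw [← mul_assoc, involution_sq e, one_mul]
  have sab := swap hba
  have sad := swap hda
  have sbd := swap hdb
  have ma := mv a
  have mb := mv b
  have md := mv d
  have qa := sq ha
  have qb := sq hb
  have qd := sq hd
  have qz := sq hz2
  have sortd : ∀ {l r : G}, l * 1 = r * 1 → l = r := fun h => by rwa [mul_one, mul_one] at h
  have huu : a * b * (a * b) = z := sortd (by simp only [mul_assoc, sab, ma, mb, qa, qb])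
  have hvu : a * d * (a * b) = a * b * (a * d) * z := sortd (by
    simp only [mul_assoc, sab, sad, sbd, ma, mb, md, qa, qb, qd, qz])
  have hvv : a * d * (a * d) = z := sortd (by simp only [mul_assoc, sad, ma, md, qa, qd])
  have hmemM : ∀ {t : G}, InB S (pr t) → t ∈ (S : Subgroup G) ⊓ (U : Subgroup G) := fun ht =>
    ⟨mem_Spt.1 ht.mem, mem_Spt.1 (hall _ ht)⟩
  have hxyB : InB S (pr (a * b)) := hE.inB_iff.2 (Or.inl (map_mul _ _ _))
  have hxwB : InB S (pr (a * d)) := hE.inB_iff.2 (Or.inr (Or.inl (map_mul _ _ _)))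
  obtain ⟨ε, hε, hs'⟩ := mem_of_quaternion_pair (M := (S : Subgroup G) ⊓ (U : Subgroup G))
    (S.isPGroup'.to_le inf_le_left) (involution_sq hz2) (fun g => hC.comm_core hz g)
    (hmemM hxyB) (hmemM hxwB) huu hvu (fun t ht htt => by
      by_contra hno
      push Not at hno
      exact hne (hC.small S U z t hz2 (orderOf_eq_two_of hno.1 htt) hno.2.symm
        (hC.comm_core hz t).symm (HallGen.pCore_le_sylow S hz) ht.1 (HallGen.pCore_le_sylow U hz) ht.2))
    (show s ∈ (S : Subgroup G) ⊓ (U : Subgroup G) from ⟨mem_Spt.1 he, mem_Spt.1 heU⟩)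
    (hC.comm_four hD hz hz2 huu (hxyB.central _ he))
    (hC.comm_four hD hz hz2 hvv (hxwB.central _ he))
  have hε1 : pr ε = 1 := by
    rcases hε with rfl | rfl
    · exact map_one _
    · exact pr_eq_one_iff.2 hz
  rcases hs' with h | h | h | h
  · exact Or.inl (h ▸ hε1)
  · right; rw [h, map_mul _ (a * b), hε1, mul_one]; exact hxyB
  · right; rw [h, map_mul _ (a * d), hε1, mul_one]; exact hxwB
  · right
    rw [h, map_mul _ (a * b * (a * d)), hε1, mul_one, map_mul, map_mul, map_mul]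
    refine hE.inB_iff.2 (Or.inr (Or.inr ?_))
    rw [X1_mul_comm hE.hx hE.hy, mul_assoc, ← mul_assoc (pr a) (pr a), hE.hx.1.sq, one_mul]

/-- The pair products are the same at all their points. -/
theorem inB_iff_points (hE : Except S x y w) (hB : InB S c) (hU : c ∈ Spt U) (e : Q G) :
    InB U e ↔ InB S e := by
  haveI := Fact.mk Nat.prime_two
  by_cases hUS : U = S
  · rw [hUS]
  obtain ⟨o, ho, hoU⟩ := hC.img_eq hD hU hB.mem (hC.img_eq_of_inB hD hE hB hB.mem hU).symm
  obtain ⟨x', y', w', hE', h'⟩ := hC.inB_mem_of_smul hD hU ho (fun e => hUS (e.symm.trans hoU))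
  have h1 : ∀ e, InB U e → InB S e := fun e he => by
    rcases hC.inB_of_mem hD hE (Ne.symm hUS) (fun _ h => hC.inB_points hD hE hB hU h)
      (hoU ▸ h' e he) he.mem with h | h
    · exact absurd h (hE'.inB_ne he).2.1
    · exact h
  refine ⟨h1 e, fun he => ?_⟩
  rcases hC.inB_of_mem hD hE' hUS (fun _ h => hoU ▸ h' _ h) (hC.inB_points hD hE hB hU he) he.mem with h | h
  · exact absurd h (hE.inB_ne he).2.1
  · exact h

/-- Outside the pair products the images separate the points. -/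
theorem img_inj_of_not_inB (hE : Except S x y w) (hS : c ∈ Spt S) (hc : c ≠ 1) (hB : ¬ InB S c)
    (hU : c ∈ Spt U) (hV : c ∈ Spt V) (h : hC.img hV hD = hC.img hU hD) : U = V := by
  obtain ⟨o, ho, rfl⟩ := hC.img_eq hD hU hV h
  by_contra hne
  obtain ⟨x', y', w', hE', hall⟩ := hC.inB_mem_of_smul hD hU ho (Ne.symm hne)
  rcases hC.inB_of_mem hD hE' hne hall hU hV with h1 | h1
  · exact hc h1
  · exact hB ((hC.inB_iff_points hD hE' h1 hS c).2 h1)

/-- The points of such an involution contain the product of the three. -/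
theorem w0_mem_points (hE : Except S x y w) (hS : c ∈ Spt S) (hc : c ≠ 1) (hB : ¬ InB S c) (hU : c ∈ Spt U) :
    x * y * w ∈ Spt U := by
  by_cases hUS : U = S
  · rw [hUS]; exact Ee_le hE.w0_mem
  obtain ⟨a, rfl⟩ := pr_surjective x
  obtain ⟨b, rfl⟩ := pr_surjective y
  obtain ⟨d, rfl⟩ := pr_surjective w
  obtain ⟨haH, haS⟩ := hC.lift_facts hD hS hE.hx
  obtain ⟨hbH, hbS⟩ := hC.lift_facts hD hS hE.hy
  obtain ⟨hdH, hdS⟩ := hC.lift_facts hD hS hE.hw
  have hne : hC.img hU hD ≠ hC.img hS hD := fun h => hUS (hC.img_inj_of_not_inB hD hE hS hc hB hS hU h).symm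
  obtain ⟨h1, -⟩ := hC.except_images hD hc hS hU hne hE (a := ⟨a, haH⟩) (b := ⟨b, hbH⟩) (d := ⟨d, hdH⟩)
    rfl rfl rfl
  have hmS : a * b * d ∈ (S : Subgroup G) := mul_mem (mul_mem haS hbS) hdS
  obtain ⟨o, ho, hmem⟩ := hC.exists_smul_mem hD hU
    (hC.two_power_of_mem hD hmS (⟨a, haH⟩ * ⟨b, hbH⟩ * ⟨d, hdH⟩ : Hc c).2)
    (HallGen.pCore_le_sylow _ h1)
  have hoc := hC.mem_Spt_conj (Oc_le ho) hU
  rw [hC.img_inj_of_not_inB hD hE hS hc hB hU hoc (hC.img_smul_Oc hD hU ho hoc rfl)]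
  rw [← map_mul, ← map_mul]
  exact mem_Spt.2 hmem

theorem not_inB_all (hE : Except S x y w)
    (hall : ∀ (U : Sylow 2 G) (c : Q G), Multi c → c ∈ Spt U → InB U c) : False := by
  haveI := Fact.mk Nat.prime_two
  obtain ⟨h₀, hh₀⟩ := hC.exists_multi hD
  obtain ⟨ĥ, hĥ⟩ := pr_surjective h₀
  refine hh₀.2.1 (core_eq_one fun b => ?_)
  by_contra hb
  obtain ⟨x₁, hx₁⟩ := hC.exists_X1 hD b
  obtain ⟨u, huu, hu1, hux, huh⟩ := hC.exists_between hx₁.1 hh₀.1 hh₀.2.1 (hC.not_isI_of_multi hh₀)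
  have hub := hC.mem_Spt_of_commute hx₁.1 hx₁.2.1 huu hux
  by_cases huI : IsI u
  · exact hb (hC.mem_Spt_of_commute huI hub hh₀.1 huh.symm)
  -- `u` lies in two points
  obtain ⟨V₀, hV₀⟩ : ∃ V : Sylow 2 G, h₀ ∈ Spt V := by
    obtain ⟨-, -, A, -, -, hA, -⟩ := hh₀; exact ⟨A, hA⟩
  have hĥV : ĥ ∈ (V₀ : Subgroup G) := mem_Spt.1 (hĥ ▸ hV₀)
  have hĥb : ĥ • b ≠ b := by
    intro h
    have hp : IsPGroup 2 (zpowers ĥ) := V₀.isPGroup'.to_le (zpowers_le.2 hĥV)
    have h' : ĥ ∈ zpowers ĥ ⊓ normalizer (b : Set G) := ⟨mem_zpowers _, Sylow.smul_eq_iff_mem_normalizer.1 h⟩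
    rw [hp.inf_normalizer_sylow b] at h'
    exact hb (hĥ ▸ mem_Spt.2 h'.2)
  have hum : Multi u := by
    refine ⟨huu, hu1, b, ĥ • b, Ne.symm hĥb, hub, ?_⟩
    have := pr_conj_mem_Spt (g := ĥ) hub
    rwa [hĥ, ← huh, mul_inv_cancel_right] at this
  have huB := hall b u hum hub
  obtain ⟨g, hg⟩ := MulAction.exists_smul_eq G S b
  have hEb : Except b (pr g * x * (pr g)⁻¹) (pr g * y * (pr g)⁻¹) (pr g * w * (pr g)⁻¹) := hg ▸ hE.conj g
  -- the points of `u` are an orbit of odd size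
  let X := MulAction.orbit (Oc u) b
  have hXmem : ∀ V : Sylow 2 G, V ∈ X ↔ u ∈ Spt V := by
    intro V
    constructor
    · rintro ⟨⟨o, ho⟩, rfl⟩
      exact hC.mem_Spt_conj (Oc_le ho) hub
    · intro hV
      obtain ⟨o, ho, e⟩ := hC.img_eq hD hub hV (hC.img_eq_of_inB hD hEb huB hub hV)
      exact ⟨⟨o, ho⟩, e⟩
  have hĥH : ĥ ∈ Hc u := mem_Hc.2 (by rw [hĥ]; exact huh.symm)
  letI : MulAction (zpowers ĥ) X :=
    { smul := fun t V => ⟨(t : G) • (V : Sylow 2 G), (hXmem _).2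
        (hC.mem_Spt_conj ((zpowers_le.2 hĥH) t.2) ((hXmem _).1 V.2))⟩
      one_smul := fun V => Subtype.ext (one_smul G (V : Sylow 2 G))
      mul_smul := fun t s V => Subtype.ext (mul_smul (t : G) (s : G) (V : Sylow 2 G)) }
  have hodd : ¬ 2 ∣ Nat.card X := by
    intro h
    have h1 : Nat.card X ∣ Nat.card (Oc u) := by
      rw [show Nat.card X = (MulAction.stabilizer (Oc u) b).index from
        (MulAction.index_stabilizer (Oc u) b).symm]
      exact Subgroup.index_dvd_card _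
    exact (Nat.not_even_iff_odd.2 (CfsgLib.ZStar.odd_card_oddCore (Hc u)))
      (even_iff_two_dvd.2 ((h.trans h1).trans (Subgroup.card_map_dvd _ _)))
  obtain ⟨⟨V, hV⟩, hfix⟩ :=
    (V₀.isPGroup'.to_le (zpowers_le.2 hĥV)).nonempty_fixed_point_of_prime_not_dvd_card X hodd
  have hVf : ĥ • V = V := congrArg Subtype.val (hfix ⟨ĥ, mem_zpowers ĥ⟩)
  have hp : IsPGroup 2 (zpowers ĥ) := V₀.isPGroup'.to_le (zpowers_le.2 hĥV)
  have h' : ĥ ∈ zpowers ĥ ⊓ normalizer (V : Set G) := ⟨mem_zpowers _, Sylow.smul_eq_iff_mem_normalizer.1 hVf⟩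
  rw [hp.inf_normalizer_sylow V] at h'
  have hVh : h₀ ∈ Spt V := hĥ ▸ mem_Spt.2 h'.2
  exact hb ((hC.inB_iff_points hD hEb huB ((hXmem V).1 hV) h₀).1 (hall V h₀ hh₀ hVh)).mem

/-- There is no exceptional point. -/
theorem no_except (hE : Except S x y w) : False := by
  haveI := Fact.mk Nat.prime_two
  by_cases hall : ∀ c : Q G, Multi c → c ∈ Spt S → InB S c
  · refine hC.not_inB_all hD hE fun U c hc hcU => ?_
    obtain ⟨g, rfl⟩ := MulAction.exists_smul_eq G S U
    have h0 := pr_conj_mem_Spt (g := g⁻¹) hcU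
    rw [inv_smul_smul] at h0
    have h1 := hall _ (hc.conj g⁻¹) h0
    have h2 := h1.conj g
    rwa [map_inv, inv_inv, show pr g * ((pr g)⁻¹ * c * pr g) * (pr g)⁻¹ = c by group] at h2
  push Not at hall
  obtain ⟨c, hc, hcS, hcB⟩ := hall
  set v := x * y * w with hv
  have hvS : v ∈ Spt S := Ee_le hE.w0_mem
  have hvm : Multi v := by
    obtain ⟨-, -, U, V, hne, hU, hV⟩ := id hc
    exact ⟨Ee_sq hE.w0_mem, hE.w0_ne, U, V, hne, hC.w0_mem_points hD hE hcS hc.2.1 hcB hU,
      hC.w0_mem_points hD hE hcS hc.2.1 hcB hV⟩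
  obtain ⟨g, hg, hne⟩ := hC.not_isolated hvm.1 hvm.2.1 hvS
  set u := pr g * v * (pr g)⁻¹ with hu
  have hum : Multi u := hvm.conj g
  have huU : u ∈ Spt (g • S) := pr_conj_mem_Spt hvS
  have huB : ¬ InB S u := by
    intro h
    exact (hE.w0_not_inB) (((hC.inB_iff_points hD hE h huU u).2 h).of_conj)
  have hUne : g • S ≠ S := by
    intro hgS
    refine hne ?_
    obtain ⟨a, ha⟩ : ∃ a, a = pr g * x * (pr g)⁻¹ := ⟨_, rfl⟩
    have hx' := X1_conj hgS hE.hx
    have hy' := X1_conj hgS hE.hy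
    have hw' := X1_conj hgS hE.hw
    have cxy := X1_mul_comm hE.hx hE.hy
    have cxw := X1_mul_comm hE.hx hE.hw
    have cyw := X1_mul_comm hE.hy hE.hw
    have e : u = pr g * x * (pr g)⁻¹ * (pr g * y * (pr g)⁻¹) * (pr g * w * (pr g)⁻¹) := by
      rw [hu, hv]; group
    have nxy : pr g * x * (pr g)⁻¹ ≠ pr g * y * (pr g)⁻¹ := fun e => hE.xy (mul_left_cancel (mul_right_cancel e))
    have nxw : pr g * x * (pr g)⁻¹ ≠ pr g * w * (pr g)⁻¹ := fun e => hE.xw (mul_left_cancel (mul_right_cancel e))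
    have nyw : pr g * y * (pr g)⁻¹ ≠ pr g * w * (pr g)⁻¹ := fun e => hE.yw (mul_left_cancel (mul_right_cancel e))
    have p1 : y * x * w = x * y * w := by rw [← cxy]
    have p2 : x * w * y = x * y * w := by rw [mul_assoc, ← cyw, ← mul_assoc]
    have p3 : w * x * y = x * y * w := by rw [← cxw, p2]
    have p4 : y * w * x = x * y * w := by rw [mul_assoc, ← cxw, ← mul_assoc, p1]
    have p5 : w * y * x = x * y * w := by rw [← cyw, p4]
    rw [e, hv]
    rcases hE.only _ hx' with h1 | h1 | h1 <;> rcases hE.only _ hy' with h2 | h2 | h2 <;>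
      rcases hE.only _ hw' with h3 | h3 | h3 <;> simp only [h1, h2, h3] at nxy nxw nyw ⊢ <;>
      first
      | exact absurd rfl nxy
      | exact absurd rfl nxw
      | exact absurd rfl nyw
      | assumption
      | rfl
  -- every point of `u` contains `v`
  have hvU : v ∈ Spt (g • S) := hC.w0_mem_points hD hE hg hum.2.1 huB huU
  have hneU : hC.img hvU hD ≠ hC.img hvS hD := fun h =>
    hUne (hC.img_inj_of_not_inB hD hE hvS hvm.2.1 hE.w0_not_inB hvS hvU h).symm
  obtain ⟨z, hz, hz2⟩ := hC.exists_z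
  obtain ⟨q, -, hdata⟩ := hC.exists_data hD hvm.2.1 hvS hvU hneU hz hz2
  obtain ⟨g₀, J, hL⟩ := hdata _ _ hneU
  -- `u` is central at `S`
  obtain ⟨r, hr⟩ := pr_surjective u
  have hrS : r ∈ (S : Subgroup G) := mem_Spt.1 (hr ▸ hg)
  have hSH : ∀ {s : G}, s ∈ (S : Subgroup G) → s ∈ Hc v := fun hs =>
    mem_Hc.2 (Ee_central hE.w0_mem _ (mem_Spt.2 hs))
  have hrU : r ∈ ((g • S : Sylow 2 G) : Subgroup G) := mem_Spt.1 (hr ▸ huU)
  have hrcore : phi v ⟨r, hSH hrS⟩ ∈ Cfsg.pCore 2 (Lc v) := by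
    rw [← hC.ti_L hD hvm.2.1 hvS _ _ (Ne.symm hneU)]
    exact ⟨hC.phi_mem_img hD hvS (s := ⟨r, hSH hrS⟩) hrS, hC.phi_mem_img hD hvU (s := ⟨r, hSH hrS⟩) hrU⟩
  have huUc : ∀ t ∈ Spt (g • S), t * u = u * t := by
    intro t ht
    have h0 := pr_conj_mem_Spt (g := g⁻¹) ht
    rw [inv_smul_smul, map_inv, inv_inv] at h0
    have h1 := Ee_central hE.w0_mem _ h0
    rw [hu, hv]
    calc t * (pr g * (x * y * w) * (pr g)⁻¹) = pr g * ((pr g)⁻¹ * t * pr g * (x * y * w)) * (pr g)⁻¹ := by group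
      _ = pr g * (x * y * w * ((pr g)⁻¹ * t * pr g)) * (pr g)⁻¹ := by rw [h1]
      _ = _ := by group
  have hcentS : ∀ q ∈ Spt S, q * u = u * q := by
    intro q hq
    obtain ⟨s, rfl⟩ := pr_surjective q
    have hsS := mem_Spt.1 hq
    set s' : Hc v := ⟨s, hSH hsS⟩
    set r' : Hc v := ⟨r, hSH hrS⟩
    obtain ⟨δ, hδ, hcen⟩ := hL.inner _ (hC.phi_mem_img hD hvS (s := s') hsS)
    obtain ⟨t, htU, rfl⟩ := (hC.mem_img_iff hD hvU).1 (HallGen.pCore_le_sylow (hC.img hvU hD) hδ)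
    have hp : pr ((t * r' * t⁻¹ * r'⁻¹ : Hc v) : G) = 1 := by
      simp only [Subgroup.coe_mul, InvMemClass.coe_inv, map_mul, map_inv, r', hr, huUc _ (mem_Spt.2 htU)]
      group
    set P' : Hc v := t * r' * t⁻¹ * r'⁻¹ with hP'
    have hP'S : (P' : G) ∈ (S : Subgroup G) := HallGen.pCore_le_sylow S (pr_eq_one_iff.1 hp)
    have hmem : ((s' * r' * s'⁻¹ * r'⁻¹ : Hc v) : G) ∈ (S : Subgroup G) :=
      mul_mem (mul_mem (mul_mem hsS hrS) (inv_mem hsS)) (inv_mem hrS)
    have heq : s' * r' * s'⁻¹ * r'⁻¹ = P' := by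
      refine hC.phi_inj hD (S := S) hmem hP'S ?_
      have h1 := hcen _ hrcore
      simp only [hP', map_mul, map_inv]
      calc phi v s' * phi v r' * (phi v s')⁻¹ * (phi v r')⁻¹
          = phi v t * ((phi v t)⁻¹ * phi v s' * phi v r') * (phi v s')⁻¹ * (phi v r')⁻¹ := by group
        _ = phi v t * (phi v r' * ((phi v t)⁻¹ * phi v s')) * (phi v s')⁻¹ * (phi v r')⁻¹ := by rw [h1]
        _ = _ := by group
    have h2 : pr ((s' * r' * s'⁻¹ * r'⁻¹ : Hc v) : G) = 1 := by rw [heq]; exact hp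
    simp only [Subgroup.coe_mul, InvMemClass.coe_inv, map_mul, map_inv, s', r', hr, mul_inv_eq_one,
      mul_inv_eq_iff_eq_mul, one_mul] at h2
    exact h2
  -- so it is `v`
  have huI : ¬ IsI u := hC.not_isI_of_multi hum
  obtain ⟨a, ha, rfl, -⟩ := id hE.hx.1
  obtain ⟨b, hb, rfl, -⟩ := id hE.hy.1
  obtain ⟨d, hd, rfl, -⟩ := id hE.hw.1
  obtain ⟨hba, hcard⟩ := hC.anticommute hz hz2 ha hb (X1_mul_comm hE.hx hE.hy) hE.xy hE.not_xy
  obtain ⟨hda, -⟩ := hC.anticommute hz hz2 ha hd (X1_mul_comm hE.hx hE.hw) hE.xw hE.not_xw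
  obtain ⟨hdb, -⟩ := hC.anticommute hz hz2 hb hd (X1_mul_comm hE.hy hE.hw) hE.yw hE.not_yw
  have hzc := fun g : G => hC.comm_core hz g
  have hPz : ∀ p ∈ Cfsg.pCore 2 G, p = 1 ∨ p = z := fun p hp => by
    refine hC.core_sq_one hz hz2 hp ?_
    rw [← pow_two, ← orderOf_dvd_iff_pow_eq_one, ← hcard]
    exact Subgroup.orderOf_dvd_natCard _ hp
  have hrr : r * r = z := by
    rcases hPz (r * r) (pr_eq_one_iff.1 (by rw [map_mul, hr, hum.1])) with h | h
    · exact absurd (hC.isI_of_sq (one_mem _) (hr.symm ▸ hum.2.1) (by rw [h, one_mul])) (hr.symm ▸ huI)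
    · exact h
  have hsqpair : ∀ {p q : G}, orderOf p = 2 → orderOf q = 2 → q * p = p * q * z → p * q * (p * q) = z := by
    intro p q hp hq h
    calc p * q * (p * q) = p * (q * p) * q := by group
      _ = p * p * q * (z * q) := by rw [h]; group
      _ = z := by rw [← hzc q, involution_sq hp, one_mul, ← mul_assoc, involution_sq hq, one_mul]
  have hcomm4 : ∀ {h : G}, h * h = z → (∀ q ∈ Spt S, q * pr h = pr h * q) → pr h ∈ Spt S →
      r * h = h * r ∨ r * h = h * r * z := fun hh hc _ => hC.comm_four hD hz hz2 hh (hc _ (mem_Spt.2 hrS))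
  have hkill : ∀ {p q : G}, pr p ∈ X1 S → pr q ∈ X1 S → pr p ≠ pr q → orderOf p = 2 → orderOf q = 2 →
      q * p = p * q * z → r * (p * q) = p * q * r → False := by
    intro p q hp hq hpq hp2 hq2 hanti hcm
    have hsq : r * (p * q) * (r * (p * q)) = z * z := by
      calc r * (p * q) * (r * (p * q)) = r * (p * q * r) * (p * q) := by group
        _ = r * r * (p * q * (p * q)) := by rw [← hcm]; group
        _ = z * z := by rw [hrr, hsqpair hp2 hq2 hanti]
    by_cases h1 : pr (r * (p * q)) = 1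
    · refine huB ?_
      rw [map_mul, map_mul, hr] at h1
      refine ⟨_, hq, _, hp, hpq.symm, ?_⟩
      rw [eq_inv_of_mul_eq_one_left h1, mul_inv_rev, inv_eq_of_mul_eq_one_right hq.1.sq,
        inv_eq_of_mul_eq_one_right hp.1.sq]
    · have hI := hC.isI_of_sq (one_mem _) h1 (by rw [hsq, involution_sq hz2, mul_one])
      have hmem : pr (r * (p * q)) ∈ X1 S := by
        refine ⟨hI, mem_Spt.2 (mul_mem hrS (mul_mem (mem_Spt.1 hp.2.1) (mem_Spt.1 hq.2.1))), fun t ht => ?_⟩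
        rw [map_mul, map_mul, hr]
        have c1 := hcentS t ht
        have c2 := hp.2.2 t ht
        have c3 := hq.2.2 t ht
        rw [← mul_assoc, c1, mul_assoc u t, ← mul_assoc t, c2, mul_assoc (pr p) t, c3]; group
      have hu' : u = pr (r * (p * q)) * (pr q * pr p) := by
        rw [map_mul, map_mul, hr]
        calc u = u * (pr p * (pr q * pr q) * pr p) := by rw [hq.1.sq, mul_one, hp.1.sq, mul_one]
          _ = _ := by group
      have hbad : u = pr a * pr b * pr d ∨ (∃ t ∈ X1 S, u = t) := by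
        have cab := X1_mul_comm hE.hx hE.hy
        have cad := X1_mul_comm hE.hx hE.hw
        have cbd := X1_mul_comm hE.hy hE.hw
        have sa := hE.hx.1.sq
        have sb := hE.hy.1.sq
        have sd := hE.hw.1.sq
        have p1 : pr b * pr a * pr d = pr a * pr b * pr d := by rw [← cab]
        have p2 : pr a * pr d * pr b = pr a * pr b * pr d := by rw [mul_assoc, ← cbd, ← mul_assoc]
        have p3 : pr d * pr a * pr b = pr a * pr b * pr d := by rw [← cad, p2]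
        have p4 : pr b * pr d * pr a = pr a * pr b * pr d := by rw [mul_assoc, ← cad, ← mul_assoc, p1]
        have p5 : pr d * pr b * pr a = pr a * pr b * pr d := by rw [← cbd, p4]
        rcases eq_or_ne (pr (r * (p * q))) (pr q) with e | e
        · exact Or.inr ⟨_, hp, by rw [hu', e, ← mul_assoc, hq.1.sq, one_mul]⟩
        rcases eq_or_ne (pr (r * (p * q))) (pr p) with e' | e'
        · exact Or.inr ⟨_, hq, by rw [hu', e', X1_mul_comm hq hp, ← mul_assoc, hp.1.sq, one_mul]⟩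
        left
        rw [hu', ← mul_assoc]
        rcases hE.only _ hmem with h1 | h1 | h1 <;> rcases hE.only _ hp with h2 | h2 | h2 <;>
          rcases hE.only _ hq with h3 | h3 | h3 <;> simp only [h1, h2, h3] at hpq e e' ⊢ <;>
          first
          | exact absurd rfl hpq
          | exact absurd rfl e
          | exact absurd rfl e'
          | assumption
      rcases hbad with h | ⟨t, ht, h⟩
      · exact hne h
      · exact huI (h ▸ ht.1)
  have hpairc : ∀ {p q : G}, pr p ∈ X1 S → pr q ∈ X1 S → ∀ t ∈ Spt S, t * pr (p * q) = pr (p * q) * t :=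
    fun {p q} hp hq t ht => by
      rw [map_mul]; exact Ee_central (mul_mem (subset_closure hp) (subset_closure hq)) t ht
  have hpairS : ∀ {p q : G}, pr p ∈ X1 S → pr q ∈ X1 S → pr (p * q) ∈ Spt S := fun hp hq => by
    rw [map_mul]; exact mul_mem hp.2.1 hq.2.1
  rcases hcomm4 (hsqpair ha hb hba) (hpairc hE.hx hE.hy) (hpairS hE.hx hE.hy) with h1 | h1
  · exact hkill hE.hx hE.hy hE.xy ha hb hba h1
  rcases hcomm4 (hsqpair ha hd hda) (hpairc hE.hx hE.hw) (hpairS hE.hx hE.hw) with h2 | h2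
  · exact hkill hE.hx hE.hw hE.xw ha hd hda h2
  refine hkill hE.hy hE.hw hE.yw hb hd hdb ?_
  have hbd : b * d = a * b * (a * d) * z := by
    calc b * d = a * a * b * d := by rw [involution_sq ha, one_mul]
      _ = a * (a * b * z) * (z * d) := by
          rw [show a * (a * b * z) * (z * d) = a * a * b * (z * z) * d by group, involution_sq hz2, mul_one]
      _ = a * (b * a) * (z * d) := by rw [hba]
      _ = a * b * a * (d * z) := by rw [← hzc d]; group
      _ = _ := by group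
  have key : r * (a * b * (a * d)) = a * b * (a * d) * r := by
    calc r * (a * b * (a * d)) = r * (a * b) * (a * d) := by group
      _ = a * b * r * (z * (a * d)) := by rw [h1]; group
      _ = a * b * (r * (a * d)) * z := by rw [← hzc (a * d)]; group
      _ = a * b * (a * d) * r * (z * z) := by rw [h2]; group
      _ = _ := by rw [involution_sq hz2, mul_one]
  calc r * (b * d) = r * (a * b * (a * d)) * z := by rw [hbd]; group
    _ = a * b * (a * d) * (r * z) := by rw [key]; group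
    _ = a * b * (a * d) * z * r := by rw [hzc r]; group
    _ = b * d * r := by rw [hbd]

end Central

end CfsgLib.RankOneInter
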