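import Cfsg.Agent.Lib.Invol.RankOneInter.Central.LineDefs
import Cfsg.Agent.Lib.Invol.RankOneInter.Central.Exceptional

/-!
Owner: helper16. The lines of the second kind in the central case of Theorem B of S3310.

* `Quad z S T J`: a line whose moved involutions are of the second kind: kernel and `J` are quaternion groups of
  order eight, generating the central elements of the first kind modulo `O₂`.
* `quad_of_kind`: such a line has these facts; `Quad.kernel_cases`: it leaves two possible kernels at its point.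
* `gridData_of_alpha`: a line of the second kind gives case (b).
-/

set_option autoImplicit false
set_option linter.style.haveILetI false
set_option linter.unusedSectionVars false

namespace CfsgLib.RankOneInter

open Subgroup
open CfsgLib.Signalizer (involution_sq involution_inv orderOf_eq_two_of involution_ne_one orderOf_conj)

universe u

variable {G : Type u} [Group G] [Finite G]

/-- A line of the second kind: the kernel and `J` are quaternion groups of order eight. -/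
structure Quad (z : G) (S T : Sylow 2 G) (J : Subgroup G) : Prop where
  cardD : Nat.card ↥((S : Subgroup G) ⊓ (T : Subgroup G)) = 8
  cardJ : Nat.card J = 8
  leJ : J ≤ (S : Subgroup G)
  inf : (S : Subgroup G) ⊓ (T : Subgroup G) ⊓ J = Cfsg.pCore 2 G
  comm : ∀ d ∈ (S : Subgroup G) ⊓ (T : Subgroup G), ∀ j ∈ J, d * j = j * d
  sqD : ∀ d ∈ (S : Subgroup G) ⊓ (T : Subgroup G), d ∉ Cfsg.pCore 2 G → d * d = z
  sqJ : ∀ j ∈ J, j ∉ Cfsg.pCore 2 G → j * j = z
  pairD : ∃ u ∈ (S : Subgroup G) ⊓ (T : Subgroup G), ∃ v ∈ (S : Subgroup G) ⊓ (T : Subgroup G), v * u = u * v * z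
  pairJ : ∃ u ∈ J, ∃ v ∈ J, v * u = u * v * z
  memD : ∀ d ∈ (S : Subgroup G) ⊓ (T : Subgroup G), pr d ∈ Ee S
  memJ : ∀ j ∈ J, pr j ∈ Ee S
  Ee_sub : ∀ e ∈ Ee S, ∃ j ∈ J, ∃ d ∈ (S : Subgroup G) ⊓ (T : Subgroup G), pr (j * d) = e
  rk : Rk S T = (S : Subgroup G)

/-- Elements of order four with a product of order four anticommute. -/
theorem anti_of_sq {z a b : G} (hzz : z * z = 1) (ha : a * a = z) (hb : b * b = z)
    (hab : a * b * (a * b) = z) : b * a = a * b * z := by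
  have ha' : a⁻¹ = a * z := inv_eq_of_mul_eq_one_right (by rw [← mul_assoc, ha, hzz])
  have hb' : b⁻¹ = b * z := inv_eq_of_mul_eq_one_right (by rw [← mul_assoc, hb, hzz])
  calc b * a = a⁻¹ * (a * b * (a * b)) * b⁻¹ := by group
    _ = a * (z * z) * (b * z) := by rw [hab, ha', hb']; group
    _ = _ := by rw [hzz, mul_one, mul_assoc]

/-- A subgroup with the classes of a quaternion pair modulo a central subgroup of order two has order eight. -/
theorem card_eq_eight {M : Subgroup G} {z u v : G} (hPM : Cfsg.pCore 2 G ≤ M)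
    (hP : Nat.card ↥(Cfsg.pCore 2 G) = 2) (hz : z ∈ Cfsg.pCore 2 G) (hz1 : z ≠ 1) (hu : u ∈ M) (hv : v ∈ M)
    (huu : u * u = z) (hvv : v * v = z) (hvu : v * u = u * v * z)
    (hcls : ∀ s ∈ M, pr s = 1 ∨ pr s = pr u ∨ pr s = pr v ∨ pr s = pr u * pr v) : Nat.card M = 8 := by
  classical
  have hu1 : pr u ≠ 1 := fun h => by
    have h1 := Subgroup.orderOf_dvd_natCard _ (pr_eq_one_iff.1 h)
    rw [hP, orderOf_dvd_iff_pow_eq_one, pow_two, huu] at h1
    exact hz1 h1
  have hv1 : pr v ≠ 1 := fun h => by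
    have h1 := Subgroup.orderOf_dvd_natCard _ (pr_eq_one_iff.1 h)
    rw [hP, orderOf_dvd_iff_pow_eq_one, pow_two, hvv] at h1
    exact hz1 h1
  have huv : pr u ≠ pr v := fun h => by
    obtain ⟨p, hp, rfl⟩ : ∃ p ∈ Cfsg.pCore 2 G, v = u * p := ⟨_, pr_eq_iff.1 h, by group⟩
    haveI : Fact (Nat.Prime 2) := ⟨Nat.prime_two⟩
    have hc : ∀ g : G, g * p = p * g := fun g => by
      have h2 : ∀ y ∈ Cfsg.pCore 2 G, y = 1 ∨ y = z := by
        intro y hy
        by_contra hno
        push Not at hno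
        have hle : ({1, z, y} : Finset G).card ≤ Nat.card ↥(Cfsg.pCore 2 G) := by
          rw [← Nat.card_eq_finsetCard]
          refine Nat.card_le_card_of_injective (fun t : ↥({1, z, y} : Finset G) => (⟨t.1, ?_⟩ : ↥(Cfsg.pCore 2 G)))
            fun t t' e => Subtype.ext (congrArg Subtype.val e :)
          rcases Finset.mem_insert.1 t.2 with e | e
          · rw [e]; exact one_mem _
          rcases Finset.mem_insert.1 e with e | e
          · rw [e]; exact hz
          · rw [Finset.mem_singleton.1 e]; exact hy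
        have h3 : ({1, z, y} : Finset G).card = 3 := Finset.card_eq_three.2
          ⟨1, z, y, hz1.symm, hno.1.symm, hno.2.symm, rfl⟩
        omega
      rcases h2 p hp with rfl | rfl
      · rw [mul_one, one_mul]
      · rcases h2 _ ((inferInstance : (Cfsg.pCore 2 G).Normal).conj_mem _ hz g) with e | e
        · exact absurd (conj_eq_one_iff.1 e) hz1
        · exact mul_inv_eq_iff_eq_mul.1 e
    refine hz1 (mul_eq_left.1 (?_ : u * (u * p) * z = u * (u * p)))
    rw [← hvu, mul_assoc u p u, ← hc u]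
  have hsu : pr u * pr u = 1 := by rw [← map_mul, huu]; exact pr_eq_one_iff.2 hz
  have hsv : pr v * pr v = 1 := by rw [← map_mul, hvv]; exact pr_eq_one_iff.2 hz
  have huv1 : pr u * pr v ≠ 1 := fun h => huv <| by
    rw [eq_inv_of_mul_eq_one_left h, inv_eq_of_mul_eq_one_right hsv]
  have h4 : Nat.card (M.map pr) = 4 := by
    rw [← Nat.card_congr ((Equiv.subtypeEquivRight (p := fun x => x ∈ ({1, pr u, pr v, pr u * pr v} : Finset (Q G)))
      (q := fun x => x ∈ M.map pr)) fun x => ?_), Nat.card_eq_finsetCard]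
    · refine Finset.card_eq_four.2 ⟨1, pr u, pr v, pr u * pr v, hu1.symm, hv1.symm, huv1.symm, huv,
        fun h => hv1 (left_eq_mul.1 h), fun h => hu1 (right_eq_mul.1 h), rfl⟩
    · constructor
      · intro hx
        simp only [Finset.mem_insert, Finset.mem_singleton] at hx
        rcases hx with rfl | rfl | rfl | rfl
        exacts [one_mem _, mem_map_of_mem _ hu, mem_map_of_mem _ hv, mul_mem (mem_map_of_mem _ hu) (mem_map_of_mem _ hv)]
      · rintro ⟨s, hs, rfl⟩
        simpa only [Finset.mem_insert, Finset.mem_singleton] using hcls s hs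
  have hk : (pr.comp M.subtype).ker = (Cfsg.pCore 2 G).subgroupOf M := Subgroup.ext fun m => by
    rw [MonoidHom.mem_ker, mem_subgroupOf]; exact pr_eq_one_iff
  have hr : (pr.comp M.subtype).range = M.map pr := by rw [MonoidHom.range_comp, range_subtype]
  have h := ((Cfsg.pCore 2 G).subgroupOf M).card_mul_index
  rw [← hk, index_ker, hr, h4, hk, Nat.card_congr (subgroupOfEquivOfLe hPM).toEquiv, hP] at h
  omega

namespace Central

variable (hC : Central G) {S T T' : Sylow 2 G} {z g : G} {q : ℕ} {J : Subgroup G}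
include hC

theorem hD_of_ne (hne : T ≠ S) (hnt : (S : Subgroup G) ⊓ (T : Subgroup G) ≠ Cfsg.pCore 2 G) :
    ∃ S T : Sylow 2 G, S ≠ T ∧ Spt S ⊓ Spt T ≠ ⊥ :=
  ⟨S, T, hne.symm, fun e => hnt (le_antisymm
    (fun d hd => pr_eq_one_iff.1 (mem_bot.1 (e ▸ ⟨mem_Spt.2 hd.1, mem_Spt.2 hd.2⟩)))
    (le_inf (HallGen.pCore_le_sylow S) (HallGen.pCore_le_sylow T)))⟩

theorem core_cases (hcard : Nat.card ↥(Cfsg.pCore 2 G) = 2) (hz : z ∈ Cfsg.pCore 2 G) (hz2 : orderOf z = 2)
    {p : G} (hp : p ∈ Cfsg.pCore 2 G) : p = 1 ∨ p = z := by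
  refine hC.core_sq_one hz hz2 hp ?_
  rw [← pow_two, ← orderOf_dvd_iff_pow_eq_one, ← hcard]
  exact Subgroup.orderOf_dvd_natCard _ hp

/-- Elements of two points: the only involution is `z`. -/
theorem inf_sq_one (hne : T ≠ S) (hz : z ∈ Cfsg.pCore 2 G) (hz2 : orderOf z = 2) {e : G}
    (he : e ∈ (S : Subgroup G) ⊓ (T : Subgroup G)) (hee : e * e = 1) : e = 1 ∨ e = z := by
  by_contra hno
  push Not at hno
  exact hne (hC.small S T z e hz2 (orderOf_eq_two_of hno.1 hee) hno.2.symm (hC.comm_core hz e).symm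
    (HallGen.pCore_le_sylow S hz) he.1 (HallGen.pCore_le_sylow T hz) he.2).symm

/-- A lift of a central element of the first kind lies in `J * (S ⊓ T)`. -/
theorem X1_split (hd : LineData z q S T g J) (hne : T ≠ S) (hz : z ∈ Cfsg.pCore 2 G)
    (hkind : ∀ j ∈ J, j ≠ 1 → j ≠ z → j * j = z) {x : Q G} (hx : x ∈ X1 S) :
    ∃ j ∈ J, ∃ d ∈ (S : Subgroup G) ⊓ (T : Subgroup G), j ∉ Cfsg.pCore 2 G ∧ d * d * z = 1 ∧ j * j = z ∧
      pr (j * d) = x := by
  obtain ⟨a, ha, rfl, h1⟩ := id hx.1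
  have haS := mem_Spt.1 hx.2.1
  have haR : a ∈ Rk S T := by
    refine ⟨haS, Bender.mem_normalizer_of_map_conj_eq (eq_of_le_of_card_ge ?_
      (by rw [card_map_of_injective (MulAut.conj a).injective]))⟩
    rintro _ ⟨d, hd, rfl⟩
    show a * d * a⁻¹ ∈ (S : Subgroup G) ⊓ (T : Subgroup G)
    have h := hx.2.2 _ (mem_Spt.2 hd.1)
    have hp : d⁻¹ * (a * d * a⁻¹) ∈ Cfsg.pCore 2 G := pr_eq_iff.1 (by
      rw [map_mul, map_mul, map_inv, ← h, mul_inv_cancel_right])
    have := mul_mem hd (le_inf (HallGen.pCore_le_sylow S) (HallGen.pCore_le_sylow T) hp)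
    rwa [mul_inv_cancel_left] at this
  obtain ⟨j, hj, d, hdD, e⟩ := (hd.sq_iff a haR).1 (by rw [involution_sq ha]; exact one_mem _)
  have hjP : j ∉ Cfsg.pCore 2 G := fun h => by
    have haT : a ∈ (S : Subgroup G) ⊓ (T : Subgroup G) :=
      e ▸ mul_mem (le_inf (HallGen.pCore_le_sylow S) (HallGen.pCore_le_sylow T) h) hdD
    exact hne (hC.single hx.1 (mem_Spt.2 haT.2) hx.2.1)
  have hjj := hkind j hj (fun h => hjP (h ▸ one_mem _)) fun h => hjP (h ▸ hz)
  refine ⟨j, hj, d, hdD, hjP, ?_, hjj, by rw [e]⟩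
  have h2 := involution_sq ha
  rw [e, show j * d * (j * d) = j * (d * j) * d by group, ← hd.cent j hj d hdD,
    show j * (j * d) * d = j * j * (d * d) by group, hjj, ← hC.comm_core hz (d * d)] at h2
  exact h2

/-- The facts of a line of the second kind. -/
theorem quad_of_kind (hcard : Nat.card ↥(Cfsg.pCore 2 G) = 2) (hz : z ∈ Cfsg.pCore 2 G) (hz2 : orderOf z = 2)
    (hne : T ≠ S) (hnt : (S : Subgroup G) ⊓ (T : Subgroup G) ≠ Cfsg.pCore 2 G) (hd : LineData z q S T g J)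
    (hJ : Nat.card J = 8) (hkind : ∀ j ∈ J, j ≠ 1 → j ≠ z → j * j = z) : Quad z S T J := by
  classical
  haveI := Fact.mk Nat.prime_two
  have hD0 := hC.hD_of_ne hne hnt
  have hzz := involution_sq hz2
  have hz1 := involution_ne_one hz2
  have hPS := HallGen.pCore_le_sylow (G := G) (p := 2) S
  set D := (S : Subgroup G) ⊓ (T : Subgroup G) with hDdef
  have hPD : Cfsg.pCore 2 G ≤ D := le_inf hPS (HallGen.pCore_le_sylow T)
  have hsqJ : ∀ j ∈ J, j ∉ Cfsg.pCore 2 G → j * j = z := fun j hj h =>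
    hkind j hj (fun e => h (e ▸ one_mem _)) fun e => h (e ▸ hz)
  have hJD : ∀ j ∈ J, j ∈ D → j ∈ Cfsg.pCore 2 G := fun j hj h => by
    rcases hd.z_mem j hj h with rfl | rfl
    exacts [one_mem _, hz]
  -- a pair in `J`
  obtain ⟨j₁, hj₁, hj₁P⟩ : ∃ j ∈ J, j ∉ Cfsg.pCore 2 G := by
    by_contra hno
    push Not at hno
    have h1 := card_le_of_le (show J ≤ Cfsg.pCore 2 G from hno)
    omega
  obtain ⟨j₂, hj₂, hj₂P, hj12⟩ : ∃ j ∈ J, j ∉ Cfsg.pCore 2 G ∧ pr j ≠ pr j₁ := by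
    by_contra hno
    push Not at hno
    have hle : Nat.card J ≤ Nat.card (Bool × ↥(Cfsg.pCore 2 G)) := by
      refine Nat.card_le_card_of_injective (fun j : J => if h : (j : G) ∈ Cfsg.pCore 2 G then (true, ⟨j, h⟩)
        else (false, ⟨j₁⁻¹ * j, pr_eq_iff.1 (hno j j.2 h).symm⟩)) fun a b e => ?_
      dsimp only at e
      split_ifs at e with ha hb hb
      · exact Subtype.ext (congrArg (fun p => ((p.2 : ↥(Cfsg.pCore 2 G)) : G)) e :)
      · exact absurd (congrArg Prod.fst e) (by simp)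
      · exact absurd (congrArg Prod.fst e) (by simp)
      · exact Subtype.ext (mul_left_cancel (congrArg (fun p => ((p.2 : ↥(Cfsg.pCore 2 G)) : G)) e :))
    rw [hJ, Nat.card_prod, hcard, Nat.card_eq_fintype_card (α := Bool), Fintype.card_bool] at hle
    omega
  have hsq1 : pr j₁ * pr j₁ = 1 := by rw [← map_mul, hsqJ _ hj₁ hj₁P]; exact pr_eq_one_iff.2 hz
  have hj3P : j₁ * j₂ ∉ Cfsg.pCore 2 G := fun h => hj12 (by
    have h1 := pr_eq_one_iff.2 h
    rw [map_mul] at h1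
    rw [eq_inv_of_mul_eq_one_right h1, inv_eq_of_mul_eq_one_right hsq1])
  have hantiJ : j₂ * j₁ = j₁ * j₂ * z :=
    anti_of_sq hzz (hsqJ _ hj₁ hj₁P) (hsqJ _ hj₂ hj₂P) (hsqJ _ (mul_mem hj₁ hj₂) hj3P)
  have hJ2 : IsPGroup 2 J := S.isPGroup'.to_le (hd.le.trans inf_le_left)
  have hJuniq : ∀ e ∈ J, e * e = 1 → e = 1 ∨ e = z := fun e he hee => by
    by_cases heP : e ∈ Cfsg.pCore 2 G
    · exact hC.core_cases hcard hz hz2 heP
    · exact absurd ((hsqJ e he heP).symm.trans hee) hz1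
  -- the classes in `J`
  have hJcomm : ∀ a ∈ J, ∀ b ∈ J, pr a * pr b = pr b * pr a := by
    intro a ha b hb
    by_cases h1 : a ∈ Cfsg.pCore 2 G
    · rw [pr_eq_one_iff.2 h1, one_mul, mul_one]
    by_cases h2 : b ∈ Cfsg.pCore 2 G
    · rw [pr_eq_one_iff.2 h2, one_mul, mul_one]
    by_cases h3 : a * b ∈ Cfsg.pCore 2 G
    · have h4 := pr_eq_one_iff.2 h3
      rw [map_mul] at h4
      rw [h4, eq_inv_of_mul_eq_one_left h4, mul_inv_cancel]
    rw [← map_mul, ← map_mul, anti_of_sq hzz (hsqJ _ ha h1) (hsqJ _ hb h2) (hsqJ _ (mul_mem ha hb) h3),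
      map_mul (pr : G →* Q G) (a * b) z, pr_eq_one_iff.2 hz, mul_one]
  have hclsJ : ∀ j ∈ J, pr j = 1 ∨ pr j = pr j₁ ∨ pr j = pr j₂ ∨ pr j = pr j₁ * pr j₂ := by
    intro j hj
    obtain ⟨e, he, h⟩ := mem_of_quaternion_pair hJ2 hzz (fun g => hC.comm_core hz g) hj₁ hj₂ (hsqJ _ hj₁ hj₁P)
      hantiJ hJuniq hj (hC.comm_four hD0 hz hz2 (hsqJ _ hj₁ hj₁P) (hJcomm _ hj _ hj₁))
      (hC.comm_four hD0 hz hz2 (hsqJ _ hj₂ hj₂P) (hJcomm _ hj _ hj₂))
    have he1 : pr e = 1 := by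
      rcases he with rfl | rfl
      exacts [map_one _, pr_eq_one_iff.2 hz]
    rcases h with rfl | rfl | rfl | rfl <;> simp [map_mul, he1]
  -- one element of the first kind gives three
  have hfam : ∀ j ∈ J, ∀ d ∈ D, j ∉ Cfsg.pCore 2 G → pr (j * d) ∈ X1 S →
      ∀ j' ∈ J, j' ∉ Cfsg.pCore 2 G → pr (j' * d) ∈ X1 S := by
    intro j hj d hdD hjP hx j' hj' hj'P
    obtain ⟨i, hi⟩ := hd.g_trans j hj j' hj' (fun h => hjP (hJD j hj h)) fun h => hj'P (hJD j' hj' h)
    have hgJ : ∀ i : ℕ, g ^ i * j * (g ^ i)⁻¹ ∈ J := by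
      intro i
      induction i with
      | zero => simpa using hj
      | succ i ih =>
        have := hd.g_J _ ih
        rwa [show g * (g ^ i * j * (g ^ i)⁻¹) * g⁻¹ = g ^ (i + 1) * j * (g ^ (i + 1))⁻¹ by
          rw [pow_succ']; group] at this
    have hp := hJD _ (mul_mem (inv_mem (hgJ i)) hj') hi
    have hfix : (g ^ i) • S = S := by
      rw [Sylow.smul_eq_iff_mem_normalizer]; exact pow_mem (Sylow.smul_eq_iff_mem_normalizer.1 hd.fix_S) i
    have hgd : g ^ i * d * (g ^ i)⁻¹ = d := by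
      rw [((show Commute g d from hd.g_cent d hdD).pow_left i).eq, mul_inv_cancel_right]
    have h1 := X1_conj hfix hx
    rw [← map_inv, ← map_mul, ← map_mul, show g ^ i * (j * d) * (g ^ i)⁻¹ =
      g ^ i * j * (g ^ i)⁻¹ * (g ^ i * d * (g ^ i)⁻¹) by group, hgd, map_mul, pr_eq_iff.2 hp, ← map_mul] at h1
    exact h1
  obtain ⟨x₀, hx₀⟩ := hC.exists_X1 hD0 S
  obtain ⟨j₀, hj₀, d₀, hd₀, hj₀P, hd₀z, -, rfl⟩ := hC.X1_split hd hne hz hkind hx₀
  have hd₀sq : d₀ * d₀ = z := by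
    rw [eq_inv_of_mul_eq_one_left hd₀z]; exact inv_eq_of_mul_eq_one_right hzz
  have hf := hfam j₀ hj₀ d₀ hd₀ hj₀P hx₀
  -- `J` and the kernel lie in the closure
  have hEJ₀ : ∀ a ∈ J, ∀ b ∈ J, a ∉ Cfsg.pCore 2 G → b ∉ Cfsg.pCore 2 G → pr (a * b) ∈ Ee S := by
    intro a ha b hb haP hbP
    have h1 := mul_mem (subset_closure (hf a ha haP) : pr (a * d₀) ∈ Ee S)
      (subset_closure (hf b hb hbP) : pr (b * d₀) ∈ Ee S)
    rwa [← map_mul, show a * d₀ * (b * d₀) = a * (d₀ * b) * d₀ by group, ← hd.cent b hb d₀ hd₀,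
      show a * (b * d₀) * d₀ = a * b * (d₀ * d₀) by group, hd₀sq, map_mul (pr : G →* Q G) (a * b) z,
      pr_eq_one_iff.2 hz, mul_one] at h1
  have hEJ : ∀ j ∈ J, pr j ∈ Ee S := by
    intro j hj
    have hsq2 : pr j₂ * pr j₂ = 1 := by rw [← map_mul, hsqJ _ hj₂ hj₂P]; exact pr_eq_one_iff.2 hz
    rcases hclsJ j hj with h | h | h | h <;> rw [h]
    · exact one_mem _
    · have h1 := hEJ₀ _ (mul_mem hj₁ hj₂) _ hj₂ hj3P hj₂P
      rwa [map_mul, map_mul, mul_assoc, hsq2, mul_one] at h1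
    · have h1 := hEJ₀ _ hj₁ _ (mul_mem hj₁ hj₂) hj₁P hj3P
      rwa [map_mul, map_mul, ← mul_assoc, hsq1, one_mul] at h1
    · rw [← map_mul]; exact hEJ₀ _ hj₁ _ hj₂ hj₁P hj₂P
  have hEd : ∀ j ∈ J, ∀ d ∈ D, pr (j * d) ∈ X1 S → pr d ∈ Ee S := fun j hj d _ hx => by
    have h1 := mul_mem (inv_mem (hEJ j hj)) (subset_closure hx : pr (j * d) ∈ Ee S)
    rwa [map_mul, inv_mul_cancel_left] at h1
  have hd₀P : d₀ ∉ Cfsg.pCore 2 G := fun h => hz1 (by
    rcases hC.core_cases hcard hz hz2 h with rfl | rfl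
    · exact hd₀sq.symm.trans (one_mul 1)
    · exact hd₀sq.symm.trans hzz)
  -- a second class in the kernel
  obtain ⟨d₁, hd₁, hd₁sq, hd₁E, hd01⟩ : ∃ d ∈ D, d * d = z ∧ pr d ∈ Ee S ∧ pr d ≠ pr d₀ := by
    by_contra hno
    push Not at hno
    refine hC.no_except hD0 (x := pr (j₁ * d₀)) (y := pr (j₂ * d₀)) (w := pr (j₁ * j₂ * d₀))
      ⟨hf _ hj₁ hj₁P, hf _ hj₂ hj₂P, hf _ (mul_mem hj₁ hj₂) hj3P, ?_, ?_, ?_, ?_, ?_, ?_, ?_, ?_⟩
    · rw [map_mul, map_mul]; exact fun h => hj12 (mul_right_cancel h).symm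
    · rw [map_mul, map_mul, map_mul]
      exact fun h => hj₂P (pr_eq_one_iff.1 (left_eq_mul.1 (mul_right_cancel h)))
    · rw [map_mul, map_mul, map_mul]
      exact fun h => hj₁P (pr_eq_one_iff.1 (right_eq_mul.1 (mul_right_cancel h)))
    · intro u hu
      obtain ⟨j, hj, d, hdD, hjP, hdz, -, rfl⟩ := hC.X1_split hd hne hz hkind hu
      have e : pr d = pr d₀ := hno d hdD
        (by rw [eq_inv_of_mul_eq_one_left hdz]; exact inv_eq_of_mul_eq_one_right hzz) (hEd j hj d hdD hu)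
      simp only [map_mul, e]
      rcases hclsJ j hj with h | h | h | h
      · exact absurd (pr_eq_one_iff.1 h) hjP
      · exact Or.inl (by rw [h])
      · exact Or.inr (Or.inl (by rw [h]))
      · exact Or.inr (Or.inr (by rw [h]))
    all_goals
      have hcm : ∀ {a b : G}, a ∈ J → b ∈ J → pr (a * d₀) * pr (b * d₀) = pr (a * b) := fun {a b} ha hb => by
        rw [← map_mul, show a * d₀ * (b * d₀) = a * (d₀ * b) * d₀ by group, ← hd.cent b hb d₀ hd₀,
          show a * (b * d₀) * d₀ = a * b * (d₀ * d₀) by group, hd₀sq, map_mul (pr : G →* Q G) (a * b) z,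
          pr_eq_one_iff.2 hz, mul_one]
      have hnI : ∀ {a : G}, a ∈ J → ¬ IsI (pr a) := fun {a} ha ⟨b, hb, he, hb1⟩ => by
        obtain ⟨p, hp, rfl⟩ : ∃ p ∈ Cfsg.pCore 2 G, b = a * p :=
          ⟨_, pr_eq_iff.1 he.symm, by group⟩
        have haP : a ∉ Cfsg.pCore 2 G := fun h => hb1 (pr_eq_one_iff.2 h)
        have h2 := involution_sq hb
        rw [show a * p * (a * p) = a * (p * a) * p by group, ← hC.comm_core hp a,
          show a * (a * p) * p = a * a * (p * p) by group, hsqJ a ha haP] at h2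
        rcases hC.core_cases hcard hz hz2 hp with rfl | rfl
        · exact hz1 (by simpa using h2)
        · exact hz1 (by simpa [hzz] using h2)
    · rw [hcm hj₁ hj₂]; exact hnI (mul_mem hj₁ hj₂)
    · rw [hcm hj₁ (mul_mem hj₁ hj₂)]; exact hnI (mul_mem hj₁ (mul_mem hj₁ hj₂))
    · rw [hcm hj₂ (mul_mem hj₁ hj₂)]; exact hnI (mul_mem hj₂ (mul_mem hj₁ hj₂))
    · rw [hcm hj₁ hj₂, map_mul (pr : G →* Q G) (j₁ * j₂) d₀, ← mul_assoc, ← map_mul, ← map_mul]
      intro h
      refine hd₀P (pr_eq_one_iff.1 ?_)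
      rw [map_mul, (pr_eq_one_iff (a := j₁ * j₂ * (j₁ * j₂))).2 (by rw [hsqJ _ (mul_mem hj₁ hj₂) hj3P]; exact hz),
        one_mul] at h
      exact h
  have hd₁P : d₁ ∉ Cfsg.pCore 2 G := fun h => hz1 (by
    rcases hC.core_cases hcard hz hz2 h with rfl | rfl
    · exact hd₁sq.symm.trans (one_mul 1)
    · exact hd₁sq.symm.trans hzz)
  have hd₀E : pr d₀ ∈ Ee S := hEd j₀ hj₀ d₀ hd₀ hx₀
  have hantiD : d₁ * d₀ = d₀ * d₁ * z := by
    refine anti_of_sq hzz hd₀sq hd₁sq ?_
    have h1 : pr (d₀ * d₁) ≠ 1 := fun h => hd01 (by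
      rw [map_mul] at h
      rw [eq_inv_of_mul_eq_one_right h, inv_eq_of_mul_eq_one_right]
      rw [← map_mul, hd₀sq]; exact pr_eq_one_iff.2 hz)
    have h2 : d₀ * d₁ * (d₀ * d₁) ∈ Cfsg.pCore 2 G := pr_eq_one_iff.1 (by
      rw [map_mul]; exact Ee_sq (by rw [map_mul]; exact mul_mem hd₀E hd₁E))
    rcases hC.core_cases hcard hz hz2 h2 with h | h
    · exfalso
      rcases hC.inf_sq_one hne hz hz2 (mul_mem hd₀ hd₁) h with e | e
      · exact h1 (by rw [e, map_one])
      · exact h1 (by rw [e]; exact pr_eq_one_iff.2 hz)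
    · exact h
  have hclsD : ∀ d ∈ D, pr d = 1 ∨ pr d = pr d₀ ∨ pr d = pr d₁ ∨ pr d = pr d₀ * pr d₁ := by
    intro d hdD
    obtain ⟨e, he, h⟩ := mem_of_quaternion_pair (S.isPGroup'.to_le inf_le_left) hzz (fun g => hC.comm_core hz g)
      hd₀ hd₁ hd₀sq hantiD (fun e he hee => hC.inf_sq_one hne hz hz2 he hee) hdD
      (hC.comm_four hD0 hz hz2 hd₀sq (Ee_central hd₀E _ (mem_Spt.2 hdD.1)))
      (hC.comm_four hD0 hz hz2 hd₁sq (Ee_central hd₁E _ (mem_Spt.2 hdD.1)))
    have he1 : pr e = 1 := by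
      rcases he with rfl | rfl
      exacts [map_one _, pr_eq_one_iff.2 hz]
    rcases h with rfl | rfl | rfl | rfl <;> simp [map_mul, he1]
  have hED : ∀ d ∈ D, pr d ∈ Ee S := by
    intro d hdD
    rcases hclsD d hdD with h | h | h | h <;> rw [h]
    exacts [one_mem _, hd₀E, hd₁E, mul_mem hd₀E hd₁E]
  have hinf : D ⊓ J = Cfsg.pCore 2 G := by
    refine le_antisymm (fun a ha => hJD a ha.2 ha.1) (le_inf hPD fun p hp => ?_)
    rcases hC.core_cases hcard hz hz2 hp with rfl | rfl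
    · exact one_mem _
    · rw [← hsqJ j₁ hj₁ hj₁P]; exact mul_mem hj₁ hj₁
  refine ⟨card_eq_eight hPD hcard hz hz1 hd₀ hd₁ hd₀sq hd₁sq hantiD hclsD, hJ, hd.le.trans inf_le_left, hinf,
    fun d hdD j hj => (hd.cent j hj d hdD).symm, ?_, hsqJ, ⟨d₀, hd₀, d₁, hd₁, hantiD⟩,
    ⟨j₁, hj₁, j₂, hj₂, hantiJ⟩, hED, hEJ, ?_, ?_⟩
  · intro d hdD hdP
    have h2 : d * d ∈ Cfsg.pCore 2 G := pr_eq_one_iff.1 (by rw [map_mul]; exact Ee_sq (hED d hdD))
    rcases hC.core_cases hcard hz hz2 h2 with h | h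
    · exfalso
      rcases hC.inf_sq_one hne hz hz2 hdD h with e | e
      · exact hdP (e ▸ one_mem _)
      · exact hdP (e ▸ hz)
    · exact h
  · intro e he
    induction he using Subgroup.closure_induction with
    | mem x hx =>
      obtain ⟨j, hj, d, hdD, -, -, -, h⟩ := hC.X1_split hd hne hz hkind hx
      exact ⟨j, hj, d, hdD, h⟩
    | one => exact ⟨1, one_mem _, 1, one_mem _, by rw [mul_one, map_one]⟩
    | mul a b _ _ iha ihb =>
      obtain ⟨j, hj, d, hdD, rfl⟩ := iha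
      obtain ⟨j', hj', d', hd', rfl⟩ := ihb
      refine ⟨j * j', mul_mem hj hj', d * d', mul_mem hdD hd', ?_⟩
      rw [← map_mul, show j * d * (j' * d') = j * (d * j') * d' by group, ← hd.cent j' hj' d hdD]
      group
    | inv a ha iha => rwa [inv_eq_of_mul_eq_one_right (Ee_sq ha)]
  · refine le_antisymm inf_le_left fun s hs => ⟨hs, Bender.mem_normalizer_of_map_conj_eq
      (eq_of_le_of_card_ge ?_ (by rw [card_map_of_injective (MulAut.conj s).injective]))⟩
    rintro _ ⟨d, hdD, rfl⟩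
    show s * d * s⁻¹ ∈ D
    have hp : d⁻¹ * (s * d * s⁻¹) ∈ Cfsg.pCore 2 G := pr_eq_iff.1 (by
      rw [map_mul, map_mul, map_inv, Ee_central (hED d hdD) _ (mem_Spt.2 hs), mul_inv_cancel_right])
    have := mul_mem hdD (hPD hp)
    rwa [mul_inv_cancel_left] at this

/-- The line data at the point of a line of the second kind are of the second kind. -/
theorem quad_of_quad (hcard : Nat.card ↥(Cfsg.pCore 2 G) = 2) (hz : z ∈ Cfsg.pCore 2 G) (hz2 : orderOf z = 2)
    (hQ : Quad z S T J) (hne : T' ≠ S) (hnt : (S : Subgroup G) ⊓ (T' : Subgroup G) ≠ Cfsg.pCore 2 G)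
    {q' : ℕ} {g' : G} {J' : Subgroup G} (hd : LineData z q' S T' g' J') : Quad z S T' J' := by
  haveI := Fact.mk Nat.prime_two
  rcases hd.kind with ⟨hsq, -, hinf'⟩ | ⟨-, hJ', hkind⟩
  swap
  · exact hC.quad_of_kind hcard hz hz2 hne hnt hd hJ' hkind
  exfalso
  have hzz := involution_sq hz2
  have hz1 := involution_ne_one hz2
  set D' := (S : Subgroup G) ⊓ (T' : Subgroup G) with hD'def
  have hPD : Cfsg.pCore 2 G ≤ D' := le_inf (HallGen.pCore_le_sylow S) (HallGen.pCore_le_sylow T')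
  have hD0 := hC.hD_of_ne hne hnt
  -- the parts in the kernel of elements of the closure
  have hsplit : ∀ a ∈ (S : Subgroup G), pr a ∈ Ee S → ∃ j ∈ J', ∃ d ∈ D', a = j * d ∧ d * d = a * a := by
    intro a haS haE
    have hpp : a * a ∈ Cfsg.pCore 2 G := pr_eq_one_iff.1 (by rw [map_mul]; exact Ee_sq haE)
    have haR : a ∈ Rk S T' := by
      refine ⟨haS, Bender.mem_normalizer_of_map_conj_eq (eq_of_le_of_card_ge ?_
        (by rw [card_map_of_injective (MulAut.conj a).injective]))⟩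
      rintro _ ⟨d, hd', rfl⟩
      show a * d * a⁻¹ ∈ D'
      have hp : d⁻¹ * (a * d * a⁻¹) ∈ Cfsg.pCore 2 G := pr_eq_iff.1 (by
        rw [map_mul, map_mul, map_inv, ← Ee_central haE _ (mem_Spt.2 hd'.1), mul_inv_cancel_right])
      have := mul_mem hd' (hPD hp)
      rwa [mul_inv_cancel_left] at this
    obtain ⟨j, hj, d, hd', e⟩ := (hd.sq_iff a haR).1 (hPD hpp)
    refine ⟨j, hj, d, hd', e, ?_⟩
    rw [e, show j * d * (j * d) = j * (d * j) * d by group, ← hd.cent j hj d hd',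
      show j * (j * d) * d = j * j * (d * d) by group, hsq j hj, one_mul]
  have hcomm : ∀ {a b j d j' d' ε : G}, j ∈ J' → d ∈ D' → j' ∈ J' → d' ∈ D' → a = j * d → b = j' * d' →
      b * a = a * b * ε → d' * d = d * d' * ε := by
    intro a b j d j' d' ε hj hdm hj' hd'm ha hb hba
    have hJc : j' * j = j * j' := by
      have h1 := hsq _ (mul_mem hj hj')
      calc j' * j = (j * j) * (j' * j) * (j' * j') := by rw [hsq j hj, hsq j' hj', one_mul, mul_one]
        _ = j * (j * j' * (j * j')) * j' := by group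
        _ = _ := by rw [h1, mul_one]
    rw [ha, hb, show j' * d' * (j * d) = j' * (d' * j) * d by group, ← hd.cent j hj d' hd'm,
      show j' * (j * d') * d = j' * j * (d' * d) by group, show j * d * (j' * d') * ε = j * (d * j') * (d' * ε) by group,
      ← hd.cent j' hj' d hdm, show j * (j' * d) * (d' * ε) = j * j' * (d * d' * ε) by group, hJc] at hba
    exact mul_left_cancel hba
  obtain ⟨u, hu, v, hv, hvu⟩ := hQ.pairD
  obtain ⟨k, hk, l, hl, hlk⟩ := hQ.pairJ
  obtain ⟨ju, hju, du, hdu, eu, squ⟩ := hsplit u hu.1 (hQ.memD u hu)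
  obtain ⟨jv, hjv, dv, hdv, ev, sqv⟩ := hsplit v hv.1 (hQ.memD v hv)
  obtain ⟨jk, hjk, dk, hdk, ek, sqk⟩ := hsplit k (hQ.leJ hk) (hQ.memJ k hk)
  obtain ⟨jl, hjl, dl, hdl, el, sql⟩ := hsplit l (hQ.leJ hl) (hQ.memJ l hl)
  have hvu' := hcomm hju hdu hjv hdv eu ev hvu
  have hlk' := hcomm hjk hdk hjl hdl ek el hlk
  have hzero : ∀ {a b ja da jb db : G}, ja ∈ J' → da ∈ D' → jb ∈ J' → db ∈ D' → a = ja * da → b = jb * db →
      b * a = a * b → db * da = da * db := fun h1 h2 h3 h4 h5 h6 h7 => by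
    simpa using hcomm h1 h2 h3 h4 h5 h6 (ε := 1) (by rw [mul_one, h7])
  have huu : du * du = z := by
    rw [squ]
    refine hQ.sqD u hu fun h => hz1 ?_
    rw [hC.comm_core h v] at hvu
    exact (mul_eq_left (a := u * v)).1 hvu.symm
  have hkc : dk = 1 ∨ dk = z := by
    obtain ⟨e, he, h⟩ := mem_of_quaternion_pair (S.isPGroup'.to_le inf_le_left) hzz (fun g => hC.comm_core hz g)
      hdu hdv huu hvu' (fun e he hee => hC.inf_sq_one hne hz hz2 he hee) hdk
      (Or.inl (hzero hju hdu hjk hdk eu ek (hQ.comm u hu k hk).symm))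
      (Or.inl (hzero hjv hdv hjk hdk ev ek (hQ.comm v hv k hk).symm))
    have hku := hzero hju hdu hjk hdk eu ek (hQ.comm u hu k hk).symm
    have hkv := hzero hjv hdv hjk hdk ev ek (hQ.comm v hv k hk).symm
    have hec : ∀ y : G, y * e = e * y := fun y => by
      rcases he with rfl | rfl
      · rw [mul_one, one_mul]
      · exact hC.comm_core hz y
    rcases h with rfl | rfl | rfl | rfl
    · exact he
    · exfalso
      refine hz1 ((mul_eq_left (a := du * dv)).1 (?_ : du * dv * z = du * dv))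
      rw [mul_assoc, ← hec dv, ← mul_assoc, ← mul_assoc, mul_left_inj] at hkv
      rw [← hvu', ← hkv]
    · exfalso
      refine hz1 ((mul_eq_left (a := du * dv)).1 (?_ : du * dv * z = du * dv))
      rw [mul_assoc, ← hec du, ← mul_assoc, ← mul_assoc, mul_left_inj] at hku
      rw [← hvu', hku]
    · exfalso
      refine hz1 ((mul_eq_left (a := du * dv)).1 (?_ : du * dv * z = du * dv))
      rw [mul_assoc, ← hec du, ← mul_assoc, ← mul_assoc du (du * dv), mul_left_inj, mul_assoc du dv du,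
        mul_right_inj] at hku
      rw [← hvu', hku]
  refine hz1 ((mul_eq_left (a := dk * dl)).1 ?_)
  rw [← hlk']
  rcases hkc with rfl | rfl
  · rw [mul_one, one_mul]
  · exact hC.comm_core hz dl

/-- The kernels at the point of a line of the second kind. -/
theorem kernel_cases (hL : Lined G) (hcard : Nat.card ↥(Cfsg.pCore 2 G) = 2) (hz : z ∈ Cfsg.pCore 2 G)
    (hz2 : orderOf z = 2) (hQ : Quad z S T J) (hne : T' ≠ S) :
    (S : Subgroup G) ⊓ (T' : Subgroup G) = Cfsg.pCore 2 G ∨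
      (S : Subgroup G) ⊓ (T' : Subgroup G) = (S : Subgroup G) ⊓ (T : Subgroup G) ∨
      (S : Subgroup G) ⊓ (T' : Subgroup G) = J := by
  by_contra hno
  push Not at hno
  obtain ⟨hnt, hnD, hnJ⟩ := hno
  obtain ⟨q', g', J', -, hd⟩ := hL.data z hz hz2 S T' hne hnt
  have hQ' := hC.quad_of_quad hcard hz hz2 hQ hne hnt hd
  have hz1 := involution_ne_one hz2
  have hPD : Cfsg.pCore 2 G ≤ (S : Subgroup G) ⊓ (T : Subgroup G) := hQ.inf.ge.trans inf_le_left
  have hPJ : Cfsg.pCore 2 G ≤ J := hQ.inf.ge.trans inf_le_right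
  have hmem : ∀ a ∈ (S : Subgroup G) ⊓ (T' : Subgroup G), a ∈ (S : Subgroup G) ⊓ (T : Subgroup G) ∨ a ∈ J := by
    intro a ha
    by_cases haP : a ∈ Cfsg.pCore 2 G
    · exact Or.inl (hPD haP)
    obtain ⟨j, hj, d, hdD, he⟩ := hQ.Ee_sub _ (hQ'.memD a ha)
    obtain ⟨p, hp, rfl⟩ : ∃ p ∈ Cfsg.pCore 2 G, a = j * d * p := ⟨_, pr_eq_iff.1 he, by group⟩
    by_cases hjP : j ∈ Cfsg.pCore 2 G
    · exact Or.inl (mul_mem (mul_mem (hPD hjP) hdD) (hPD hp))
    by_cases hdP : d ∈ Cfsg.pCore 2 G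
    · exact Or.inr (mul_mem (mul_mem hj (hPJ hdP)) (hPJ hp))
    exfalso
    have h1 := hQ'.sqD _ ha haP
    rw [show j * d * p * (j * d * p) = j * d * (p * (j * d)) * p by group, ← hC.comm_core hp (j * d),
      show j * d * (j * d * p) * p = j * (d * j) * d * (p * p) by group, hQ.comm d hdD j hj,
      show j * (j * d) * d = j * j * (d * d) by group, hQ.sqJ j hj hjP, hQ.sqD d hdD hdP,
      involution_sq hz2] at h1
    rcases hC.core_cases hcard hz hz2 hp with rfl | rfl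
    · exact hz1 (by simpa using h1.symm)
    · rw [involution_sq hz2, one_mul] at h1
      exact hz1 h1.symm
  by_cases hle : (S : Subgroup G) ⊓ (T' : Subgroup G) ≤ (S : Subgroup G) ⊓ (T : Subgroup G)
  · exact hnD (eq_of_le_of_card_ge hle (by rw [hQ.cardD, hQ'.cardD]))
  obtain ⟨a, ha, haD⟩ := SetLike.not_le_iff_exists.1 hle
  refine hnJ (eq_of_le_of_card_ge (fun b hb => ?_) (by rw [hQ.cardJ, hQ'.cardD]))
  have haJ := (hmem a ha).resolve_left haD
  rcases hmem b hb with h | h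
  · rcases hmem (a * b) (mul_mem ha hb) with h' | h'
    · exact absurd (by simpa using mul_mem h' (inv_mem h)) haD
    · simpa using mul_mem (inv_mem haJ) h'
  · exact h

theorem coe_smul_inf (g : G) (U V : Sylow 2 G) :
    ((g • U : Sylow 2 G) : Subgroup G) ⊓ ((g • V : Sylow 2 G) : Subgroup G) =
      ((U : Subgroup G) ⊓ (V : Subgroup G)).map (MulAut.conj g).toMonoidHom := by
  rw [Subgroup.map_inf _ _ _ (MulAut.conj g).injective]; rfl

omit hC in
/-- Unique lines through every point contradict the connection of the points. -/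
theorem second_kernel (hC : Central G) (hL : Lined G) (hcard : Nat.card ↥(Cfsg.pCore 2 G) = 2) (hz : z ∈ Cfsg.pCore 2 G)
    (hz2 : orderOf z = 2) (hd : LineData z q S T g J) (hne : T ≠ S) (hQ : Quad z S T J) :
    ∃ T' : Sylow 2 G, T' ≠ S ∧ (S : Subgroup G) ⊓ (T' : Subgroup G) = J := by
  haveI := Fact.mk Nat.prime_two
  have hPD : Cfsg.pCore 2 G ≤ (S : Subgroup G) ⊓ (T : Subgroup G) := hQ.inf.ge.trans inf_le_left
  have hnt : (S : Subgroup G) ⊓ (T : Subgroup G) ≠ Cfsg.pCore 2 G := fun e => by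
    have h := hQ.cardD
    rw [e, hcard] at h
    omega
  have hD0 := hC.hD_of_ne hne hnt
  by_contra hno
  push Not at hno
  -- one line at every point
  have huni : ∀ U V W : Sylow 2 G, V ≠ U → W ≠ U → (U : Subgroup G) ⊓ (V : Subgroup G) ≠ Cfsg.pCore 2 G →
      (U : Subgroup G) ⊓ (W : Subgroup G) ≠ Cfsg.pCore 2 G →
      (U : Subgroup G) ⊓ (V : Subgroup G) = (U : Subgroup G) ⊓ (W : Subgroup G) := by
    intro U V W hV hW hVn hWn
    obtain ⟨k, rfl⟩ := MulAction.exists_smul_eq G S U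
    have key : ∀ V : Sylow 2 G, V ≠ k • S → ((k • S : Sylow 2 G) : Subgroup G) ⊓ (V : Subgroup G) ≠ Cfsg.pCore 2 G →
        ((k • S : Sylow 2 G) : Subgroup G) ⊓ (V : Subgroup G) =
          ((S : Subgroup G) ⊓ (T : Subgroup G)).map (MulAut.conj k).toMonoidHom := by
      intro V hV hVn
      have hV' : k⁻¹ • V ≠ S := fun e => hV (inv_smul_eq_iff.1 e)
      rw [← smul_inv_smul k V, hC.coe_smul_inf] at hVn ⊢
      rcases hC.kernel_cases hL hcard hz hz2 hQ hV' with e | e | e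
      · exfalso
        refine hVn ?_
        rw [e]
        refine eq_of_le_of_card_ge ?_ (by rw [card_map_of_injective (MulAut.conj k).injective])
        rintro _ ⟨p, hp, rfl⟩
        exact (inferInstance : (Cfsg.pCore 2 G).Normal).conj_mem p hp k
      · rw [e]
      · exact absurd e (hno _ hV')
    rw [key V hV hVn, key W hW hWn]
  -- the points of a line are odd in number
  have hodd : ∀ U V : Sylow 2 G, V ≠ U → (U : Subgroup G) ⊓ (V : Subgroup G) ≠ Cfsg.pCore 2 G →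
      ¬ 2 ∣ Nat.card {W : Sylow 2 G // (U : Subgroup G) ⊓ (V : Subgroup G) ≤ (W : Subgroup G)} := by
    intro U V hV hVn
    obtain ⟨k, rfl⟩ := MulAction.exists_smul_eq G S U
    have hV' : k⁻¹ • V ≠ S := fun e => hV (inv_smul_eq_iff.1 e)
    have hVn' := hVn
    rw [← smul_inv_smul k V, hC.coe_smul_inf] at hVn'
    have he : (S : Subgroup G) ⊓ ((k⁻¹ • V : Sylow 2 G) : Subgroup G) = (S : Subgroup G) ⊓ (T : Subgroup G) := by
      rcases hC.kernel_cases hL hcard hz hz2 hQ hV' with e | e | e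
      · exfalso
        refine hVn' ?_
        rw [e]
        refine eq_of_le_of_card_ge ?_ (by rw [card_map_of_injective (MulAut.conj k).injective])
        rintro _ ⟨p, hp, rfl⟩
        exact (inferInstance : (Cfsg.pCore 2 G).Normal).conj_mem p hp k
      · exact e
      · exact absurd e (hno _ hV')
    set D := (S : Subgroup G) ⊓ (T : Subgroup G) with hDdef
    have hcount : Nat.card {W : Sylow 2 G // ((k • S : Sylow 2 G) : Subgroup G) ⊓ (V : Subgroup G) ≤ (W : Subgroup G)} =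
        Nat.card {W : Sylow 2 G // D ≤ (W : Subgroup G)} := by
      refine Nat.card_congr (Equiv.subtypeEquiv (MulAction.toPerm (k⁻¹ : G)) fun W => ?_)
      show _ ↔ D ≤ ((k⁻¹ • W : Sylow 2 G) : Subgroup G)
      rw [← smul_inv_smul k V, hC.coe_smul_inf, he]
      constructor
      · intro h d hdD
        have h1 := h ⟨d, hdD, rfl⟩
        rw [← smul_inv_smul k W] at h1
        obtain ⟨w, hw, e⟩ := h1
        exact (MulAut.conj k).injective e ▸ hw
      · rintro h _ ⟨d, hdD, rfl⟩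
        rw [← smul_inv_smul k W]
        exact ⟨d, h hdD, rfl⟩
    rw [hcount]
    -- the others form an orbit of `S`
    letI : MulAction (S : Subgroup G) (Sylow 2 G) := inferInstance
    have hset : {W : Sylow 2 G | D ≤ (W : Subgroup G)} = insert S (MulAction.orbit (S : Subgroup G) T) := by
      ext W
      constructor
      · intro hW
        by_cases hWS : W = S
        · exact Or.inl hWS
        obtain ⟨x, hx, e⟩ := hd.trans W hW hWS
        exact Or.inr ⟨⟨x, hx.1⟩, e⟩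
      · rintro (hW | ⟨⟨x, hx⟩, rfl⟩)
        · intro d hdD
          rw [hW]
          exact hdD.1
        · intro d hdD
          have hxn : x ∈ normalizer (D : Set G) := (hQ.rk.ge hx).2
          refine ⟨x⁻¹ * d * x, ((mem_normalizer_iff''.1 hxn d).1 hdD).2, ?_⟩
          show x * (x⁻¹ * d * x) * x⁻¹ = d
          group
    have hTnot : S ∉ MulAction.orbit (S : Subgroup G) T := by
      rintro ⟨⟨x, hx⟩, e⟩
      refine hne ?_
      have hxS : x • S = S := Sylow.smul_eq_iff_mem_normalizer.2 (le_normalizer hx)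
      exact MulAction.injective x ((show x • T = S from e).trans hxS.symm)
    have hstab : MulAction.stabilizer (S : Subgroup G) T = D.subgroupOf (S : Subgroup G) := by
      ext ⟨x, hx⟩
      rw [MulAction.mem_stabilizer_iff, mem_subgroupOf]
      show x • T = T ↔ _
      rw [Sylow.smul_eq_iff_mem_normalizer]
      refine ⟨fun h => ⟨hx, ?_⟩, fun h => le_normalizer h.2⟩
      have h' : x ∈ zpowers x ⊓ normalizer (T : Set G) := ⟨mem_zpowers x, h⟩
      rw [(S.isPGroup'.to_le (zpowers_le.2 hx)).inf_normalizer_sylow T] at h'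
      exact h'.2
    have hc1 : Nat.card {W : Sylow 2 G // D ≤ (W : Subgroup G)} =
        (D.subgroupOf (S : Subgroup G)).index + 1 := by
      show Nat.card ↥{W : Sylow 2 G | D ≤ (W : Subgroup G)} = _
      rw [Nat.card_coe_set_eq, hset, Set.ncard_insert_of_notMem hTnot, ← MulAction.index_stabilizer, hstab]
    rw [hc1]
    intro h2
    obtain ⟨n, hn⟩ := S.isPGroup'.exists_card_eq
    have h8 := (D.subgroupOf (S : Subgroup G)).card_mul_index
    rw [Nat.card_congr (subgroupOfEquivOfLe (inf_le_left : D ≤ (S : Subgroup G))).toEquiv, hQ.cardD, hn] at h8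
    obtain ⟨i, -, hi⟩ := (Nat.dvd_prime_pow Nat.prime_two).1 (Dvd.intro_left _ h8 :
      (D.subgroupOf (S : Subgroup G)).index ∣ 2 ^ n)
    rcases i with _ | i
    · rw [pow_zero, index_eq_one, subgroupOf_eq_top] at hi
      exact hne (Sylow.ext (T.3 T.isPGroup' le_rfl ▸ eq_of_le_of_card_ge (hi.trans inf_le_right)
        (by rw [Sylow.card_eq_multiplicity T, Sylow.card_eq_multiplicity S]))).symm
    · rw [hi, pow_succ] at h2
      omega
  -- the connection
  obtain ⟨h, hh⟩ := hC.exists_multi hD0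
  obtain ⟨a, rfl⟩ := pr_surjective h
  obtain ⟨-, hh1, U₀, V₀, hUV, hU₀, hV₀⟩ := id hh
  refine hh1 (core_eq_one fun b => ?_)
  by_contra hb
  obtain ⟨x, hx⟩ := hC.exists_X1 hD0 b
  obtain ⟨u, huu, hu1, hux, huh⟩ := hC.exists_between hx.1 hh.1 hh.2.1 (hC.not_isI_of_multi hh)
  have hub := hC.mem_Spt_of_commute hx.1 hx.2.1 huu hux
  by_cases huI : IsI u
  · exact hb (hC.mem_Spt_of_commute huI hub hh.1 huh.symm)
  obtain ⟨v, rfl⟩ := pr_surjective u
  have haU : a ∈ (U₀ : Subgroup G) := mem_Spt.1 hU₀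
  have hp : IsPGroup 2 (zpowers a) := U₀.isPGroup'.to_le (zpowers_le.2 haU)
  have hfix : ∀ W : Sylow 2 G, a • W = W → a ∈ (W : Subgroup G) := fun W hW => by
    have h' : a ∈ zpowers a ⊓ normalizer (W : Set G) := ⟨mem_zpowers a, Sylow.smul_eq_iff_mem_normalizer.1 hW⟩
    rw [hp.inf_normalizer_sylow W] at h'
    exact h'.2
  have hab : a • b ≠ b := fun e => hb (mem_Spt.2 (hfix b e))
  set K := (b : Subgroup G) ⊓ ((a • b : Sylow 2 G) : Subgroup G) with hKdef
  have hvK : v ∈ K := by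
    refine ⟨mem_Spt.1 hub, mem_Spt.1 ?_⟩
    have := pr_conj_mem_Spt (g := a) hub
    rwa [← huh, mul_inv_cancel_right] at this
  have hKn : K ≠ Cfsg.pCore 2 G := fun e => hu1 (pr_eq_one_iff.2 (e ▸ hvK))
  -- `a` normalises the kernel
  have hKa : ((a • b : Sylow 2 G) : Subgroup G) ⊓ ((a • a • b : Sylow 2 G) : Subgroup G) = K := by
    rw [huni (a • b) (a • a • b) b (fun e => hab (MulAction.injective a e)) hab.symm ?_ (by rw [inf_comm]; exact hKn),
      inf_comm]
    rw [hC.coe_smul_inf]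
    intro e
    refine hKn (eq_of_le_of_card_ge ?_ ?_).symm
    · exact le_inf (HallGen.pCore_le_sylow _) (HallGen.pCore_le_sylow _)
    · rw [← card_map_of_injective (f := (MulAut.conj a).toMonoidHom) (MulAut.conj a).injective (K := K), ← e]
  have haK : ∀ W : Sylow 2 G, K ≤ (W : Subgroup G) → K ≤ ((a • W : Sylow 2 G) : Subgroup G) := by
    intro W hW y hy
    rw [← hKa, hC.coe_smul_inf] at hy
    obtain ⟨y', hy', rfl⟩ := hy
    exact ⟨y', hW hy', rfl⟩
  let X := {W : Sylow 2 G // K ≤ (W : Subgroup G)}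
  have hpow : ∀ y ∈ zpowers a, ∀ W : Sylow 2 G, K ≤ (W : Subgroup G) → K ≤ ((y • W : Sylow 2 G) : Subgroup G) := by
    intro y hy
    obtain ⟨n, rfl⟩ := (mem_powers_iff_mem_zpowers.2 hy : y ∈ Submonoid.powers a)
    dsimp only
    clear hy
    induction n with
    | zero => intro W hW; simpa using hW
    | succ n ih => intro W hW; rw [pow_succ', mul_smul]; exact haK _ (ih W hW)
  letI : MulAction (zpowers a) X :=
    { smul := fun y W => ⟨(y : G) • W.1, hpow y y.2 W.1 W.2⟩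
      one_smul := fun W => Subtype.ext (one_smul G W.1)
      mul_smul := fun y y' W => Subtype.ext (mul_smul (y : G) (y' : G) W.1) }
  obtain ⟨⟨W, hW⟩, hWfix⟩ := hp.nonempty_fixed_point_of_prime_not_dvd_card X (hodd b (a • b) hab hKn)
  have haW : a ∈ (W : Subgroup G) := hfix W (congrArg Subtype.val (hWfix ⟨a, mem_zpowers a⟩))
  have hWb : b ≠ W := fun e => hb (mem_Spt.2 (e ▸ haW))
  obtain ⟨W', hW'W, haW'⟩ : ∃ W' : Sylow 2 G, W' ≠ W ∧ a ∈ (W' : Subgroup G) := by
    by_cases e : U₀ = W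
    · exact ⟨V₀, fun e' => hUV (e.trans e'.symm), mem_Spt.1 hV₀⟩
    · exact ⟨U₀, e, haU⟩
  have haP : a ∉ Cfsg.pCore 2 G := fun h => hh1 (pr_eq_one_iff.2 h)
  have e := huni W W' b hW'W hWb (fun e => haP (e ▸ ⟨haW, haW'⟩))
    (fun e => hu1 (pr_eq_one_iff.2 (e ▸ ⟨hW hvK, hvK.1⟩)))
  exact hb (mem_Spt.2 ((e ▸ ⟨haW, haW'⟩ : a ∈ (W : Subgroup G) ⊓ (b : Subgroup G)).2))

/-- A point of a line of the second kind is the central product of its kernels. -/
theorem sylow_card (hcard : Nat.card ↥(Cfsg.pCore 2 G) = 2) (hz : z ∈ Cfsg.pCore 2 G) (hz2 : orderOf z = 2)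
    (hL : Lined G) (hd : LineData z q S T g J) (hne : T ≠ S) (hQ : Quad z S T J) (hne' : T' ≠ S)
    (hT' : (S : Subgroup G) ⊓ (T' : Subgroup G) = J) : Nat.card (S : Subgroup G) = 32 := by
  haveI := Fact.mk Nat.prime_two
  have hnt' : (S : Subgroup G) ⊓ (T' : Subgroup G) ≠ Cfsg.pCore 2 G := fun e => by
    have h := hQ.cardJ
    rw [← hT', e, hcard] at h
    omega
  obtain ⟨q', g', J', -, hd'⟩ := hL.data z hz hz2 S T' hne' hnt'
  have hQ' := hC.quad_of_quad hcard hz hz2 hQ hne' hnt' hd'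
  set D := (S : Subgroup G) ⊓ (T : Subgroup G) with hDdef
  have hPD : Cfsg.pCore 2 G ≤ D := hQ.inf.ge.trans inf_le_left
  have hPJ : Cfsg.pCore 2 G ≤ J := hQ.inf.ge.trans inf_le_right
  set W := (S : Subgroup G) ⊓ centralizer (D : Set G) ⊓ centralizer (J : Set G) with hWdef
  have hz1 := involution_ne_one hz2
  -- a central element of a quaternion pair lies in the core
  have hcore : ∀ {M : Subgroup G}, IsPGroup 2 M → (∀ a ∈ M, a ∉ Cfsg.pCore 2 G → a * a = z) →
      (∃ u ∈ M, ∃ v ∈ M, v * u = u * v * z) → ∀ a ∈ M, (∀ b ∈ M, b * a = a * b) → a ∈ Cfsg.pCore 2 G := by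
    rintro M - hsq ⟨u, hu, v, hv, hvu⟩ a ha hac
    by_contra haP
    have key : ∀ b ∈ M, b ∈ Cfsg.pCore 2 G ∨ a⁻¹ * b ∈ Cfsg.pCore 2 G := by
      intro b hb
      by_contra hno
      push Not at hno
      have h1 := hsq _ (mul_mem (inv_mem ha) hb) hno.2
      rw [show a⁻¹ * b * (a⁻¹ * b) = a⁻¹ * (b * a⁻¹) * b by group, (show Commute b a from hac b hb).inv_right.eq,
        show a⁻¹ * (a⁻¹ * b) * b = (a * a)⁻¹ * (b * b) by group, hsq a ha haP, hsq b hb hno.1, inv_mul_cancel] at h1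
      exact hz1 h1.symm
    have hcomm : v * u = u * v := by
      have hsplit : ∀ b ∈ M, ∃ p ∈ Cfsg.pCore 2 G, b = p ∨ b = a * p := fun b hb =>
        (key b hb).elim (fun h => ⟨b, h, Or.inl rfl⟩) fun h => ⟨_, h, Or.inr (mul_inv_cancel_left a b).symm⟩
      obtain ⟨p, hp, hu'⟩ := hsplit u hu
      obtain ⟨r, hr, hv'⟩ := hsplit v hv
      have cp : ∀ y, Commute y p := hC.comm_core hp
      have cr : ∀ y, Commute y r := hC.comm_core hr
      rcases hu' with rfl | rfl <;> rcases hv' with rfl | rfl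
      exacts [(cp _).eq, (cp _).eq, (cr _).eq.symm,
        (((Commute.refl a).mul_right (cp a)).mul_left (((cr a).symm).mul_right (cp r))).eq]
    exact hz1 (mul_eq_left.1 (hvu.symm.trans hcomm))
  have hW : W ≤ Cfsg.pCore 2 G := by
    intro w hw
    obtain ⟨k, hk⟩ := S.isPGroup' ⟨w, hw.1.1⟩
    have hk' : w ^ 2 ^ k = 1 := congrArg Subtype.val hk
    clear hk
    induction k generalizing w with
    | zero => rw [pow_zero, pow_one] at hk'; rw [hk']; exact one_mem _
    | succ k ih =>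
      have h1 := ih (mul_mem hw hw) (by rw [← pow_two, ← pow_mul, ← pow_succ', hk'])
      obtain ⟨j, hj, d, hdD, rfl⟩ := (hd.sq_iff w (hQ.rk.ge hw.1.1)).1 (hPD h1)
      have hwD := mem_centralizer_iff.1 hw.1.2
      have hwJ := mem_centralizer_iff.1 hw.2
      refine mul_mem (hcore (S.isPGroup'.to_le hQ.leJ) hQ.sqJ hQ.pairJ j hj fun b hb => ?_)
        (hcore (S.isPGroup'.to_le inf_le_left) hQ.sqD hQ.pairD d hdD fun b hb => ?_)
      · refine mul_right_cancel (b := d) ?_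
        rw [mul_assoc, hwJ b hb, mul_assoc, mul_assoc, ← hQ.comm d hdD b hb]
      · refine mul_left_cancel (a := j) ?_
        rw [← mul_assoc, ← hQ.comm b hb j hj, mul_assoc, hwD b hb, mul_assoc]
  let f : D × J →* G := D.subtype.noncommCoprod J.subtype fun a b => hQ.comm a a.2 b b.2
  have hrange : f.range = (S : Subgroup G) := by
    have e : f.range = D.subtype.range ⊔ J.subtype.range := MonoidHom.noncommCoprod_range _ _ _
    rw [e, range_subtype, range_subtype]
    refine le_antisymm (sup_le inf_le_left hQ.leJ) fun s hs => ?_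
    obtain ⟨d, hdD, hdc⟩ := hd.inner s (hQ.rk.ge hs)
    have hcS : d⁻¹ * s ∈ (S : Subgroup G) := mul_mem (inv_mem hdD.1) hs
    obtain ⟨j, hjJ, hjc⟩ := hd'.inner (d⁻¹ * s) (hQ'.rk.ge hcS)
    have hjJ' : j ∈ J := hT' ▸ hjJ
    have hw : j⁻¹ * (d⁻¹ * s) ∈ W := by
      refine ⟨⟨(S : Subgroup G).mul_mem ((S : Subgroup G).inv_mem (hQ.leJ hjJ')) hcS, mem_centralizer_iff.2 fun e he => ?_⟩,
        mem_centralizer_iff.2 fun e he => (hjc e (hT'.ge he)).symm⟩
      show Commute e (j⁻¹ * (d⁻¹ * s))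
      exact (show Commute e j from hQ.comm e he j hjJ').inv_right.mul_right (hdc e he).symm
    rw [show s = d * (j * (j⁻¹ * (d⁻¹ * s))) by group]
    exact mul_mem (mem_sup_left hdD) (mul_mem (mem_sup_right hjJ') (mem_sup_right (hPJ (hW hw))))
  have hk2 : Nat.card f.ker = 2 := by
    rw [← hcard]
    symm
    refine Nat.card_eq_of_bijective (fun p : ↥(Cfsg.pCore 2 G) =>
      (⟨(⟨p, hPD p.2⟩, ⟨(p : G)⁻¹, inv_mem (hPJ p.2)⟩), mul_inv_cancel (p : G)⟩ : f.ker)) ⟨fun p r e => ?_, ?_⟩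
    · exact Subtype.ext (congrArg (fun t : f.ker => ((t.1.1 : D) : G)) e :)
    · rintro ⟨⟨⟨a, ha⟩, ⟨b, hb⟩⟩, hab⟩
      have hab' : a * b = 1 := hab
      have e : b = a⁻¹ := eq_inv_of_mul_eq_one_right hab'
      have haP : a ∈ Cfsg.pCore 2 G := by
        refine hQ.inf.le ⟨ha, ?_⟩
        rw [show a = b⁻¹ by rw [e, inv_inv]]
        exact J.inv_mem hb
      exact ⟨⟨a, haP⟩, Subtype.ext (Prod.ext rfl (Subtype.ext e.symm))⟩
  have h := f.ker.card_mul_index
  rw [index_ker, hrange, hk2, Nat.card_prod, hQ.cardD, hQ.cardJ] at h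
  omega

end Central

/-- A line of the second kind gives case (b). -/
theorem gridData_of_alpha {G : Type u} [Group G] [Finite G] (hC : Central G) (hL : Lined G) {z : G}
    (hz : z ∈ Cfsg.pCore 2 G) (hz2 : orderOf z = 2) {S T : Sylow 2 G} {q : ℕ} {g : G} {J : Subgroup G}
    (hd : LineData z q S T g J) (hne : T ≠ S)
    (hnt : (S : Subgroup G) ⊓ (T : Subgroup G) ≠ Cfsg.pCore 2 G)
    (hk : ∃ j ∈ J, j ∉ (S : Subgroup G) ⊓ (T : Subgroup G) ∧ ¬ IsI (pr j)) : GridData G := by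
  haveI := Fact.mk Nat.prime_two
  obtain ⟨j, hj, hjD, hjI⟩ := hk
  have hj1 : pr j ≠ 1 := fun e => hjD (le_inf (HallGen.pCore_le_sylow S) (HallGen.pCore_le_sylow T)
    (pr_eq_one_iff.1 e))
  rcases hd.kind with ⟨hsq, -, -⟩ | ⟨-, hJ, hkind⟩
  · exact absurd (hC.isI_of_sq (one_mem _) hj1 (by rw [hsq j hj, one_mul])) hjI
  have hjj : j * j = z := hkind j hj (fun e => hjD (e ▸ one_mem _))
    fun e => hjD (e ▸ le_inf (HallGen.pCore_le_sylow S) (HallGen.pCore_le_sylow T) hz)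
  have hcard := (hC.card_core_or hz hz2).resolve_right fun ⟨p, hp, hpz⟩ =>
    hjI (hC.isI_of_sq hp hj1 (hjj.trans hpz.symm))
  have hQ := hC.quad_of_kind hcard hz hz2 hne hnt hd hJ hkind
  obtain ⟨T', hne', hT'⟩ := hC.second_kernel hL hcard hz hz2 hd hne hQ
  have h32 := hC.sylow_card hcard hz hz2 hL hd hne hQ hne' hT'
  refine ⟨hC, hcard, fun U => ?_⟩
  obtain ⟨k, rfl⟩ := MulAction.exists_smul_eq G S U
  have hinj : Function.Injective (MulAut.conj k).toMonoidHom := (MulAut.conj k).injective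
  have hPn : (Cfsg.pCore 2 G).map (MulAut.conj k).toMonoidHom = Cfsg.pCore 2 G := by
    refine eq_of_le_of_card_ge ?_ (by rw [card_map_of_injective hinj])
    rintro _ ⟨p, hp, rfl⟩
    exact (inferInstance : (Cfsg.pCore 2 G).Normal).conj_mem p hp k
  have hmem : ∀ {a : G}, (MulAut.conj k).toMonoidHom a ∈ Cfsg.pCore 2 G ↔ a ∈ Cfsg.pCore 2 G := fun {a} => by
    refine ⟨fun h => ?_, fun h => hPn.le (mem_map_of_mem _ h)⟩
    rw [← hPn] at h
    exact (mem_map_iff_mem hinj).1 h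
  have hsq : ∀ {M : Subgroup G}, (∀ a ∈ M, a ∉ Cfsg.pCore 2 G → a * a = z) →
      ∀ a ∈ M.map (MulAut.conj k).toMonoidHom, a ∉ Cfsg.pCore 2 G → a * a ∈ Cfsg.pCore 2 G ∧ a * a ≠ 1 := by
    rintro M hM _ ⟨a, ha, rfl⟩ haP
    rw [← map_mul, hM a ha fun h => haP (hmem.2 h)]
    refine ⟨hmem.2 hz, fun e => involution_ne_one hz2 (hinj ?_)⟩
    rw [e, map_one]
  refine ⟨(Nat.card_congr ((equivMapOfInjective _ _ hinj).trans
      (MulEquiv.subgroupCongr rfl)).toEquiv).symm.trans h32,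
    ((S : Subgroup G) ⊓ (T : Subgroup G)).map (MulAut.conj k).toMonoidHom, J.map (MulAut.conj k).toMonoidHom,
    by rw [card_map_of_injective hinj, hQ.cardD], by rw [card_map_of_injective hinj, hQ.cardJ],
    Subgroup.map_mono inf_le_left, Subgroup.map_mono hQ.leJ, ?_, by rw [← Subgroup.map_inf _ _ _ hinj, hQ.inf, hPn],
    hsq hQ.sqD, hsq hQ.sqJ, fun W hW => ?_, ⟨k • T, fun e => hne (MulAction.injective k e), hC.coe_smul_inf k S T⟩,
    ⟨k • T', fun e => hne' (MulAction.injective k e), by rw [hC.coe_smul_inf k S T', hT']⟩⟩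
  · rintro _ ⟨a, ha, rfl⟩ _ ⟨b, hb, rfl⟩
    rw [← map_mul, ← map_mul, hQ.comm a ha b hb]
  · have hW' : k⁻¹ • W ≠ S := fun e => hW (inv_smul_eq_iff.1 e)
    rw [← smul_inv_smul k W, hC.coe_smul_inf]
    rcases hC.kernel_cases hL hcard hz hz2 hQ hW' with e | e | e <;> rw [e]
    exacts [Or.inl hPn, Or.inr (Or.inl rfl), Or.inr (Or.inr rfl)]

end CfsgLib.RankOneInter
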