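import Cfsg.Agent.Lib.Invol.RankOneInter.Central.GridFactor

/-!
Owner: helper16. Case (b) of Theorem B of S3310.

* `grid_of_data`: two families of quaternion kernels give the central product of two copies of `SL(2,5)`.
-/

set_option autoImplicit false
set_option linter.style.haveILetI false

namespace CfsgLib.RankOneInter

open Subgroup
open CfsgLib.Signalizer (involution_sq involution_ne_one)

universe u

/-- The only involution of `SL(2,5)` is `-1`. -/
theorem sl25_eq_neg_one {u : Matrix.SpecialLinearGroup (Fin 2) (ZMod 5)} (h : u * u = 1) (h1 : u ≠ 1) : u = -1 := by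
  have key : ∀ a b c d : ZMod 5, a * a + b * c = 1 → a * b + b * d = 0 → c * a + d * c = 0 → c * b + d * d = 1 →
      a * d - b * c = 1 → (a = 1 ∧ b = 0 ∧ c = 0 ∧ d = 1) ∨ (a = -1 ∧ b = 0 ∧ c = 0 ∧ d = -1) := by
    decide +kernel
  have hd := u.2
  rw [Matrix.det_fin_two] at hd
  have he : ∀ i j, (u.1 * u.1) i j = (1 : Matrix (Fin 2) (Fin 2) (ZMod 5)) i j := fun i j => by
    rw [← Matrix.SpecialLinearGroup.coe_mul, h, Matrix.SpecialLinearGroup.coe_one]
  simp only [Matrix.mul_apply, Fin.sum_univ_two] at he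
  rcases key _ _ _ _ (by simpa using he 0 0) (by simpa using he 0 1) (by simpa using he 1 0)
      (by simpa using he 1 1) hd with ⟨ha, hb, hc, hd'⟩ | ⟨ha, hb, hc, hd'⟩
  · refine absurd ?_ h1
    ext i j
    fin_cases i <;> fin_cases j <;> simp [ha, hb, hc, hd']
  · ext i j
    fin_cases i <;> fin_cases j <;> simp [ha, hb, hc, hd']

/-- Case (b) of Theorem B. -/
theorem grid_of_data {G : Type u} [Group G] [Finite G] (hD : GridData G) : Grid G := by
  obtain ⟨S⟩ := (inferInstance : Nonempty (Sylow 2 G))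
  obtain ⟨A, B, h⟩ := hD.exists_duo S
  obtain ⟨eA⟩ := hD.factor_equiv h
  obtain ⟨eB⟩ := hD.factor_equiv h.swap
  obtain ⟨z, hz, hz2⟩ := hD.central.exists_z
  let sl := Matrix.SpecialLinearGroup (Fin 2) (ZMod 5)
  let fA : sl →* G := (LA A).subtype.comp eA.symm.toMonoidHom
  let fB : sl →* G := (LA B).subtype.comp eB.symm.toMonoidHom
  let ψ : sl × sl →* G := fA.noncommCoprod fB fun u v => hD.LA_comm h _ (eA.symm u).2 _ (eB.symm v).2
  have hA : fA.range = LA A := by
    rw [MonoidHom.range_comp, MonoidHom.range_eq_top.2 eA.symm.surjective, ← MonoidHom.range_eq_map, range_subtype]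
  have hB : fB.range = LA B := by
    rw [MonoidHom.range_comp, MonoidHom.range_eq_top.2 eB.symm.surjective, ← MonoidHom.range_eq_map, range_subtype]
  have hrange : ψ.range = LA A ⊔ LA B := by
    rw [← hA, ← hB]
    exact MonoidHom.noncommCoprod_range _ _ _
  have hzA : ∀ (L : Subgroup G) (e : ↥L ≃* sl) (hzL : z ∈ L), e ⟨z, hzL⟩ = -1 := fun L e hzL => by
    refine sl25_eq_neg_one ?_ fun e1 => involution_ne_one hz2 ?_
    · rw [← map_mul, ← map_one e]
      exact congrArg e (Subtype.ext (hD.core_sq hz))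
    · exact congrArg Subtype.val (e.injective (e1.trans (map_one e).symm))
  have hker : ψ.ker = zpowers ((-1 : sl), (-1 : sl)) := by
    refine le_antisymm ?_ ?_
    · rintro ⟨u, v⟩ huv
      have h1 : ((eA.symm u : ↥(LA A)) : G) * ((eB.symm v : ↥(LA B)) : G) = 1 := huv
      have h2 : ((eA.symm u : ↥(LA A)) : G) = ((eB.symm v : ↥(LA B)) : G)⁻¹ := eq_inv_of_mul_eq_one_left h1
      have hP := hD.inf_le_core h (mem_inf.2 ⟨(eA.symm u).2, by rw [h2]; exact (LA B).inv_mem (eB.symm v).2⟩)
      rcases hD.central.core_sq_one hz hz2 hP (hD.core_sq hP) with e | e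
      · rw [e, one_mul] at h1
        have hu : u = 1 := eA.symm.injective ((Subtype.ext e).trans (map_one _).symm)
        have hv : v = 1 := eB.symm.injective ((Subtype.ext h1).trans (map_one _).symm)
        rw [hu, hv]
        exact one_mem _
      · have hv' : ((eB.symm v : ↥(LA B)) : G) = z := by
          rw [e] at h1
          rw [eq_inv_of_mul_eq_one_right h1]
          exact inv_eq_of_mul_eq_one_right (hD.core_sq hz)
        have hu : u = -1 := by
          rw [← hzA (LA A) eA (hD.core_le_LA h hz)]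
          exact eA.symm_apply_eq.1 (Subtype.ext e)
        have hv : v = -1 := by
          rw [← hzA (LA B) eB (hD.core_le_LA h.swap hz)]
          exact eB.symm_apply_eq.1 (Subtype.ext hv')
        rw [hu, hv]
        exact mem_zpowers _
    · rw [zpowers_le, MonoidHom.mem_ker]
      have e1 : eA.symm (-1) = ⟨z, hD.core_le_LA h hz⟩ := eA.symm_apply_eq.2 (hzA _ eA _).symm
      have e2 : eB.symm (-1) = ⟨z, hD.core_le_LA h.swap hz⟩ := eB.symm_apply_eq.2 (hzA _ eB _).symm
      show ((eA.symm (-1) : ↥(LA A)) : G) * ((eB.symm (-1) : ↥(LA B)) : G) = 1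
      rw [e1, e2]
      exact hD.core_sq hz
  haveI hn := hD.sup_normal h
  haveI hZ : (zpowers ((-1 : sl), (-1 : sl))).Normal := hker ▸ inferInstance
  refine ⟨LA A ⊔ LA B, hn, Or.inl (hD.sup_index h), _, hZ, rfl, ⟨?_⟩⟩
  exact (MulEquiv.subgroupCongr hrange.symm).trans ((QuotientGroup.quotientKerEquivRange ψ).symm.trans
    (QuotientGroup.quotientMulEquivOfEq hker))

end CfsgLib.RankOneInter
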