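import Cfsg.Agent.Lib.Invol.RankOneInter.Central.LineDefs
import Cfsg.Agent.Lib.Invol.RankOneInter.Central.Exceptional
import Mathlib.FieldTheory.Finite.Basic

/-!
Owner: helper5. The lines in the central case.

* `smul_eq_self`, `img_injective`: with no exceptional point the odd core fixes the points.
* `Rk_le_Hc`, `mem_Rk`: the part of a point fixing a line is the centraliser of a central involution of its kernel.
* `lined`: lines meet in at most one point and carry the local data.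
-/

set_option autoImplicit false
set_option linter.style.haveILetI false
set_option linter.unusedSectionVars false

namespace CfsgLib.RankOneInter

open Subgroup
open CfsgLib.Signalizer (involution_sq involution_inv orderOf_eq_two_of involution_ne_one orderOf_conj)

universe u

variable {G : Type u} [Group G] [Finite G]

/-- An involution of the centre of the kernel of a line. -/
def IsKernelCenter (S T : Sylow 2 G) (c : Q G) : Prop :=
  c * c = 1 ∧ c ≠ 1 ∧ c ∈ Spt S ∧ c ∈ Spt T ∧ ∀ e ∈ Spt S ⊓ Spt T, e * c = c * e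

theorem IsKernelCenter.symm {S T : Sylow 2 G} {c : Q G} (h : IsKernelCenter S T c) : IsKernelCenter T S c :=
  ⟨h.1, h.2.1, h.2.2.2.1, h.2.2.1, fun e he => h.2.2.2.2 e ⟨he.2, he.1⟩⟩

theorem mem_Hc_kernel {S T : Sylow 2 G} {c : Q G} (h : IsKernelCenter S T c) {d : G}
    (hd : d ∈ (S : Subgroup G) ⊓ (T : Subgroup G)) : d ∈ Hc c :=
  mem_Hc.2 (h.2.2.2.2 _ ⟨mem_Spt.2 hd.1, mem_Spt.2 hd.2⟩)

namespace Central

variable (hC : Central G) {S T U : Sylow 2 G} {c : Q G} {z : G}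
include hC

variable (hD : ∃ S T : Sylow 2 G, S ≠ T ∧ Spt S ⊓ Spt T ≠ ⊥)
include hD

theorem smul_eq_self (hS : c ∈ Spt S) {o : G} (ho : o ∈ Oc c) : o • S = S :=
  (hC.smul_or_except hD hS ho).resolve_right fun ⟨_, _, _, hE, _⟩ => hC.no_except hD hE

theorem img_injective (hS : c ∈ Spt S) (hT : c ∈ Spt T) (h : hC.img hT hD = hC.img hS hD) : S = T := by
  obtain ⟨o, ho, rfl⟩ := hC.img_eq hD hS hT h
  exact (hC.smul_eq_self hD hS ho).symm

theorem mem_of_phi (hS : c ∈ Spt S) (hU : c ∈ Spt U) {s : Hc c} (hs : (s : G) ∈ (S : Subgroup G))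
    (h : phi c s ∈ (hC.img hU hD : Subgroup (Lc c))) : (s : G) ∈ (U : Subgroup G) := by
  obtain ⟨o, ho, hmem⟩ := hC.exists_smul_mem hD hU (hC.two_power_of_mem hD hs s.2) h
  rwa [hC.smul_eq_self hD hU ho] at hmem

theorem phi_mem_core_iff (hc : c ≠ 1) (hS : c ∈ Spt S) (hT : c ∈ Spt T) (hne : S ≠ T) {s : Hc c}
    (hs : (s : G) ∈ (S : Subgroup G)) :
    phi c s ∈ Cfsg.pCore 2 (Lc c) ↔ (s : G) ∈ (T : Subgroup G) := by
  refine ⟨fun h => hC.mem_of_phi hD hS hT hs (HallGen.pCore_le_sylow _ h), fun h => ?_⟩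
  rw [← hC.ti_L hD hc hS _ _ fun e => hne (hC.img_injective hD hT hS e).symm]
  exact ⟨hC.phi_mem_img hD hS hs, hC.phi_mem_img hD hT h⟩

/-- An element of two points of `c` centralising it lies in all points of `c`. -/
theorem mem_third (hc : c ≠ 1) (hS : c ∈ Spt S) (hT : c ∈ Spt T) (hU : c ∈ Spt U) (hne : S ≠ T) {s : Hc c}
    (hs : (s : G) ∈ (S : Subgroup G)) (hsT : (s : G) ∈ (T : Subgroup G)) : (s : G) ∈ (U : Subgroup G) :=
  hC.mem_of_phi hD hS hU hs (HallGen.pCore_le_sylow _ ((hC.phi_mem_core_iff hD hc hS hT hne hs).2 hsT))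

theorem exists_kernelCenter (h : Spt S ⊓ Spt T ≠ ⊥) : ∃ c, IsKernelCenter S T c := by
  haveI := Fact.mk Nat.prime_two
  have hp : IsPGroup 2 (Spt S ⊓ Spt T : Subgroup (Q G)) := (S.isPGroup'.map pr).to_le inf_le_left
  haveI : Nontrivial (Spt S ⊓ Spt T : Subgroup (Q G)) := (nontrivial_iff_ne_bot _).2 h
  haveI := hp.center_nontrivial
  obtain ⟨k, hk0, hk⟩ := (hp.to_subgroup (Subgroup.center _)).nontrivial_iff_card.1
    (inferInstance : Nontrivial (Subgroup.center (Spt S ⊓ Spt T : Subgroup (Q G))))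
  obtain ⟨w, hw⟩ := exists_prime_orderOf_dvd_card'
    (G := Subgroup.center (Spt S ⊓ Spt T : Subgroup (Q G))) 2 (hk ▸ dvd_pow_self 2 hk0.ne')
  have hw' : orderOf ((w : (Spt S ⊓ Spt T : Subgroup (Q G))) : Q G) = 2 := by
    rw [Subgroup.orderOf_coe, Subgroup.orderOf_coe, hw]
  exact ⟨((w : (Spt S ⊓ Spt T : Subgroup (Q G))) : Q G), involution_sq hw', involution_ne_one hw', w.1.2.1,
    w.1.2.2, fun e he => congrArg Subtype.val (mem_center_iff.1 w.2 ⟨e, he⟩)⟩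

/-- The elements of `S` fixing the line centralise the central involutions of its kernel. -/
theorem Rk_le_Hc (hne : S ≠ T) (hk : IsKernelCenter S T c) {x : G} (hx : x ∈ Rk S T) : x ∈ Hc c := by
  classical
  haveI := Fact.mk Nat.prime_two
  obtain ⟨z, hz, hz2⟩ := hC.exists_z
  -- `x` fixes one of them
  let X := {e : Q G // IsKernelCenter S T e}
  have hconj : ∀ y ∈ zpowers x, ∀ e, IsKernelCenter S T e → IsKernelCenter S T (pr y * e * (pr y)⁻¹) := by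
    intro y hy e he
    have hy' : y ∈ Rk S T := (zpowers_le.2 hx) hy
    have hD' : ∀ f ∈ Spt S ⊓ Spt T, (pr y)⁻¹ * f * pr y ∈ Spt S ⊓ Spt T := by
      intro f hf
      obtain ⟨d, rfl⟩ := pr_surjective f
      have h := (mem_normalizer_iff''.1 hy'.2 d).1 ⟨mem_Spt.1 hf.1, mem_Spt.1 hf.2⟩
      rw [← map_inv, ← map_mul, ← map_mul]
      exact ⟨mem_Spt.2 h.1, mem_Spt.2 h.2⟩
    have hD'' : ∀ f ∈ Spt S ⊓ Spt T, pr y * f * (pr y)⁻¹ ∈ Spt S ⊓ Spt T := by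
      intro f hf
      obtain ⟨d, rfl⟩ := pr_surjective f
      have h := (mem_normalizer_iff.1 hy'.2 d).1 ⟨mem_Spt.1 hf.1, mem_Spt.1 hf.2⟩
      rw [← map_inv, ← map_mul, ← map_mul]
      exact ⟨mem_Spt.2 h.1, mem_Spt.2 h.2⟩
    refine ⟨?_, fun h => he.2.1 (conj_eq_one_iff.1 h), (hD'' e ⟨he.2.2.1, he.2.2.2.1⟩).1,
      (hD'' e ⟨he.2.2.1, he.2.2.2.1⟩).2, fun f hf => ?_⟩
    · calc pr y * e * (pr y)⁻¹ * (pr y * e * (pr y)⁻¹) = pr y * (e * e) * (pr y)⁻¹ := by group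
        _ = 1 := by rw [he.1, mul_one, mul_inv_cancel]
    · calc f * (pr y * e * (pr y)⁻¹) = pr y * ((pr y)⁻¹ * f * pr y * e) * (pr y)⁻¹ := by group
        _ = pr y * (e * ((pr y)⁻¹ * f * pr y)) * (pr y)⁻¹ := by rw [he.2.2.2.2 _ (hD' f hf)]
        _ = _ := by group
  letI : MulAction (zpowers x) X :=
    { smul := fun y e => ⟨pr (y : G) * e.1 * (pr (y : G))⁻¹, hconj y y.2 e.1 e.2⟩
      one_smul := fun e => Subtype.ext (show pr ((1 : zpowers x) : G) * e.1 * (pr ((1 : zpowers x) : G))⁻¹ = e.1 by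
        simp)
      mul_smul := fun y y' e => Subtype.ext (show pr ((y * y' : zpowers x) : G) * e.1 *
        (pr ((y * y' : zpowers x) : G))⁻¹ = pr (y : G) * (pr (y' : G) * e.1 * (pr (y' : G))⁻¹) * (pr (y : G))⁻¹ by
          rw [Subgroup.coe_mul, map_mul]; group) }
  -- their number is odd
  have hodd : ¬ 2 ∣ Nat.card X := by
    let Z : Subgroup (Q G) :=
      { carrier := {e | e * e = 1 ∧ e ∈ Spt S ∧ e ∈ Spt T ∧ ∀ f ∈ Spt S ⊓ Spt T, f * e = e * f}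
        one_mem' := ⟨one_mul 1, one_mem _, one_mem _, fun f _ => by simp⟩
        mul_mem' := fun {a b} ha hb => ⟨by
          have hab : a * b = b * a := hb.2.2.2 a ⟨ha.2.1, ha.2.2.1⟩
          calc a * b * (a * b) = a * (b * a) * b := by group
            _ = a * a * (b * b) := by rw [← hab]; group
            _ = 1 := by rw [ha.1, hb.1, mul_one],
          mul_mem ha.2.1 hb.2.1, mul_mem ha.2.2.1 hb.2.2.1, fun f hf => by
            rw [← mul_assoc, ha.2.2.2 f hf, mul_assoc, hb.2.2.2 f hf, mul_assoc]⟩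
        inv_mem' := fun {a} ha => by
          show a⁻¹ * a⁻¹ = 1 ∧ _
          rw [inv_eq_of_mul_eq_one_right ha.1]
          exact ha }
    haveI := Fintype.ofFinite Z
    haveI := Fintype.ofFinite X
    have hXZ : Nat.card X + 1 = Nat.card Z := by
      rw [Nat.card_congr (α := X) (β := {e : Z // e ≠ 1})
        ⟨fun e => ⟨⟨e.1, e.2.1, e.2.2.2.1, e.2.2.2.2.1, e.2.2.2.2.2⟩, fun h => e.2.2.1 (congrArg Subtype.val h)⟩,
          fun e => ⟨e.1.1, e.1.2.1, fun h => e.2 (Subtype.ext h), e.1.2.2.1, e.1.2.2.2.1, e.1.2.2.2.2⟩,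
          fun e => rfl, fun e => rfl⟩]
      rw [Nat.card_eq_fintype_card, Nat.card_eq_fintype_card, Fintype.card_subtype_compl,
        Fintype.card_subtype_eq, Nat.sub_add_cancel Fintype.card_pos]
    have hZp : IsPGroup 2 Z := (S.isPGroup'.map pr).to_le fun e he => he.2.1
    haveI : Nontrivial Z := ⟨⟨⟨c, hk.1, hk.2.2.1, hk.2.2.2.1, hk.2.2.2.2⟩, 1,
      fun h => hk.2.1 (congrArg Subtype.val h)⟩⟩
    obtain ⟨k, hk0, hk'⟩ := hZp.nontrivial_iff_card.1 ‹_›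
    have h2 : 2 ∣ 2 ^ k := dvd_pow_self 2 hk0.ne'
    omega
  obtain ⟨⟨c₀, hc₀⟩, hfix⟩ :=
    (S.isPGroup'.to_le (zpowers_le.2 hx.1)).nonempty_fixed_point_of_prime_not_dvd_card X hodd
  have hxc₀ : pr x * c₀ * (pr x)⁻¹ = c₀ := congrArg Subtype.val (hfix ⟨x, mem_zpowers x⟩)
  have hxH : x ∈ Hc c₀ := mem_Hc.2 (mul_inv_eq_iff_eq_mul.1 hxc₀)
  -- the inner action on the kernel
  have hne' : hC.img hc₀.2.2.2.1 hD ≠ hC.img hc₀.2.2.1 hD := fun e => hne (hC.img_injective hD _ _ e)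
  obtain ⟨q, -, hdata⟩ := hC.exists_data hD hc₀.2.1 hc₀.2.2.1 hc₀.2.2.2.1 hne' hz hz2
  obtain ⟨g₀, J, hL⟩ := hdata _ _ hne'
  obtain ⟨r, rfl⟩ := pr_surjective c
  have hrD : r ∈ (S : Subgroup G) ⊓ (T : Subgroup G) := ⟨mem_Spt.1 hk.2.2.1, mem_Spt.1 hk.2.2.2.1⟩
  set x' : Hc c₀ := ⟨x, hxH⟩ with hx'
  set r' : Hc c₀ := ⟨r, mem_Hc_kernel hc₀ hrD⟩ with hr'
  obtain ⟨δ, hδ, hcen⟩ := hL.inner _ (hC.phi_mem_img hD hc₀.2.2.1 (s := x') hx.1)
  obtain ⟨t, htS, rfl⟩ := (hC.mem_img_iff hD hc₀.2.2.1).1 (HallGen.pCore_le_sylow (hC.img hc₀.2.2.1 hD) hδ)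
  have htT := (hC.phi_mem_core_iff hD hc₀.2.1 hc₀.2.2.1 hc₀.2.2.2.1 hne htS).1 hδ
  have hp : pr ((t * r' * t⁻¹ * r'⁻¹ : Hc c₀) : G) = 1 := by
    simp only [hr', Subgroup.coe_mul, InvMemClass.coe_inv, map_mul, map_inv,
      hk.2.2.2.2 _ ⟨mem_Spt.2 htS, mem_Spt.2 htT⟩]
    group
  have hP'S : ((t * r' * t⁻¹ * r'⁻¹ : Hc c₀) : G) ∈ (S : Subgroup G) :=
    HallGen.pCore_le_sylow S (pr_eq_one_iff.1 hp)
  have hmem : ((x' * r' * x'⁻¹ * r'⁻¹ : Hc c₀) : G) ∈ (S : Subgroup G) :=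
    mul_mem (mul_mem (mul_mem hx.1 hrD.1) (inv_mem hx.1)) (inv_mem hrD.1)
  have hrcore : phi c₀ r' ∈ Cfsg.pCore 2 (Lc c₀) :=
    (hC.phi_mem_core_iff hD hc₀.2.1 hc₀.2.2.1 hc₀.2.2.2.1 hne (s := r') hrD.1).2 hrD.2
  have heq : x' * r' * x'⁻¹ * r'⁻¹ = t * r' * t⁻¹ * r'⁻¹ := by
    refine hC.phi_inj hD (S := S) hmem hP'S ?_
    have h1 := hcen _ hrcore
    simp only [map_mul, map_inv]
    calc phi c₀ x' * phi c₀ r' * (phi c₀ x')⁻¹ * (phi c₀ r')⁻¹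
        = phi c₀ t * ((phi c₀ t)⁻¹ * phi c₀ x' * phi c₀ r') * (phi c₀ x')⁻¹ * (phi c₀ r')⁻¹ := by group
      _ = phi c₀ t * (phi c₀ r' * ((phi c₀ t)⁻¹ * phi c₀ x')) * (phi c₀ x')⁻¹ * (phi c₀ r')⁻¹ := by rw [h1]
      _ = _ := by group
  have h2 : pr ((x' * r' * x'⁻¹ * r'⁻¹ : Hc c₀) : G) = 1 := by rw [heq]; exact hp
  simp only [hx', hr', Subgroup.coe_mul, InvMemClass.coe_inv, map_mul, map_inv, mul_inv_eq_one,
    mul_inv_eq_iff_eq_mul, one_mul] at h2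
  exact mem_Hc.2 h2

theorem mem_Rk (hne : S ≠ T) (hk : IsKernelCenter S T c) {x : G} (hxS : x ∈ (S : Subgroup G)) (hxH : x ∈ Hc c) :
    x ∈ Rk S T := by
  refine ⟨hxS, Bender.mem_normalizer_of_map_conj_eq (eq_of_le_of_card_ge ?_
    (by rw [card_map_of_injective (MulAut.conj x).injective]))⟩
  rintro _ ⟨d, hd, rfl⟩
  show x * d * x⁻¹ ∈ (S : Subgroup G) ⊓ (T : Subgroup G)
  have hS' : x * d * x⁻¹ ∈ (S : Subgroup G) := mul_mem (mul_mem hxS hd.1) (inv_mem hxS)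
  set x' : Hc c := ⟨x, hxH⟩
  set d' : Hc c := ⟨d, mem_Hc_kernel hk hd⟩
  refine ⟨hS', hC.mem_of_phi hD hk.2.2.1 hk.2.2.2.1 (s := x' * d' * x'⁻¹) hS' (HallGen.pCore_le_sylow _ ?_)⟩
  rw [map_mul, map_mul, map_inv]
  exact (inferInstance : (Cfsg.pCore 2 (Lc c)).Normal).conj_mem _
    ((hC.phi_mem_core_iff hD hk.2.1 hk.2.2.1 hk.2.2.2.1 hne (s := d') hd.1).2 hd.2) _

/-- Lines meet in at most one point. -/
theorem meet (hne : S ≠ T) {x : G} (hxS : x ∈ (S : Subgroup G)) (hxT : x ∈ (T : Subgroup G))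
    (hxU : x ∈ (U : Subgroup G)) (hx : x ∉ Cfsg.pCore 2 G) :
    (S : Subgroup G) ⊓ (T : Subgroup G) ≤ (U : Subgroup G) := by
  haveI := Fact.mk Nat.prime_two
  -- an involution of the quotient among the powers of `x`
  have hp : IsPGroup 2 (zpowers (pr x)) := (S.isPGroup'.map pr).to_le (zpowers_le.2 (mem_Spt.2 hxS))
  obtain ⟨k, hk0, hk⟩ := hp.nontrivial_iff_card.1
    ((nontrivial_iff_ne_bot _).2 fun h => hx (pr_eq_one_iff.1 (by simpa using h)))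
  obtain ⟨⟨x', hx'⟩, hx'2⟩ := exists_prime_orderOf_dvd_card' (G := zpowers (pr x)) 2 (hk ▸ dvd_pow_self 2 hk0.ne')
  rw [Subgroup.orderOf_mk] at hx'2
  have hmem : ∀ V : Sylow 2 G, x ∈ (V : Subgroup G) → x' ∈ Spt V := fun V hV => zpowers_le.2 (mem_Spt.2 hV) hx'
  have hne1 := involution_ne_one hx'2
  have hbot : Spt S ⊓ Spt T ≠ ⊥ := fun h => hne1 (mem_bot.1 (h ▸ ⟨hmem S hxS, hmem T hxT⟩))
  obtain ⟨c, hc⟩ := hC.exists_kernelCenter hD hbot
  obtain ⟨r, rfl⟩ := pr_surjective c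
  have hrH : r ∈ Hc x' := mem_Hc.2 (hc.2.2.2.2 x' ⟨hmem S hxS, hmem T hxT⟩).symm
  have hrU : r ∈ (U : Subgroup G) := hC.mem_third hD hne1 (hmem S hxS) (hmem T hxT) (hmem U hxU) hne
    (s := ⟨r, hrH⟩) (mem_Spt.1 hc.2.2.1) (mem_Spt.1 hc.2.2.2.1)
  intro d hd
  exact hC.mem_third hD hc.2.1 hc.2.2.1 hc.2.2.2.1 (mem_Spt.2 hrU) hne (s := ⟨d, mem_Hc_kernel hc hd⟩) hd.1 hd.2

omit hC hD in
theorem exists_exponent {m k : ℕ} (hm : Odd m) :
    ∃ e : ℕ, 2 ^ k ∣ e ∧ ∀ n, n ∣ m → e % n = 1 % n := by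
  refine ⟨(2 ^ k) ^ m.totient, dvd_pow_self _ (Nat.totient_pos.2 hm.pos).ne', fun n hn => ?_⟩
  exact ((Nat.ModEq.pow_totient ((Nat.coprime_two_left.2 hm).pow_left k)).of_dvd hn)

/-- The data of a line. -/
theorem exists_lineData (hz : z ∈ Cfsg.pCore 2 G) (hz2 : orderOf z = 2) (hTS : T ≠ S)
    (hbot : Spt S ⊓ Spt T ≠ ⊥) : ∃ q g J, (∃ n, 2 ≤ n ∧ q = 2 ^ n) ∧ LineData z q S T g J := by
  classical
  haveI := Fact.mk Nat.prime_two
  have hne : S ≠ T := hTS.symm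
  obtain ⟨c, hk⟩ := hC.exists_kernelCenter hD hbot
  obtain ⟨hcc, hc, hS, hT, hcen⟩ := id hk
  have hne' : hC.img hT hD ≠ hC.img hS hD := fun e => hne (hC.img_injective hD _ _ e)
  obtain ⟨q, hq, hdata⟩ := hC.exists_data hD hc hS hT hne' hz hz2
  obtain ⟨g₀, J₀, hL⟩ := hdata _ _ hne'
  set D := (S : Subgroup G) ⊓ (T : Subgroup G) with hDdef
  -- translations
  have hDH : ∀ {d : G}, d ∈ D → d ∈ Hc c := fun hd => mem_Hc_kernel hk hd
  have hRH : ∀ {x : G}, x ∈ Rk S T → x ∈ Hc c := fun hx => hC.Rk_le_Hc hD hne hk hx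
  have hcore : ∀ {s : Hc c}, (s : G) ∈ (S : Subgroup G) →
      (phi c s ∈ Cfsg.pCore 2 (Lc c) ↔ (s : G) ∈ (T : Subgroup G)) := fun hs =>
    hC.phi_mem_core_iff hD hc hS hT hne hs
  have hliftD : ∀ δ ∈ Cfsg.pCore 2 (Lc c), ∃ t : Hc c, (t : G) ∈ D ∧ phi c t = δ := by
    intro δ hδ
    obtain ⟨t, ht, rfl⟩ := (hC.mem_img_iff hD hS).1 (HallGen.pCore_le_sylow (hC.img hS hD) hδ)
    exact ⟨t, ⟨ht, (hcore ht).1 hδ⟩, rfl⟩
  have hmapD : ∀ {t : Hc c}, (t : G) ∈ D → phi c t ∈ Cfsg.pCore 2 (Lc c) := fun ht => (hcore ht.1).2 ht.2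
  have hinj : ∀ {s t : Hc c}, (s : G) ∈ (S : Subgroup G) → (t : G) ∈ (S : Subgroup G) → phi c s = phi c t →
      s = t := fun hs ht h => hC.phi_inj hD hs ht h
  let J : Subgroup G := (J₀.comap (phi c)).map (Hc c).subtype ⊓ (S : Subgroup G)
  have hJmem : ∀ {j : G}, j ∈ J ↔ ∃ h : j ∈ Hc c, j ∈ (S : Subgroup G) ∧ phi c ⟨j, h⟩ ∈ J₀ := by
    intro j
    constructor
    · rintro ⟨⟨j', hj', rfl⟩, hjS⟩; exact ⟨j'.2, hjS, hj'⟩
    · rintro ⟨h, hjS, hj⟩; exact ⟨⟨⟨j, h⟩, hj, rfl⟩, hjS⟩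
  have hJlift : ∀ j₀ ∈ J₀, ∃ (j : G) (h : j ∈ Hc c), j ∈ J ∧ phi c ⟨j, h⟩ = j₀ := by
    intro j₀ hj₀
    obtain ⟨t, ht, rfl⟩ := (hC.mem_img_iff hD hS).1 (hL.le hj₀)
    exact ⟨t, t.2, hJmem.2 ⟨t.2, ht, hj₀⟩, rfl⟩
  have hJcard : Nat.card J = Nat.card J₀ := by
    refine Nat.card_congr (Equiv.ofBijective
      (fun j => ⟨phi c ⟨j, (hJmem.1 j.2).1⟩, (hJmem.1 j.2).2.2⟩) ⟨fun a b h => ?_, fun j₀ => ?_⟩)
    · exact Subtype.ext (congrArg Subtype.val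
        (hinj (hJmem.1 a.2).2.1 (hJmem.1 b.2).2.1 (congrArg Subtype.val h)) :)
    · obtain ⟨j, h, hj, he⟩ := hJlift j₀ j₀.2
      exact ⟨⟨j, hj⟩, Subtype.ext he⟩
  -- the torus
  obtain ⟨g₁, hg₁S, hg₁⟩ := hC.exists_lift hD hS hL.fix_S
  have hg₁T : (g₁ : G) • T = T := by
    have h' := hC.mem_Spt_conj g₁.2 hT
    refine (hC.img_injective hD hT h' ?_).symm
    rw [hC.img_smul hD hT h', hg₁, hL.fix_T]
  obtain ⟨k, m, hm, hkm⟩ : ∃ k m, ¬ 2 ∣ m ∧ orderOf g₁ = 2 ^ k * m :=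
    Nat.exists_eq_pow_mul_and_not_dvd (orderOf_pos g₁).ne' 2 (by norm_num)
  have hmo : Odd m := Nat.not_even_iff_odd.1 fun h => hm (even_iff_two_dvd.1 h)
  obtain ⟨e, hke, he⟩ := exists_exponent (k := k) hmo
  have hgd : orderOf g₀ ∣ m := by
    refine Nat.Coprime.dvd_of_dvd_mul_left ((Nat.coprime_two_left.2 hL.odd).pow_left k).symm ?_
    rw [← hkm, ← hg₁]
    exact orderOf_map_dvd _ _
  set g : Hc c := g₁ ^ e with hg
  have hgphi : phi c g = g₀ := by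
    rw [hg, map_pow, hg₁]
    exact (pow_eq_pow_iff_modEq.2 (he _ hgd)).trans (pow_one g₀)
  have hgo : orderOf g ∣ m := by
    refine orderOf_dvd_of_pow_eq_one ?_
    obtain ⟨e', rfl⟩ := hke
    rw [hg, ← pow_mul, show 2 ^ k * e' * m = orderOf g₁ * e' by rw [hkm]; ring, pow_mul, pow_orderOf_eq_one,
      one_pow]
  have hpowS : ∀ i : ℕ, ((g ^ i : Hc c) : G) • S = S := fun i => by
    rw [hg, ← pow_mul, SubmonoidClass.coe_pow, Sylow.smul_eq_iff_mem_normalizer]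
    exact pow_mem (Sylow.smul_eq_iff_mem_normalizer.1 hg₁S) _
  have hpowT : ∀ i : ℕ, ((g ^ i : Hc c) : G) • T = T := fun i => by
    rw [hg, ← pow_mul, SubmonoidClass.coe_pow, Sylow.smul_eq_iff_mem_normalizer]
    exact pow_mem (Sylow.smul_eq_iff_mem_normalizer.1 hg₁T) _
  have hconjS : ∀ (i : ℕ) {s : G}, s ∈ (S : Subgroup G) → (g : G) ^ i * s * ((g : G) ^ i)⁻¹ ∈ (S : Subgroup G) :=
    fun i s hs => by
      have := conj_mem_smul (g := ((g ^ i : Hc c) : G)) hs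
      rwa [hpowS, SubmonoidClass.coe_pow] at this
  have hconjT : ∀ (i : ℕ) {s : G}, s ∈ (T : Subgroup G) → (g : G) ^ i * s * ((g : G) ^ i)⁻¹ ∈ (T : Subgroup G) :=
    fun i s hs => by
      have := conj_mem_smul (g := ((g ^ i : Hc c) : G)) hs
      rwa [hpowT, SubmonoidClass.coe_pow] at this
  -- centralising `J` in the quotient suffices
  have hlower : ∀ i : ℕ, (∀ j ∈ J₀, g₀ ^ i * j = j * g₀ ^ i) →
      ∀ j ∈ J, (g : G) ^ i * j = j * (g : G) ^ i := by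
    intro i hi j hj
    obtain ⟨hjH, hjS, hj0⟩ := hJmem.1 hj
    have := hinj (s := g ^ i * ⟨j, hjH⟩ * (g ^ i)⁻¹) (t := ⟨j, hjH⟩) (by simpa using hconjS i hjS) hjS (by
      rw [map_mul, map_mul, map_inv, map_pow, hgphi, hi _ hj0, mul_inv_cancel_right])
    have h2 := congrArg Subtype.val this
    simp only [Subgroup.coe_mul, InvMemClass.coe_inv, SubmonoidClass.coe_pow] at h2
    exact mul_inv_eq_iff_eq_mul.1 h2
  refine ⟨q, (g : G), J, hq, ?_⟩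
  exact {
    le := fun j hj => by
      obtain ⟨h, hjS, -⟩ := hJmem.1 hj
      exact hC.mem_Rk hD hne hk hjS h
    z_mem := fun j hj hjD => by
      obtain ⟨h, hjS, hj0⟩ := hJmem.1 hj
      rcases hL.z_mem _ hj0 (hmapD (t := ⟨j, h⟩) hjD) with e | e
      · exact Or.inl (congrArg Subtype.val (hinj (s := ⟨j, h⟩) (t := 1) hjS (one_mem _) (e.trans (map_one _).symm)))
      · exact Or.inr (congrArg Subtype.val (hinj (s := ⟨j, h⟩) hjS (HallGen.pCore_le_sylow S hz) e))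
    cent := fun j hj d hd => by
      obtain ⟨h, hjS, hj0⟩ := hJmem.1 hj
      exact congrArg Subtype.val (hinj (s := ⟨j, h⟩ * ⟨d, hDH hd⟩) (t := ⟨d, hDH hd⟩ * ⟨j, h⟩)
        (mul_mem hjS hd.1) (mul_mem hd.1 hjS) (by
          rw [map_mul, map_mul]; exact hL.cent _ hj0 _ (hmapD (t := ⟨d, hDH hd⟩) hd)))
    inner := fun s hs => by
      obtain ⟨δ, hδ, hcom⟩ := hL.inner _ (hC.phi_mem_img hD hS (s := ⟨s, hRH hs⟩) hs.1)
      obtain ⟨t, ht, rfl⟩ := hliftD δ hδ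
      refine ⟨t, ht, fun f hf => ?_⟩
      exact congrArg Subtype.val (hinj (s := t⁻¹ * ⟨s, hRH hs⟩ * ⟨f, hDH hf⟩)
        (t := ⟨f, hDH hf⟩ * (t⁻¹ * ⟨s, hRH hs⟩))
        (mul_mem (mul_mem (inv_mem ht.1) hs.1) hf.1) (mul_mem hf.1 (mul_mem (inv_mem ht.1) hs.1)) (by
          simp only [map_mul, map_inv]
          exact hcom _ (hmapD (t := ⟨f, hDH hf⟩) hf)))
    sq_iff := fun s hs => by
      set s' : Hc c := ⟨s, hRH hs⟩ with hs'
      constructor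
      · intro h
        have h' : ((s' * s' : Hc c) : G) ∈ D := h
        obtain ⟨j₀, hj₀, δ, hδ, e⟩ := (hL.sq_iff _ (hC.phi_mem_img hD hS (s := s') hs.1)).1 (by
          rw [← map_mul]; exact hmapD h')
        obtain ⟨j, hjH, hj, rfl⟩ := hJlift j₀ hj₀
        obtain ⟨t, ht, rfl⟩ := hliftD δ hδ
        refine ⟨j, hj, t, ht, congrArg Subtype.val (hinj (s := s') (t := ⟨j, hjH⟩ * t) hs.1
          (mul_mem (hJmem.1 hj).2.1 ht.1) (by rw [map_mul]; exact e))⟩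
      · rintro ⟨j, hj, t, ht, he'⟩
        obtain ⟨hjH, hjS, hj0⟩ := hJmem.1 hj
        have h := (hL.sq_iff _ (hC.phi_mem_img hD hS (s := s') hs.1)).2
          ⟨_, hj0, _, hmapD (t := ⟨t, hDH ht⟩) ht, by rw [← map_mul]; exact congrArg _ (Subtype.ext he')⟩
        rw [← map_mul] at h
        exact ⟨mul_mem hs.1 hs.1, (hcore (s := s' * s') (mul_mem hs.1 hs.1)).1 h⟩
    kind := by
      rcases hL.kind with ⟨hsq, hcard, hinf⟩ | ⟨hq4, hcard, hsq⟩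
      · refine Or.inl ⟨fun j hj => ?_, hJcard.trans hcard, (eq_bot_iff_forall _).2 fun j hj => ?_⟩
        · obtain ⟨h, hjS, hj0⟩ := hJmem.1 hj
          exact congrArg Subtype.val (hinj (s := ⟨j, h⟩ * ⟨j, h⟩) (t := 1) (mul_mem hjS hjS) (one_mem _)
            (by rw [map_mul, map_one]; exact hsq _ hj0))
        · obtain ⟨h, hjS, hj0⟩ := hJmem.1 hj.1
          exact congrArg Subtype.val (hinj (s := ⟨j, h⟩) (t := 1) hjS (one_mem _) (by
            rw [map_one, ← mem_bot, ← hinf]; exact ⟨hj0, hmapD (t := ⟨j, h⟩) hj.2⟩))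
      · refine Or.inr ⟨hq4, hJcard.trans hcard, fun j hj hj1 hjz => ?_⟩
        obtain ⟨h, hjS, hj0⟩ := hJmem.1 hj
        refine congrArg Subtype.val (hinj (s := ⟨j, h⟩ * ⟨j, h⟩) (t := ⟨z, pCore_le_Hc c hz⟩) (mul_mem hjS hjS)
          (HallGen.pCore_le_sylow S hz) (by
            rw [map_mul]
            exact hsq _ hj0
              (fun e => hj1 (congrArg Subtype.val (hinj (s := ⟨j, h⟩) (t := 1) hjS (one_mem _)
                (e.trans (map_one _).symm))))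
              (fun e => hjz (congrArg Subtype.val
                (hinj (s := ⟨j, h⟩) hjS (HallGen.pCore_le_sylow S hz) e)))))
    comm := fun s hs t ht => by
      obtain ⟨j₀, hj₀, δ, hδ, e⟩ := hL.comm _ (hC.phi_mem_img hD hS (s := ⟨s, hRH hs⟩) hs.1) _
        (hC.phi_mem_img hD hS (s := ⟨t, hRH ht⟩) ht.1)
      obtain ⟨j, hjH, hj, rfl⟩ := hJlift j₀ hj₀
      obtain ⟨d, hd, rfl⟩ := hliftD δ hδ
      refine ⟨j, hj, d, hd, congrArg Subtype.val (hinj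
        (s := ⟨s, hRH hs⟩ * ⟨t, hRH ht⟩ * ⟨s, hRH hs⟩⁻¹ * ⟨t, hRH ht⟩⁻¹) (t := ⟨j, hjH⟩ * d)
        (mul_mem (mul_mem (mul_mem hs.1 ht.1) (inv_mem hs.1)) (inv_mem ht.1))
        (mul_mem (hJmem.1 hj).2.1 hd.1) (by simp only [map_mul, map_inv]; exact e))⟩
    abel := fun hab => by
      have hR : Nat.card ↥(Rk S T) = Nat.card (hC.img hS hD : Subgroup (Lc c)) := by
        refine Nat.card_congr (Equiv.ofBijective
          (fun s => ⟨phi c ⟨s, hRH s.2⟩, hC.phi_mem_img hD hS (s := ⟨s, hRH s.2⟩) s.2.1⟩) ⟨fun a b h => ?_, fun y => ?_⟩)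
        · exact Subtype.ext (congrArg Subtype.val (hinj (s := ⟨a, hRH a.2⟩) (t := ⟨b, hRH b.2⟩) a.2.1 b.2.1
            (congrArg Subtype.val h)) :)
        · obtain ⟨t, ht, he'⟩ := (hC.mem_img_iff hD hS).1 y.2
          exact ⟨⟨t, hC.mem_Rk hD hne hk ht t.2⟩, Subtype.ext he'⟩
      have hDc : Nat.card D = Nat.card ↥(Cfsg.pCore 2 (Lc c)) := by
        refine Nat.card_congr (Equiv.ofBijective
          (fun d => ⟨phi c ⟨d, hDH d.2⟩, hmapD (t := ⟨d, hDH d.2⟩) d.2⟩) ⟨fun a b h => ?_, fun y => ?_⟩)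
        · exact Subtype.ext (congrArg Subtype.val (hinj (s := ⟨a, hDH a.2⟩) (t := ⟨b, hDH b.2⟩) a.2.1 b.2.1
            (congrArg Subtype.val h)) :)
        · obtain ⟨t, ht, he'⟩ := hliftD y y.2
          exact ⟨⟨t, ht⟩, Subtype.ext he'⟩
      rw [hR, hDc]
      refine hL.abel fun a ha b hb => ?_
      obtain ⟨s, hs, rfl⟩ := (hC.mem_img_iff hD hS).1 ha
      obtain ⟨t, ht, rfl⟩ := (hC.mem_img_iff hD hS).1 hb
      rw [← map_inv, ← map_inv, ← map_mul, ← map_mul, ← map_mul]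
      exact hmapD (hab s (hC.mem_Rk hD hne hk hs s.2) t (hC.mem_Rk hD hne hk ht t.2))
    trans := fun U hDU hUS => by
      have hU : c ∈ Spt U := by
        obtain ⟨r, rfl⟩ := pr_surjective c
        exact mem_Spt.2 (hDU ⟨mem_Spt.1 hS, mem_Spt.1 hT⟩)
      obtain ⟨y, hy, hyU⟩ := hL.trans (hC.img hU hD) fun e => hUS (hC.img_injective hD hS hU e).symm
      obtain ⟨s, hs, rfl⟩ := (hC.mem_img_iff hD hS).1 hy
      refine ⟨s, hC.mem_Rk hD hne hk hs s.2, ?_⟩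
      have h' := hC.mem_Spt_conj s.2 hT
      exact (hC.img_injective hD hU h' ((hC.img_smul hD hT h').trans hyU)).symm
    odd := by
      rw [Subgroup.orderOf_coe]
      exact hmo.of_dvd_nat hgo
    fix_S := by simpa using hpowS 1
    fix_T := by simpa using hpowT 1
    g_cent := fun d hd => by
      have hd' : (g : G) ^ 1 * d * ((g : G) ^ 1)⁻¹ ∈ (S : Subgroup G) := hconjS 1 hd.1
      rw [pow_one] at hd'
      have h := hinj (s := g * ⟨d, hDH hd⟩ * g⁻¹) (t := ⟨d, hDH hd⟩) hd' hd.1 (by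
        rw [map_mul, map_mul, map_inv, hgphi, hL.g_cent _ (hmapD (t := ⟨d, hDH hd⟩) hd), mul_inv_cancel_right])
      exact mul_inv_eq_iff_eq_mul.1 (congrArg Subtype.val h)
    g_J := fun j hj => by
      obtain ⟨h, hjS, hj0⟩ := hJmem.1 hj
      refine hJmem.2 ⟨(g * ⟨j, h⟩ * g⁻¹).2, by simpa using hconjS 1 hjS, ?_⟩
      show phi c (g * ⟨j, h⟩ * g⁻¹) ∈ J₀
      rw [map_mul, map_mul, map_inv, hgphi]
      exact hL.g_J _ hj0
    g_trans := fun j hj j' hj' hjD hj'D => by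
      obtain ⟨h, hjS, hj0⟩ := hJmem.1 hj
      obtain ⟨h', hj'S, hj'0⟩ := hJmem.1 hj'
      obtain ⟨i, hi⟩ := hL.g_trans _ hj0 _ hj'0 (fun hh => hjD ⟨hjS, (hcore (s := ⟨j, h⟩) hjS).1 hh⟩)
        (fun hh => hj'D ⟨hj'S, (hcore (s := ⟨j', h'⟩) hj'S).1 hh⟩)
      have hmemS : ((g : G) ^ i * j * ((g : G) ^ i)⁻¹)⁻¹ * j' ∈ (S : Subgroup G) :=
        mul_mem (inv_mem (hconjS i hjS)) hj'S
      refine ⟨i, hmemS, ?_⟩
      have := (hcore (s := (g ^ i * ⟨j, h⟩ * (g ^ i)⁻¹)⁻¹ * ⟨j', h'⟩) (by simpa using hmemS)).1 (by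
        simp only [map_mul, map_inv, map_pow, hgphi]; exact hi)
      simp only [Subgroup.coe_mul, InvMemClass.coe_inv, SubmonoidClass.coe_pow] at this
      exact this
    g_fix := fun i s hs hsn hss hsD hconj j hj => by
      have hcase : ∀ {A : Sylow 2 G}, c ∈ Spt A → s ∈ (A : Subgroup G) → s ∈ Hc c → (A = S ∨ A = T) →
          ∀ j ∈ J₀, g₀ ^ i * j = j * g₀ ^ i := by
        intro A hA hsA hsH hAST
        refine hL.g_fix i (phi c ⟨s, hsH⟩) ?_ ?_ ?_ ?_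
        · rcases hAST with rfl | rfl
          · exact Or.inl (hC.phi_mem_img hD hA (s := ⟨s, hsH⟩) hsA)
          · exact Or.inr (hC.phi_mem_img hD hA (s := ⟨s, hsH⟩) hsA)
        · rw [← map_mul]; exact hmapD (t := ⟨s, hsH⟩ * ⟨s, hsH⟩) hss
        · intro hh
          refine hsD ?_
          rcases hAST with rfl | rfl
          · exact ⟨hsA, (hcore (s := ⟨s, hsH⟩) hsA).1 hh⟩
          · exact ⟨(hC.phi_mem_core_iff hD hc hA hS hTS (s := ⟨s, hsH⟩) hsA).1 hh, hsA⟩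
        · rw [← hgphi, ← map_pow, ← map_inv, ← map_mul, ← map_mul, ← map_inv, ← map_mul]
          refine hmapD (t := (g ^ i * ⟨s, hsH⟩ * (g ^ i)⁻¹)⁻¹ * ⟨s, hsH⟩) ?_
          simp only [Subgroup.coe_mul, InvMemClass.coe_inv, SubmonoidClass.coe_pow]
          exact hconj
      rcases hs with hs | hs
      · exact hlower i (hcase hS hs (hRH ⟨hs, hsn⟩) (Or.inl rfl)) j hj
      · have hsH : s ∈ Hc c := hC.Rk_le_Hc hD hTS hk.symm ⟨hs, by rwa [inf_comm]⟩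
        exact hlower i (hcase hT hs hsH (Or.inr rfl)) j hj
    g_third := fun i U hDU hUS hUT hfix j hj => by
      have hU : c ∈ Spt U := by
        obtain ⟨r, rfl⟩ := pr_surjective c
        exact mem_Spt.2 (hDU ⟨mem_Spt.1 hS, mem_Spt.1 hT⟩)
      refine hlower i (hL.g_third i (hC.img hU hD) (fun e => hUS (hC.img_injective hD hS hU e).symm)
        (fun e => hUT (hC.img_injective hD hT hU e).symm) ?_) j hj
      have h' := hC.mem_Spt_conj (g ^ i).2 hU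
      rw [← hgphi, ← map_pow, ← hC.img_smul hD hU h']
      have e : ((g ^ i : Hc c) : G) • U = U := by rw [SubmonoidClass.coe_pow]; exact hfix
      refine Sylow.ext (Subgroup.ext fun y => ?_)
      rw [hC.mem_img_iff hD h', hC.mem_img_iff hD hU, e] }

end Central

/-- The lines in the central case. -/
theorem lined {G : Type u} [Group G] [Finite G] (hC : Central G) : Lined G := by
  have key : ∀ {S T : Sylow 2 G}, (S : Subgroup G) ⊓ (T : Subgroup G) ≠ Cfsg.pCore 2 G → Spt S ⊓ Spt T ≠ ⊥ := by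
    intro S T h e
    refine h (le_antisymm (fun d hd => ?_) (le_inf (HallGen.pCore_le_sylow S) (HallGen.pCore_le_sylow T)))
    exact pr_eq_one_iff.1 (mem_bot.1 (e ▸ ⟨mem_Spt.2 hd.1, mem_Spt.2 hd.2⟩))
  refine ⟨fun S T U hne x hxS hxT hxU hx => ?_, fun z hz hz2 S T hTS h => ?_⟩
  · exact hC.meet ⟨S, T, hne, fun e => hx (pr_eq_one_iff.1 (mem_bot.1 (e ▸ ⟨mem_Spt.2 hxS, mem_Spt.2 hxT⟩)))⟩
      hne hxS hxT hxU hx
  · exact hC.exists_lineData ⟨S, T, hTS.symm, key h⟩ hz hz2 hTS (key h)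

end CfsgLib.RankOneInter
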