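import Cfsg.Agent.Lib.Invol.RankOneInter.Central.Beta
import Cfsg.Agent.Lib.Invol.RankOneInter.Central.Line
import Cfsg.Agent.Lib.Invol.RankOneInter.Central.Grid

/-!
Owner: helper5. The central case, given that a line with an element of the second kind gives the grid data.

* `AlphaCase`: that input.
* `centralCase_of_alpha`: the central case.
-/

set_option autoImplicit false

namespace CfsgLib.RankOneInter

open Subgroup

universe u

/-- A line with an element of the second kind gives the grid data. -/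
def AlphaCase : Prop :=
  ∀ (G : Type u) [Group G] [Finite G], Central G → Lined G → ∀ z ∈ Cfsg.pCore 2 G, orderOf z = 2 →
    ∀ (q : ℕ) (S T : Sylow 2 G) (g : G) (J : Subgroup G), T ≠ S →
      (S : Subgroup G) ⊓ (T : Subgroup G) ≠ Cfsg.pCore 2 G → LineData z q S T g J →
      (∃ j ∈ J, j ∉ (S : Subgroup G) ⊓ (T : Subgroup G) ∧ ¬ IsI (pr j)) → GridData G

theorem centralCase_of_alpha (hA : AlphaCase.{u}) : CentralCase.{u} := by
  intro G _ _ hC
  by_cases hTI : TIMod G
  · exact Or.inl hTI
  refine Or.inr (grid_of_data ?_)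
  obtain ⟨z, hz, hz2⟩ := hC.exists_z
  have hline : ∃ A B : Sylow 2 G, B ≠ A ∧ (A : Subgroup G) ⊓ (B : Subgroup G) ≠ Cfsg.pCore 2 G := by
    simp only [TIMod, not_forall] at hTI
    obtain ⟨A, B, hne, hnt⟩ := hTI
    exact ⟨A, B, Ne.symm hne, hnt⟩
  have hL := lined hC
  by_contra hno
  refine hC.beta_false hL hz hz2 (fun q S T g J hne hnt h j hj hjD => ?_) hline
  by_contra hI
  exact hno (hA G hC hL z hz hz2 q S T g J hne hnt h ⟨j, hj, hjD, hI⟩)

end CfsgLib.RankOneInter
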