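import Cfsg.Agent.Lib.Invol.RankOneInter.Central.Alpha
import Cfsg.Agent.Lib.Invol.RankOneInter.Central.Assemble

/-!
Owner: helper16. The input of the central case of Theorem B of S3310 holds.
-/

set_option autoImplicit false

namespace CfsgLib.RankOneInter

universe u

/-- A line with an element of the second kind gives the grid data. -/
theorem alphaCase : AlphaCase.{u} :=
  fun _ _ _ hC hL _ hz hz2 _ _ _ _ _ hne hnt hd hk => gridData_of_alpha hC hL hz hz2 hd hne hnt hk

end CfsgLib.RankOneInter
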