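import Cfsg.Agent.Lib.Invol.RankOneInter.Central.Defs
import Cfsg.Agent.Lib.Invol.RankOneInter.Pencil.Setting
import Cfsg.Agent.Lib.HallGen.Basic
import Cfsg.Agent.Lib.Invol.CyclicInter.Basic

/-!
Owner: helper5. The central case of Theorem B: the quotient by `O₂` and its involutions of the first kind.

* `Q G`, `pr`, `Spt S`: the quotient, the projection and the image of a Sylow subgroup.
* `IsI x`: `x` is the image of an involution outside `O₂`; such an element lies in one point only.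
* `X1 S`, `Ee S`: these elements in the centre of a point, and the subgroup they generate.
* `oddCore_Q`, `core_eq_one`: the quotient has no odd core and nothing lies in all points.
-/

set_option autoImplicit false
set_option linter.style.haveILetI false
set_option linter.unusedSectionVars false

namespace CfsgLib.RankOneInter

open Subgroup
open CfsgLib.Signalizer (involution_sq involution_inv orderOf_eq_two_of involution_ne_one orderOf_conj)

universe u

variable {G : Type u} [Group G]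

/-- The quotient by the 2-core. -/
abbrev Q (G : Type u) [Group G] := G ⧸ Cfsg.pCore 2 G

/-- The projection. -/
abbrev pr : G →* Q G := QuotientGroup.mk' (Cfsg.pCore 2 G)

/-- The image of a Sylow subgroup. -/
abbrev Spt (S : Sylow 2 G) : Subgroup (Q G) := (S : Subgroup G).map pr

/-- An image of an involution outside the core. -/
def IsI (x : Q G) : Prop := ∃ a : G, orderOf a = 2 ∧ pr a = x ∧ x ≠ 1

/-- The elements of the first kind in the centre of a point. -/
def X1 (S : Sylow 2 G) : Set (Q G) := {x | IsI x ∧ x ∈ Spt S ∧ ∀ s ∈ Spt S, s * x = x * s}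

/-- Their closure. -/
abbrev Ee (S : Sylow 2 G) : Subgroup (Q G) := closure (X1 S)

theorem pr_eq_one_iff {a : G} : pr a = 1 ↔ a ∈ Cfsg.pCore 2 G := QuotientGroup.eq_one_iff a

theorem pr_surjective : Function.Surjective (pr : G →* Q G) := QuotientGroup.mk'_surjective _

theorem pr_eq_iff {a b : G} : pr a = pr b ↔ a⁻¹ * b ∈ Cfsg.pCore 2 G := QuotientGroup.eq

variable [Finite G]

theorem mem_Spt {S : Sylow 2 G} {a : G} : pr a ∈ Spt S ↔ a ∈ (S : Subgroup G) := by
  refine ⟨?_, fun h => ⟨a, h, rfl⟩⟩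
  rintro ⟨b, hb, h⟩
  have h1 := HallGen.pCore_le_sylow S (pr_eq_iff.1 h)
  simpa using mul_mem hb h1

theorem pr_conj_mem_Spt {S : Sylow 2 G} {g : G} {x : Q G} (hx : x ∈ Spt S) :
    pr g * x * (pr g)⁻¹ ∈ Spt (g • S) := by
  obtain ⟨a, rfl⟩ := pr_surjective x
  rw [← map_inv, ← map_mul, ← map_mul, mem_Spt]
  exact conj_mem_smul (mem_Spt.1 hx)

theorem conj_mem_Spt_self {S : Sylow 2 G} {g : G} (hg : g • S = S) {x : Q G} (hx : x ∈ Spt S) :
    pr g * x * (pr g)⁻¹ ∈ Spt S := by
  have h := pr_conj_mem_Spt (g := g) hx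
  rwa [hg] at h

theorem core_eq_one {x : Q G} (h : ∀ S : Sylow 2 G, x ∈ Spt S) : x = 1 := by
  haveI := Fact.mk Nat.prime_two
  obtain ⟨a, rfl⟩ := pr_surjective x
  have S : Sylow 2 G := default
  refine pr_eq_one_iff.2 ((le_sSup ⟨(S : Subgroup G).normalCore_normal, S.isPGroup'.to_le (normalCore_le _)⟩ :
    (S : Subgroup G).normalCore ≤ Cfsg.pCore 2 G) fun g => ?_)
  have h1 := mem_smul_iff.1 (mem_Spt.1 (h (g⁻¹ • S)))
  rwa [inv_inv] at h1

theorem X1_mul_comm {S : Sylow 2 G} {x y : Q G} (hx : x ∈ X1 S) (hy : y ∈ X1 S) : x * y = y * x :=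
  hy.2.2 x hx.2.1

theorem IsI.sq {x : Q G} (hx : IsI x) : x * x = 1 := by
  obtain ⟨a, ha, rfl, -⟩ := hx
  rw [← map_mul, involution_sq ha, map_one]

theorem IsI.conj {x : Q G} (hx : IsI x) (g : Q G) : IsI (g * x * g⁻¹) := by
  obtain ⟨a, ha, rfl, h1⟩ := hx
  obtain ⟨b, rfl⟩ := pr_surjective g
  exact ⟨b * a * b⁻¹, (orderOf_conj b a).trans ha, by rw [map_mul, map_mul, map_inv],
    fun e => h1 (conj_eq_one_iff.1 e)⟩

theorem Ee_le {S : Sylow 2 G} : Ee S ≤ Spt S := (closure_le _).2 fun _ h => h.2.1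

theorem Ee_central {S : Sylow 2 G} {e : Q G} (he : e ∈ Ee S) : ∀ s ∈ Spt S, s * e = e * s := by
  intro s hs
  exact mem_centralizer_iff.1
    ((closure_le (centralizer (Spt S : Set (Q G)))).2 (fun x hx => mem_centralizer_iff.2 fun t ht => hx.2.2 t ht) he)
    s hs

theorem Ee_sq {S : Sylow 2 G} {e : Q G} (he : e ∈ Ee S) : e * e = 1 := by
  induction he using Subgroup.closure_induction with
  | mem x hx => exact hx.1.sq
  | one => exact one_mul _
  | mul x y hxm hym hx hy =>
    calc x * y * (x * y) = x * (y * x) * y := by group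
      _ = x * x * (y * y) := by rw [Ee_central hxm y (Ee_le hym)]; group
      _ = 1 := by rw [hx, hy, mul_one]
  | inv x _ hx => rw [← mul_inv_rev, hx, inv_one]

theorem Ee_elementary (S : Sylow 2 G) : Cfsg.IsElementaryAbelian 2 (Ee S) :=
  ⟨⟨⟨fun a b => Subtype.ext (Ee_central b.2 a (Ee_le a.2))⟩⟩, fun e he => by
    rw [pow_two]; exact Ee_sq he⟩

theorem X1_conj {S : Sylow 2 G} {g : G} (hg : g • S = S) {x : Q G} (hx : x ∈ X1 S) :
    pr g * x * (pr g)⁻¹ ∈ X1 S := by
  refine ⟨hx.1.conj _, conj_mem_Spt_self hg hx.2.1, fun s hs => ?_⟩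
  have hinv : g⁻¹ • S = S := inv_smul_eq_iff.2 hg.symm
  have h1 := hx.2.2 _ (conj_mem_Spt_self hinv hs)
  rw [map_inv, inv_inv] at h1
  calc s * (pr g * x * (pr g)⁻¹) = pr g * ((pr g)⁻¹ * s * pr g * x) * (pr g)⁻¹ := by group
    _ = pr g * (x * ((pr g)⁻¹ * s * pr g)) * (pr g)⁻¹ := by rw [h1]
    _ = _ := by group

theorem Ee_conj {S : Sylow 2 G} {g : G} (hg : g • S = S) {e : Q G} (he : e ∈ Ee S) :
    pr g * e * (pr g)⁻¹ ∈ Ee S := by
  have h : (Ee S).map (MulAut.conj (pr g)).toMonoidHom ≤ Ee S := by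
    rw [MonoidHom.map_closure, closure_le]
    rintro _ ⟨y, hy, rfl⟩
    exact subset_closure (X1_conj hg hy)
  exact h ⟨e, he, rfl⟩

namespace Central

variable (hC : Central G) {S T : Sylow 2 G} {z : G}
include hC

theorem exists_z : ∃ z ∈ Cfsg.pCore 2 G, orderOf z = 2 := by
  obtain ⟨z, -, hz, hz2, -⟩ := hC.rank
  exact ⟨z, hz, hz2⟩

theorem comm_core {p : G} (hp : p ∈ Cfsg.pCore 2 G) (g : G) : g * p = p * g :=
  mem_center_iff.1 (hC.center hp) g

theorem core_sq_one (hz : z ∈ Cfsg.pCore 2 G) (hz2 : orderOf z = 2) {p : G} (hp : p ∈ Cfsg.pCore 2 G)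
    (h : p * p = 1) : p = 1 ∨ p = z := by
  by_contra hno
  push Not at hno
  exact CyclicInter.not_isCyclic_of_two_involutions hp hz (orderOf_eq_two_of hno.1 h) hz2 hno.2 hC.cyclic

theorem single {x : Q G} (hx : IsI x) (hS : x ∈ Spt S) (hT : x ∈ Spt T) : S = T := by
  obtain ⟨a, ha, rfl, h1⟩ := hx
  obtain ⟨z, hz, hz2⟩ := hC.exists_z
  exact hC.small S T z a hz2 ha (fun e => h1 (pr_eq_one_iff.2 (e ▸ hz))) (hC.comm_core hz a).symm
    (HallGen.pCore_le_sylow S hz) (mem_Spt.1 hS) (HallGen.pCore_le_sylow T hz) (mem_Spt.1 hT)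

theorem smul_eq_of_conj_mem {x : Q G} (hx : IsI x) (hS : x ∈ Spt S) {g : G}
    (h : pr g * x * (pr g)⁻¹ ∈ Spt S) : g • S = S :=
  hC.single (hx.conj _) (pr_conj_mem_Spt hS) h

theorem smul_eq_of_commute {x : Q G} (hx : IsI x) (hS : x ∈ Spt S) {g : G} (h : pr g * x = x * pr g) :
    g • S = S :=
  hC.smul_eq_of_conj_mem hx hS (by rwa [h, mul_inv_cancel_right])

theorem isI_of_sq {a p : G} (hp : p ∈ Cfsg.pCore 2 G) (ha : pr a ≠ 1) (h : a * a = p * p) : IsI (pr a) := by
  refine ⟨a * p⁻¹, orderOf_eq_two_of (fun e => ha ?_) ?_, ?_, ha⟩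
  · rw [mul_inv_eq_one.1 e]; exact pr_eq_one_iff.2 hp
  · calc a * p⁻¹ * (a * p⁻¹) = a * (p⁻¹ * a) * p⁻¹ := by group
      _ = a * (a * p⁻¹) * p⁻¹ := by rw [hC.comm_core (inv_mem hp) a]
      _ = a * a * (p * p)⁻¹ := by group
      _ = 1 := by rw [h, mul_inv_cancel]
  · rw [map_mul, map_inv, pr_eq_one_iff.2 hp, inv_one, mul_one]

/-- Lifts of commuting elements of the first kind commute up to `z`. -/
theorem comm_cases (hz : z ∈ Cfsg.pCore 2 G) (hz2 : orderOf z = 2) {a b : G} (ha : orderOf a = 2)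
    (h : pr a * pr b = pr b * pr a) : b * a = a * b ∨ b * a = a * b * z := by
  have hp : (a * b)⁻¹ * (b * a) ∈ Cfsg.pCore 2 G := pr_eq_iff.1 (by rw [map_mul, map_mul, h])
  obtain ⟨p, hp, hba⟩ : ∃ p ∈ Cfsg.pCore 2 G, b * a = a * b * p := ⟨_, hp, by rw [mul_inv_cancel_left]⟩
  have hpp : p * p = 1 := by
    have h1 : b * (a * a) = b := by rw [involution_sq ha, mul_one]
    have h2 : b * (a * a) = a * a * b * (p * p) := by
      calc b * (a * a) = b * a * a := by group
        _ = a * b * (p * a) := by rw [hba]; group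
        _ = a * (b * a) * p := by rw [← hC.comm_core hp a]; group
        _ = a * a * b * (p * p) := by rw [hba]; group
    rw [h1, involution_sq ha, one_mul] at h2
    exact (mul_left_cancel ((mul_one b).trans h2)).symm
  rcases hC.core_sq_one hz hz2 hp hpp with rfl | rfl
  · exact Or.inl (hba.trans (mul_one _))
  · exact Or.inr hba

/-- The core has order two or `z` is a square in it. -/
theorem card_core_or (hz : z ∈ Cfsg.pCore 2 G) (hz2 : orderOf z = 2) :
    Nat.card ↥(Cfsg.pCore 2 G) = 2 ∨ ∃ p ∈ Cfsg.pCore 2 G, p * p = z := by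
  haveI := Fact.mk Nat.prime_two
  haveI := hC.cyclic
  obtain ⟨⟨p, hp⟩, hgen⟩ := IsCyclic.exists_generator (α := ↥(Cfsg.pCore 2 G))
  obtain ⟨k, hk⟩ := (HallGen.isPGroup_pCore (G := G) 2).exists_card_eq
  have hord : orderOf p = 2 ^ k := by
    rw [← hk, ← Subgroup.orderOf_mk p hp]
    exact orderOf_eq_card_of_forall_mem_zpowers hgen
  rcases k with _ | _ | j
  · exfalso
    have h1 := Subgroup.orderOf_dvd_natCard _ hz
    rw [hz2, hk] at h1
    norm_num at h1
  · exact Or.inl hk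
  · refine Or.inr ⟨p ^ 2 ^ j, pow_mem hp _, ?_⟩
    have h2 : orderOf (p ^ 2 ^ (j + 1)) = 2 := by
      rw [orderOf_pow, hord, Nat.gcd_eq_right (pow_dvd_pow 2 (by omega)), Nat.pow_div (by omega) two_pos]
      norm_num
    rcases hC.core_sq_one hz hz2 (pow_mem hp _) (involution_sq h2) with h | h
    · exact absurd h (involution_ne_one h2)
    · rw [← pow_add, show 2 ^ j + 2 ^ j = 2 ^ (j + 1) by ring, h]

/-- The quotient has no odd normal subgroup. -/
theorem oddCore_Q : Cfsg.oddCore (Q G) = ⊥ := by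
  set P := Cfsg.pCore 2 G with hP
  set M := (Cfsg.oddCore (Q G)).comap pr with hM
  have hPM : P ≤ M := fun p hp => show pr p ∈ Cfsg.oddCore (Q G) by
    rw [pr_eq_one_iff.2 hp]; exact one_mem _
  -- the elements of odd order
  obtain ⟨m, hm⟩ : ∃ m, Nat.card ↥(Cfsg.oddCore (Q G)) = m := ⟨_, rfl⟩
  have hmo : Odd m := hm ▸ CfsgLib.ZStar.odd_card_oddCore (Q G)
  obtain ⟨k, hk⟩ := (HallGen.isPGroup_pCore (G := G) 2).exists_card_eq
  have hcop : Nat.Coprime (Nat.card (P.subgroupOf M)) (P.subgroupOf M).index := by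
    rw [Nat.card_congr (subgroupOfEquivOfLe hPM).toEquiv, hk]
    have hidx : (P.subgroupOf M).index = m := by
      rw [← hm]
      have h1 := QuotientGroup.ker_mk' P
      have h2 : ((pr : G →* Q G).subgroupMap M).ker = P.subgroupOf M := by
        ext ⟨x, hx⟩
        rw [MonoidHom.mem_ker, mem_subgroupOf, Subtype.ext_iff]
        exact pr_eq_one_iff
      rw [← h2, Subgroup.index_ker, MonoidHom.range_eq_top.2 (MonoidHom.subgroupMap_surjective _ _),
        card_top, hM, map_comap_eq_self_of_surjective pr_surjective]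
    rw [hidx]
    exact (Nat.coprime_two_left.2 hmo).pow_left k
  obtain ⟨H, hH⟩ := exists_right_complement'_of_coprime hcop
  have hHodd : Odd (Nat.card H) := by
    have h := hH.card_mul
    have hidx := (P.subgroupOf M).card_mul_index
    rw [← hidx] at h
    have e := Nat.eq_of_mul_eq_mul_left Nat.card_pos h
    rw [e]
    refine (Nat.coprime_two_left (n := _)).1 ?_
    refine Nat.Coprime.coprime_dvd_left ?_ hcop
    have hz := hC.exists_z
    obtain ⟨z, hzP, hz2⟩ := hz
    have h1 := Subgroup.orderOf_dvd_natCard (P.subgroupOf M) (x := (⟨z, hPM hzP⟩ : M)) (mem_subgroupOf.2 hzP)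
    rwa [← Subgroup.orderOf_coe, hz2] at h1
  have hcent : ∀ p ∈ P.subgroupOf M, ∀ x : M, x * p = p * x := fun p hp x =>
    Subtype.ext (hC.comm_core (mem_subgroupOf.1 hp) x)
  have hHn : H.Normal := ⟨fun h hh y => by
    obtain ⟨⟨⟨p, hp⟩, ⟨h', hh'⟩⟩, rfl⟩ := hH.2 y
    show p * h' * h * (p * h')⁻¹ ∈ H
    rw [show p * h' * h * (p * h')⁻¹ = p * (h' * h * h'⁻¹) * p⁻¹ by group,
      ← hcent p hp, mul_inv_cancel_right]
    exact mul_mem (mul_mem hh' hh) (inv_mem hh')⟩
  haveI := hHn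
  have hchar : ∀ y : M, Odd (orderOf y) → y ∈ H := by
    intro y hy
    rw [← QuotientGroup.eq_one_iff, ← orderOf_eq_one_iff]
    have h1 : orderOf (y : M ⧸ H) ∣ orderOf y := orderOf_map_dvd (QuotientGroup.mk' H) y
    have h2 : orderOf (y : M ⧸ H) ∣ 2 ^ k := by
      refine dvd_trans (orderOf_dvd_natCard _) (dvd_of_eq ?_)
      rw [← hk, ← index_eq_card, hH.index_eq_card, Nat.card_congr (subgroupOfEquivOfLe hPM).toEquiv]
    exact Nat.eq_one_of_dvd_coprimes ((Nat.coprime_two_left.2 hy).pow_left k) h2 h1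
  have hMn : M.Normal := (inferInstance : (Cfsg.oddCore (Q G)).Normal).comap pr
  have hmapn : (H.map M.subtype).Normal := ⟨by
    rintro _ ⟨h, hh, rfl⟩ g
    refine ⟨⟨g * (h : G) * g⁻¹, hMn.conj_mem _ h.2 g⟩, hchar _ ?_, rfl⟩
    rw [← Subgroup.orderOf_coe, orderOf_conj, Subgroup.orderOf_coe]
    exact hHodd.of_dvd_nat (Subgroup.orderOf_dvd_natCard H hh)⟩
  have hHbot : H = ⊥ := by
    have h1 := CfsgLib.ZStar.le_oddCore hmapn (by rwa [card_map_of_injective M.subtype_injective])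
    rw [hC.odd, le_bot_iff, map_eq_bot_iff_of_injective _ M.subtype_injective] at h1
    exact h1
  refine (eq_bot_iff_forall _).2 fun x hx => ?_
  obtain ⟨a, rfl⟩ := pr_surjective x
  obtain ⟨⟨⟨p, hp⟩, ⟨h', hh'⟩⟩, e⟩ := hH.2 (⟨a, hx⟩ : M)
  obtain rfl : h' = 1 := by rw [← mem_bot, ← hHbot]; exact hh'
  refine pr_eq_one_iff.2 ?_
  rw [show a = (p : G) by simpa using (congrArg Subtype.val e).symm]
  exact mem_subgroupOf.1 hp

/-- An involution of the quotient in a point has a conjugate there other than itself. -/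
theorem not_isolated {u : Q G} (hu : u * u = 1) (hu1 : u ≠ 1) (hS : u ∈ Spt S) :
    ∃ g : G, pr g * u * (pr g)⁻¹ ∈ Spt S ∧ pr g * u * (pr g)⁻¹ ≠ u := by
  haveI := Fact.mk Nat.prime_two
  by_contra hno
  push Not at hno
  have huc : ∀ g : Q G, g * u = u * g := by
    intro g
    have h := CfsgLib.ZStar.mem_oddCore_of_sylow (S.mapSurjective pr_surjective) (orderOf_eq_two_of hu1 hu)
      ((Sylow.coe_mapSurjective pr_surjective S).ge hS) (fun x hx => by
        obtain ⟨b, rfl⟩ := pr_surjective x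
        exact hno b ((Sylow.coe_mapSurjective pr_surjective S).le hx)) g
    rw [hC.oddCore_Q, mem_bot, mul_inv_eq_one, mul_inv_eq_iff_eq_mul] at h
    exact h.symm
  refine hu1 (core_eq_one fun T => ?_)
  obtain ⟨g, rfl⟩ := MulAction.exists_smul_eq G S T
  have := pr_conj_mem_Spt (g := g) hS
  rwa [huc, mul_inv_cancel_right] at this

end Central

end CfsgLib.RankOneInter
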