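import Cfsg.Agent.Lib.Invol.RankOneInter.Central.Image
import Cfsg.Agent.Lib.Invol.RankOneInter.Pencil.Tail
import Cfsg.Agent.Lib.Invol.RankOneInter.TISingle

/-!
Owner: helper5. The central case without lines of the second kind is impossible: the quotient by the core carries
pencils, so a normal subgroup of index two meets no kernel, and the trivial intersection theorem kills the kernels.

* `un U`, `pt_smul`: the Sylow subgroups of the quotient and those of the group.
* `pencils`, `beta_false`.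
-/

set_option autoImplicit false
set_option linter.style.haveILetI false
set_option linter.unusedSectionVars false

namespace CfsgLib.RankOneInter

open Subgroup
open CfsgLib.Signalizer (involution_sq involution_inv orderOf_eq_two_of involution_ne_one orderOf_conj)

universe u

variable {G : Type u} [Group G] [Finite G]

/-- The point of a Sylow subgroup of the quotient. -/
noncomputable def un (U : Sylow 2 (Q G)) : Sylow 2 G :=
  haveI := Fact.mk Nat.prime_two
  (Sylow.mapSurjective_surjective (f := (pr : G →* Q G)) pr_surjective 2 U).choose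

theorem coe_un (U : Sylow 2 (Q G)) : (U : Subgroup (Q G)) = Spt (un U) := by
  haveI := Fact.mk Nat.prime_two
  have h := (Sylow.mapSurjective_surjective (f := (pr : G →* Q G)) pr_surjective 2 U).choose_spec
  conv_lhs => rw [← h]
  exact Sylow.coe_mapSurjective pr_surjective _

theorem eq_of_Spt {S T : Sylow 2 G} (h : Spt S = Spt T) : S = T :=
  Sylow.ext (Subgroup.ext fun _ => by rw [← mem_Spt, ← mem_Spt, h])

theorem mem_un {U : Sylow 2 (Q G)} {a : G} : pr a ∈ (U : Subgroup (Q G)) ↔ a ∈ (un U : Subgroup G) := by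
  rw [coe_un, mem_Spt]

theorem un_injective {U V : Sylow 2 (Q G)} (h : un U = un V) : U = V :=
  Sylow.ext (by rw [coe_un U, coe_un V, h])

theorem un_smul (a : G) (U : Sylow 2 (Q G)) : un (pr a • U) = a • un U := by
  refine eq_of_Spt ?_
  rw [← coe_un]
  ext x
  obtain ⟨b, rfl⟩ := pr_surjective x
  rw [mem_smul_iff, ← map_inv, ← map_mul, ← map_mul, mem_un, mem_Spt, mem_smul_iff]

theorem exists_un (S : Sylow 2 G) : ∃ U : Sylow 2 (Q G), un U = S := by
  haveI := Fact.mk Nat.prime_two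
  refine ⟨S.mapSurjective pr_surjective, eq_of_Spt ?_⟩
  rw [← coe_un]
  exact Sylow.coe_mapSurjective pr_surjective S

theorem mem_Ee_smul {S : Sylow 2 G} (a : G) {e : Q G} (he : e ∈ Ee S) : pr a * e * (pr a)⁻¹ ∈ Ee (a • S) := by
  have h : (Ee S).map (MulAut.conj (pr a)).toMonoidHom ≤ Ee (a • S) := by
    rw [MonoidHom.map_closure, closure_le]
    rintro _ ⟨x, hx, rfl⟩
    refine subset_closure ⟨hx.1.conj _, pr_conj_mem_Spt hx.2.1, fun s hs => ?_⟩
    have h0 := pr_conj_mem_Spt (g := a⁻¹) hs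
    rw [inv_smul_smul, map_inv, inv_inv] at h0
    have h1 := hx.2.2 _ h0
    show s * (pr a * x * (pr a)⁻¹) = pr a * x * (pr a)⁻¹ * s
    calc s * (pr a * x * (pr a)⁻¹) = pr a * ((pr a)⁻¹ * s * pr a * x) * (pr a)⁻¹ := by group
      _ = pr a * (x * ((pr a)⁻¹ * s * pr a)) * (pr a)⁻¹ := by rw [h1]
      _ = _ := by group
  exact h ⟨e, he, rfl⟩

theorem card_Ee_smul (S : Sylow 2 G) (a : G) : Nat.card (Ee (a • S)) = Nat.card (Ee S) := by
  have key : ∀ (A : Sylow 2 G) (b : G), Nat.card (Ee A) ≤ Nat.card (Ee (b • A)) := fun A b =>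
    Nat.card_le_card_of_injective (fun e => ⟨pr b * e * (pr b)⁻¹, mem_Ee_smul b e.2⟩) fun e e' h =>
      Subtype.ext (mul_left_cancel (mul_right_cancel (congrArg Subtype.val h)))
  refine le_antisymm ?_ (key S a)
  conv_rhs => rw [← inv_smul_smul a S]
  exact key (a • S) a⁻¹

theorem mem_R_iff {U V : Sylow 2 (Q G)} {a : G} :
    pr a ∈ R U ((U : Subgroup (Q G)) ⊓ (V : Subgroup (Q G))) ↔ a ∈ Rk (un U) (un V) := by
  have hD : ∀ d : G, pr d ∈ (U : Subgroup (Q G)) ⊓ (V : Subgroup (Q G)) ↔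
      d ∈ (un U : Subgroup G) ⊓ (un V : Subgroup G) := fun d => by rw [mem_inf, mem_inf, mem_un, mem_un]
  constructor
  · intro h
    refine ⟨mem_un.1 h.1, mem_normalizer_iff.2 fun d => ?_⟩
    rw [← hD, ← hD, map_mul, map_mul, map_inv]
    exact mem_normalizer_iff.1 h.2 (pr d)
  · intro h
    refine ⟨mem_un.2 h.1, mem_normalizer_iff.2 fun y => ?_⟩
    obtain ⟨d, rfl⟩ := pr_surjective y
    rw [← map_inv, ← map_mul, ← map_mul, hD, hD]
    exact mem_normalizer_iff.1 h.2 d

namespace Central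

variable (hC : Central G) {z g : G} {J : Subgroup G} {q : ℕ} {S T : Sylow 2 G}
include hC

theorem Ee_isI (hL : Lined G) {e : Q G} (he : e ∈ Ee S) (he1 : e ≠ 1) (hz : z ∈ Cfsg.pCore 2 G)
    (hz2 : orderOf z = 2) (hβ : Beta G z) (hne : T ≠ S)
    (hnt : (S : Subgroup G) ⊓ (T : Subgroup G) ≠ Cfsg.pCore 2 G) : IsI e := by
  obtain ⟨q, g, J, -, h⟩ := hL.data z hz hz2 S T hne hnt
  rw [hC.pr_J_eq hz hz2 hβ hne hnt h] at he
  obtain ⟨j, hj, rfl⟩ := he
  refine (hC.J_mem_X1 hz hz2 hβ hne hnt h hj fun hjD => he1 ?_).1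
  rcases h.z_mem j hj hjD with rfl | rfl
  · exact map_one _
  · exact pr_eq_one_iff.2 hz

theorem lineFacts (hL : Lined G) {U V : Sylow 2 (Q G)} (hz : z ∈ Cfsg.pCore 2 G) (hz2 : orderOf z = 2)
    (hβ : Beta G z) (hne : un V ≠ un U)
    (hnt : (un U : Subgroup G) ⊓ (un V : Subgroup G) ≠ Cfsg.pCore 2 G) (h : LineData z q (un U) (un V) g J) :
    LineFacts (fun W => Ee (un W)) q U V ((U : Subgroup (Q G)) ⊓ (V : Subgroup (Q G))) := by
  set D := (un U : Subgroup G) ⊓ (un V : Subgroup G) with hDdef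
  have hD : ∀ d : G, pr d ∈ (U : Subgroup (Q G)) ⊓ (V : Subgroup (Q G)) ↔ d ∈ D := fun d => by
    rw [mem_inf, mem_inf, mem_un, mem_un]
  have hJ : ∀ j ∈ J, pr j ∈ Ee (un U) := fun j hj => by
    rw [hC.pr_J_eq hz hz2 hβ hne hnt h]; exact ⟨j, hj, rfl⟩
  have hJ' : ∀ e ∈ Ee (un U), ∃ j ∈ J, pr j = e := fun e he => by
    rw [hC.pr_J_eq hz hz2 hβ hne hnt h] at he; exact he
  have hcoe : (U : Subgroup (Q G)) ⊓ (V : Subgroup (Q G)) = Spt (un U) ⊓ Spt (un V) := by rw [← coe_un, ← coe_un]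
  have hcardD : Nat.card D = Nat.card ↥((U : Subgroup (Q G)) ⊓ (V : Subgroup (Q G))) * Nat.card ↥(Cfsg.pCore 2 G) := by
    rw [hcoe, ← map_meet, card_map_pr (core_le_meet _ _)]
  exact {
    sq_mem := fun x hx hxx => by
      obtain ⟨a, rfl⟩ := pr_surjective x
      rw [← map_mul, hD] at hxx
      obtain ⟨j, hj, d, hd, rfl⟩ := (h.sq_iff a (mem_R_iff.1 hx)).1 hxx
      exact ⟨pr j, hJ j hj, pr d, (hD d).2 hd, map_mul _ _ _⟩
    cent := fun d hd hdc x hx => by
      obtain ⟨a, rfl⟩ := pr_surjective x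
      obtain ⟨b, rfl⟩ := pr_surjective d
      obtain ⟨t, ht, htc⟩ := h.inner a (mem_R_iff.1 hx)
      have h1 := congrArg pr (htc b ((hD b).1 hd))
      have h2 := hdc (pr t) ((hD t).2 ht)
      simp only [map_mul, map_inv] at h1
      calc pr a * pr b = pr t * ((pr t)⁻¹ * pr a * pr b) := by group
        _ = pr t * (pr b * ((pr t)⁻¹ * pr a)) := by rw [h1]
        _ = pr t * pr b * ((pr t)⁻¹ * pr a) := by group
        _ = pr b * pr t * ((pr t)⁻¹ * pr a) := by rw [h2]
        _ = _ := by group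
    trans := fun W hW hWU => by
      obtain ⟨x, hx, hxW⟩ := h.trans (un W) (fun d hd => mem_un.1 (hW ((hD d).2 hd)))
        fun e => hWU (un_injective e)
      exact ⟨pr x, mem_R_iff.2 hx, un_injective (by rw [un_smul, hxW])⟩
    gen := fun d hd e he hde => by
      rw [hcoe] at hd he ⊢
      exact hC.line_gen hne hz hz2 ⟨d, hd, e, he, hde⟩
    abel := fun hab => by
      rw [hcoe] at hab ⊢
      exact hC.line_abel hne hz hz2 hab
    comm := fun x hx y hy => by
      obtain ⟨a, rfl⟩ := pr_surjective x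
      obtain ⟨b, rfl⟩ := pr_surjective y
      obtain ⟨j, hj, d, hd, e⟩ := h.comm a (mem_R_iff.1 hx) b (mem_R_iff.1 hy)
      rw [← map_inv, ← map_inv, ← map_mul, ← map_mul, ← map_mul, e, map_mul]
      exact mul_mem (mem_sup_left (hJ j hj)) (mem_sup_right ((hD d).2 hd))
    big := fun hc => by
      have hR : R U ((U : Subgroup (Q G)) ⊓ (V : Subgroup (Q G))) = (Rk (un U) (un V)).map pr := by
        ext x
        constructor
        · intro hx
          obtain ⟨a, rfl⟩ := pr_surjective x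
          exact ⟨a, mem_R_iff.1 hx, rfl⟩
        · rintro ⟨a, ha, rfl⟩
          exact mem_R_iff.2 ha
      have h1 := h.abel fun s hs t ht => (hD _).1 (by
        rw [map_mul, map_mul, map_mul, map_inv, map_inv]; exact hc _ (mem_R_iff.2 hs) _ (mem_R_iff.2 ht))
      have hPR : Cfsg.pCore 2 G ≤ Rk (un U) (un V) :=
        le_inf (HallGen.pCore_le_sylow _) ((core_le_meet _ _).trans le_normalizer)
      have h2 := card_map_pr hPR
      rw [h1, hcardD, ← hR] at h2
      refine Nat.eq_of_mul_eq_mul_right Nat.card_pos (h2.trans ?_)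
      rw [mul_comm _ q, mul_assoc]
    torus := by
      refine ⟨pr g, h.odd.of_dvd_nat (orderOf_map_dvd _ _), un_injective (by rw [un_smul, h.fix_S]),
        un_injective (by rw [un_smul, h.fix_T]), fun d hd => ?_, fun e he e' he' he1 he'1 => ?_,
        fun i e he he1 hc e' he' => ?_, fun i W hW hWU hWV hfix e' he' => ?_⟩
      · obtain ⟨b, rfl⟩ := pr_surjective d
        rw [← map_mul, ← map_mul, h.g_cent b ((hD b).1 hd)]
      · obtain ⟨j, hj, rfl⟩ := hJ' e he
        obtain ⟨j', hj', rfl⟩ := hJ' e' he'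
        have hout : ∀ k ∈ J, pr k ≠ 1 → k ∉ D := fun k hk hk1 hkD =>
          hk1 (by rcases h.z_mem k hk hkD with rfl | rfl <;> [exact map_one _; exact pr_eq_one_iff.2 hz])
        obtain ⟨i, hi⟩ := h.g_trans j hj j' hj' (hout j hj he1) (hout j' hj' he'1)
        refine ⟨i, ?_⟩
        have hmem : ∀ n : ℕ, g ^ n * j * (g ^ n)⁻¹ ∈ J := by
          intro n
          induction n with
          | zero => simpa using hj
          | succ n ih =>
            have := h.g_J _ ih
            rwa [show g * (g ^ n * j * (g ^ n)⁻¹) * g⁻¹ = g ^ (n + 1) * j * (g ^ (n + 1))⁻¹ by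
              rw [pow_succ']; group] at this
        rw [← map_pow, ← map_inv, ← map_mul, ← map_mul, pr_eq_iff]
        rcases h.z_mem _ (mul_mem (inv_mem (hmem i)) hj') hi with e | e <;> rw [e]
        · exact one_mem _
        · exact hz
      · -- an element of the first kind at one of the two points
        obtain ⟨s, rfl⟩ := pr_surjective e
        have hP := core_le_meet (un U) (un V)
        have hgo : ∀ {A : Sylow 2 G}, D ≤ (A : Subgroup G) → pr s ∈ Ee A →
            s ∈ (A : Subgroup G) ∧ s ∈ normalizer (D : Set G) := by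
          intro A hDA hA
          refine ⟨mem_Spt.1 (Ee_le hA), Bender.mem_normalizer_of_map_conj_eq (eq_of_le_of_card_ge ?_
            (by rw [card_map_of_injective (MulAut.conj s).injective]))⟩
          rintro _ ⟨d, hd, rfl⟩
          show s * d * s⁻¹ ∈ D
          have h1 : d⁻¹ * (s * d * s⁻¹) ∈ Cfsg.pCore 2 G := pr_eq_iff.1 (by
            rw [map_mul, map_mul, map_inv, ← Ee_central hA _ (mem_Spt.2 (hDA hd)), mul_inv_cancel_right])
          simpa using mul_mem hd (hP h1)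
        have hUV : un U ≠ un V := Ne.symm hne
        obtain ⟨hs, hsn⟩ : (s ∈ (un U : Subgroup G) ∨ s ∈ (un V : Subgroup G)) ∧ s ∈ normalizer (D : Set G) :=
          he.elim (fun h' => ⟨Or.inl (hgo inf_le_left h').1, (hgo inf_le_left h').2⟩)
            fun h' => ⟨Or.inr (hgo inf_le_right h').1, (hgo inf_le_right h').2⟩
        have hsD : s ∉ D := fun hsD => by
          rcases he with h' | h'
          · exact hUV (hC.single (hC.Ee_isI hL h' he1 hz hz2 hβ hne hnt) (mem_Spt.2 hsD.1) (mem_Spt.2 hsD.2))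
          · exact hUV (hC.single (hC.Ee_isI hL h' he1 hz hz2 hβ hne.symm (inf_comm (un U : Subgroup G) _ ▸ hnt))
              (mem_Spt.2 hsD.1) (mem_Spt.2 hsD.2))
        have hss : s * s ∈ D := hP (pr_eq_one_iff.1 (by
          rw [map_mul]; exact he.elim Ee_sq Ee_sq))
        have hconj : (g ^ i * s * (g ^ i)⁻¹)⁻¹ * s ∈ D := hP (pr_eq_iff.1 (by
          rw [map_mul, map_mul, map_inv, map_pow]; exact mul_inv_eq_iff_eq_mul.2 hc))
        obtain ⟨j, hj, rfl⟩ := hJ' e' he'
        rw [← map_pow, ← map_mul, ← map_mul, h.g_fix i s hs hsn hss hsD hconj j hj]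
      · obtain ⟨j, hj, rfl⟩ := hJ' e' he'
        have hfix' : g ^ i • un W = un W := by
          rw [← un_smul, map_pow, hfix]
        rw [← map_pow, ← map_mul, ← map_mul, h.g_third i (un W) (fun d hd => mem_un.1 (hW ((hD d).2 hd)))
          (fun e => hWU (un_injective e)) (fun e => hWV (un_injective e)) hfix' j hj] }

theorem exists_line (hTI : ∃ A B : Sylow 2 G, B ≠ A ∧ (A : Subgroup G) ⊓ (B : Subgroup G) ≠ Cfsg.pCore 2 G)
    (S : Sylow 2 G) : ∃ T : Sylow 2 G, T ≠ S ∧ (S : Subgroup G) ⊓ (T : Subgroup G) ≠ Cfsg.pCore 2 G := by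
  haveI := Fact.mk Nat.prime_two
  obtain ⟨A, B, hne, hnt⟩ := hTI
  obtain ⟨a, rfl⟩ := MulAction.exists_smul_eq G A S
  refine ⟨a • B, fun e => hne (MulAction.injective a e), fun e => hnt (le_antisymm (fun d hd => ?_) (core_le_meet A B))⟩
  have h1 : a * d * a⁻¹ ∈ Cfsg.pCore 2 G := e ▸ ⟨conj_mem_smul hd.1, conj_mem_smul hd.2⟩
  have h2 := (HallGen.pCore_normal' (G := G) 2).conj_mem _ h1 a⁻¹
  rwa [show a⁻¹ * (a * d * a⁻¹) * a⁻¹⁻¹ = d by group] at h2

/-- The quotient carries pencils. -/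
theorem exists_pencils (hL : Lined G) (hz : z ∈ Cfsg.pCore 2 G) (hz2 : orderOf z = 2) (hβ : Beta G z)
    (hTI : ∃ A B : Sylow 2 G, B ≠ A ∧ (A : Subgroup G) ⊓ (B : Subgroup G) ≠ Cfsg.pCore 2 G) :
    ∃ P : Pencils (Q G), ∀ U, P.Z U = Ee (un U) := by
  haveI := Fact.mk Nat.prime_two
  obtain ⟨A, B, hne, hnt⟩ := id hTI
  obtain ⟨q, g, J, hq, h⟩ := hL.data z hz hz2 A B hne hnt
  have hcard : ∀ S : Sylow 2 G, Nat.card (Ee S) = q := fun S => by
    obtain ⟨a, rfl⟩ := MulAction.exists_smul_eq G A S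
    rw [card_Ee_smul, hC.card_Ee hz hz2 hβ hne hnt h]
  refine ⟨{
    q := q
    Z := fun U => Ee (un U)
    q_pow := hq
    card_Z := fun U => hcard _
    Z_le := fun U => coe_un U ▸ Ee_le
    Z_central := fun U e he s hs => Ee_central he s (coe_un U ▸ hs)
    Z_sq := fun U e he => Ee_sq he
    Z_unique := fun U V e he he1 heV => by
      obtain ⟨T, hTS, hST⟩ := hC.exists_line hTI (un U)
      exact un_injective (hC.single (hC.Ee_isI hL he he1 hz hz2 hβ hTS hST) (coe_un V ▸ heV) (Ee_le he))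
    Z_conj := fun k U e he => by
      obtain ⟨a, rfl⟩ := pr_surjective k
      rw [un_smul]
      exact mem_Ee_smul a he
    meet := fun U V W hUV x hxU hxV hxW hx1 y hy => by
      obtain ⟨a, rfl⟩ := pr_surjective x
      obtain ⟨b, rfl⟩ := pr_surjective y
      exact mem_un.2 (hL.meet (un U) (un V) (un W) (fun e => hUV (un_injective e)) a (mem_un.1 hxU) (mem_un.1 hxV)
        (mem_un.1 hxW) (fun ha => hx1 (pr_eq_one_iff.2 ha)) ⟨mem_un.1 hy.1, mem_un.1 hy.2⟩)
    core := fun x hx => core_eq_one fun S => by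
      obtain ⟨U, rfl⟩ := exists_un S
      exact coe_un U ▸ hx U
    line := fun U V hVU hUV => by
      have hne' : un V ≠ un U := fun e => hVU (un_injective e)
      have hnt' : (un U : Subgroup G) ⊓ (un V : Subgroup G) ≠ Cfsg.pCore 2 G := by
        intro e
        refine hUV ((eq_bot_iff_forall _).2 fun x hx => ?_)
        obtain ⟨a, rfl⟩ := pr_surjective x
        exact pr_eq_one_iff.2 (e ▸ ⟨mem_un.1 hx.1, mem_un.1 hx.2⟩)
      obtain ⟨q', g', J', -, h'⟩ := hL.data z hz hz2 (un U) (un V) hne' hnt'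
      obtain rfl : q' = q := (hC.card_Ee hz hz2 hβ hne' hnt' h').symm.trans (hcard _)
      exact hC.lineFacts hL hz hz2 hβ hne' hnt' h' }, fun U => rfl⟩

/-- Some line has an element of the second kind. -/
theorem beta_false (hL : Lined G) (hz : z ∈ Cfsg.pCore 2 G) (hz2 : orderOf z = 2) (hβ : Beta G z)
    (hTI : ∃ A B : Sylow 2 G, B ≠ A ∧ (A : Subgroup G) ⊓ (B : Subgroup G) ≠ Cfsg.pCore 2 G) : False := by
  obtain ⟨P, hP⟩ := hC.exists_pencils hL hz hz2 hβ hTI
  obtain ⟨A, B, hne, hnt⟩ := hTI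
  obtain ⟨U, rfl⟩ := exists_un A
  obtain ⟨V, rfl⟩ := exists_un B
  have hbot : (U : Subgroup (Q G)) ⊓ (V : Subgroup (Q G)) ≠ ⊥ := fun e =>
    hnt (le_antisymm (fun d hd => pr_eq_one_iff.1 (mem_bot.1 (e ▸ ⟨mem_un.2 hd.1, mem_un.2 hd.2⟩)))
      (core_le_meet _ _))
  have hD : IsLine U ((U : Subgroup (Q G)) ⊓ (V : Subgroup (Q G))) := ⟨hbot, V, fun e => hne (by rw [e]), rfl⟩
  obtain ⟨M, hMn, -, hMZ, hM⟩ := P.exists_normal hD
  haveI := hMn
  refine hbot (ti_of_single M ⟨U, ?_⟩ (fun x hx hx2 S T hS hT => ?_) P.core U V fun e => hne (by rw [e]))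
  · obtain ⟨a, ha, b, hb, ha1, hb1, hab⟩ := P.exists_two_Z U
    exact ⟨a, ⟨P.Z_le U ha, hMZ U ha⟩, b, ⟨P.Z_le U hb, hMZ U hb⟩, P.orderOf_Z ha ha1, P.orderOf_Z hb hb1, hab,
      P.Z_central U b hb a (P.Z_le U ha)⟩
  · by_contra hST
    exact involution_ne_one hx2 (hM S T hST x hx hS hT)

end Central

end CfsgLib.RankOneInter
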