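import Cfsg.Agent.Lib.Invol.RankOneInter.Central.Defs
import Cfsg.Agent.Lib.Invol.RankOneInter.TILine
import Cfsg.Agent.Lib.Invol.RankOneInter.Final.TI

/-!
Owner: helper29. S3310: the local data of a group whose Sylow 2-subgroups meet in the 2-core.

* `exists_moved`: above the involutions of the quotient, the part moved by the torus is elementary, or quaternion
  of order eight over four elements.
* `exists_localData`.
-/

set_option autoImplicit false
set_option linter.style.haveILetI false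
set_option linter.unusedSectionVars false

namespace CfsgLib.RankOneInter

open Subgroup
open scoped commutatorElement

universe u

section Moved

variable {H : Type u} [Group H] [Finite H] {K : Type u} [Group K]

/-- An odd element moving an element by an involution it centralises fixes it. -/
theorem fixed_of_small_move {g j e : H} (hg : Odd (orderOf g)) (hmove : g * j * g⁻¹ = j * e)
    (hge : g * e = e * g) (he : e * e = 1) : g * j = j * g := by
  have key : ∀ n : ℕ, g ^ n * j * (g ^ n)⁻¹ = j * e ^ n := by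
    intro n
    induction n with
    | zero => simp
    | succ n ih =>
      calc g ^ (n + 1) * j * (g ^ (n + 1))⁻¹ = g * (g ^ n * j * (g ^ n)⁻¹) * g⁻¹ := by rw [pow_succ']; group
        _ = g * j * (e ^ n * g⁻¹) := by rw [ih]; group
        _ = g * j * (g⁻¹ * e ^ n) := by rw [((show Commute g e from hge).symm.pow_left n).inv_right.eq]
        _ = j * e * e ^ n := by rw [← mul_assoc, hmove]
        _ = j * e ^ (n + 1) := by rw [pow_succ', mul_assoc]
  have h1 := key (orderOf g)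
  obtain ⟨m, hm⟩ := hg
  rw [pow_orderOf_eq_one, one_mul, inv_one, mul_one, hm, pow_succ, pow_mul, pow_two, he, one_pow, one_mul] at h1
  rw [← h1] at hmove
  exact mul_inv_eq_iff_eq_mul.1 hmove

/-- Above an elementary group on which `g` is transitive, central over the kernel, there is an invariant part
meeting the kernel in at most `⟨z⟩`. -/
theorem exists_moved (π : H →* K) (W : Subgroup H) (Om : Subgroup K) {g z : H} {q : ℕ} (hcard : Nat.card Om = q)
    (hq : 4 ≤ q) (hOm2 : ∀ x ∈ Om, x * x = 1) (hmap : ∀ x ∈ W, π x ∈ Om) (hlift : ∀ x ∈ Om, ∃ w ∈ W, π w = x)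
    (hgW : ∀ w ∈ W, g * w * g⁻¹ ∈ W) (hcen : ∀ e ∈ W, π e = 1 → g * e = e * g ∧ ∀ w ∈ W, w * e = e * w)
    (hzW : z ∈ W) (hz : π z = 1) (hz1 : z ≠ 1) (hz2 : z * z = 1)
    (huniq : ∀ e ∈ W, π e = 1 → e * e = 1 → e = 1 ∨ e = z)
    (htrans : ∀ x ∈ Om, ∀ y ∈ Om, x ≠ 1 → y ≠ 1 → ∃ i : ℕ, π g ^ i * x * (π g ^ i)⁻¹ = y) :
    ∃ J : Subgroup H, J ≤ W ∧ (∀ j ∈ J, g * j * g⁻¹ ∈ J) ∧ (∀ x ∈ Om, ∃ j ∈ J, π j = x) ∧
      (((∀ j ∈ J, j * j = 1) ∧ Nat.card J = q ∧ ∀ j ∈ J, π j = 1 → j = 1) ∨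
        (q = 4 ∧ Nat.card J = 8 ∧ (∀ j ∈ J, π j = 1 → j = 1 ∨ j = z) ∧
          ∀ j ∈ J, j ≠ 1 → j ≠ z → j * j = z)) := by
  classical
  haveI : Finite Om := Nat.finite_of_card_ne_zero (by omega)
  have hOmc : ∀ x ∈ Om, ∀ y ∈ Om, x * y = y * x := fun x hx y hy => by
    have hinv : ∀ u ∈ Om, u⁻¹ = u := fun u hu => inv_eq_of_mul_eq_one_right (hOm2 u hu)
    rw [← hinv _ (mul_mem hx hy), mul_inv_rev, hinv x hx, hinv y hy]
  have hcom : ∀ x ∈ W, ∀ y ∈ W, π ⁅x, y⁆ = 1 := fun x hx y hy => by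
    rw [commutatorElement_def]
    simp only [map_mul, map_inv]
    rw [hOmc _ (hmap x hx) _ (hmap y hy)]
    group
  have hcW : ∀ x ∈ W, ∀ y ∈ W, ⁅x, y⁆ ∈ W := fun x hx y hy => by
    rw [commutatorElement_def]; exact mul_mem (mul_mem (mul_mem hx hy) (inv_mem hx)) (inv_mem hy)
  have hsq : ∀ x ∈ W, π (x * x) = 1 := fun x hx => by rw [map_mul, hOm2 _ (hmap x hx)]
  -- the commutator is bilinear, with values one and `z`
  have hval : ∀ x ∈ W, ∀ y ∈ W, ⁅x, y⁆ = 1 ∨ ⁅x, y⁆ = z := fun x hx y hy => by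
    refine huniq _ (hcW x hx y hy) (hcom x hx y hy) ?_
    set e := ⁅x, y⁆ with he
    have h1 : x * y * x⁻¹ = e * y := by rw [he, commutatorElement_def]; group
    have h2 : x * e = e * x := (hcen e (hcW x hx y hy) (hcom x hx y hy)).2 x hx
    have h3 : y * (x * x) = x * x * y := (hcen _ (mul_mem hx hx) (hsq x hx)).2 y hy
    have h4 : x * x * y * (x * x)⁻¹ = e * (e * y) := by
      rw [show x * x * y * (x * x)⁻¹ = x * (x * y * x⁻¹) * x⁻¹ by group, h1, ← mul_assoc, h2,
        show e * x * y * x⁻¹ = e * (x * y * x⁻¹) by group, h1]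
    rw [← h3, mul_inv_cancel_right, ← mul_assoc] at h4
    exact mul_eq_right.1 h4.symm
  have hfl : ∀ x ∈ W, ∀ y ∈ W, ∀ w ∈ W, ⁅x * y, w⁆ = ⁅x, w⁆ * ⁅y, w⁆ := fun x hx y hy w hw => by
    have h1 : x * ⁅y, w⁆ = ⁅y, w⁆ * x := (hcen _ (hcW y hy w hw) (hcom y hy w hw)).2 x hx
    have h2 := (hcen _ (hcW y hy w hw) (hcom y hy w hw)).2 _ (hcW x hx w hw)
    rw [show ⁅x * y, w⁆ = x * ⁅y, w⁆ * x⁻¹ * ⁅x, w⁆ by simp only [commutatorElement_def]; group, h1,
      mul_inv_cancel_right, h2]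
  have hfr : ∀ x ∈ W, ∀ y ∈ W, ∀ w ∈ W, ⁅w, x * y⁆ = ⁅w, x⁆ * ⁅w, y⁆ := fun x hx y hy w hw => by
    have h2 := (hcen _ (hcW w hw y hy) (hcom w hw y hy)).2 x hx
    rw [show ⁅w, x * y⁆ = ⁅w, x⁆ * (x * ⁅w, y⁆ * x⁻¹) by simp only [commutatorElement_def]; group, h2,
      mul_inv_cancel_right]
  set μ : H →* H := (MulAut.conj g).toMonoidHom with hμ
  have hμa : ∀ x, μ x = g * x * g⁻¹ := fun _ => rfl
  have hμW : ∀ x ∈ W, μ x ∈ W := hgW
  have hμZ : ∀ e ∈ W, π e = 1 → μ e = e := fun e he h1 => by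
    rw [hμa, (hcen e he h1).1, mul_inv_cancel_right]
  have hμf : ∀ x ∈ W, ∀ y ∈ W, ⁅μ x, μ y⁆ = ⁅x, y⁆ := fun x hx y hy => by
    rw [← map_commutatorElement]
    exact hμZ _ (hcW x hx y hy) (hcom x hx y hy)
  have hπμ : ∀ (x : H), π (μ x) = π g * π x * (π g)⁻¹ := fun x => by rw [hμa, map_mul, map_mul, map_inv]
  -- no fixed point
  have hfpf : ∀ w ∈ W, π (μ w) = π w → π w = 1 := by
    intro w hw he
    by_contra h1
    have hall : ∀ i : ℕ, π g ^ i * π w * (π g ^ i)⁻¹ = π w := fun i => by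
      have hc : Commute (π g) (π w) := mul_inv_eq_iff_eq_mul.1 ((hπμ w).symm.trans he)
      rw [(hc.pow_left i).eq, mul_inv_cancel_right]
    have hle : Nat.card Om ≤ Nat.card Bool := Nat.card_le_card_of_surjective
      (fun b : Bool => if b then (1 : Om) else ⟨π w, hmap w hw⟩) fun x => by
        by_cases hx : x = 1
        · exact ⟨true, hx.symm⟩
        · obtain ⟨i, hi⟩ := htrans _ (hmap w hw) _ x.2 h1 fun e => hx (Subtype.ext e)
          exact ⟨false, Subtype.ext ((hall i).symm.trans hi)⟩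
    rw [Nat.card_eq_fintype_card (α := Bool), Fintype.card_bool] at hle
    omega
  -- the part moved
  have hrep : ∀ x ∈ Om, ∃ w ∈ W, π (μ w * w⁻¹) = x := by
    have hOg : ∀ x : Om, π g * (x : K) * (π g)⁻¹ * (x : K)⁻¹ ∈ Om := fun x => by
      obtain ⟨w, hw, he⟩ := hlift x.1 x.2
      rw [← he, ← hπμ, ← map_inv, ← map_mul]
      exact hmap _ (mul_mem (hμW w hw) (inv_mem hw))
    let c : Om → Om := fun x => ⟨_, hOg x⟩
    have hinj : Function.Injective c := fun x y e => by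
      have e' : π g * (x : K) * (π g)⁻¹ * (x : K)⁻¹ = π g * (y : K) * (π g)⁻¹ * (y : K)⁻¹ := congrArg Subtype.val e
      obtain ⟨w, hw, hwe⟩ := hlift ((x : K)⁻¹ * y) (mul_mem (inv_mem x.2) y.2)
      refine Subtype.ext (inv_mul_eq_one.1 (hwe ▸ hfpf w hw ?_))
      rw [hπμ, hwe]
      calc π g * ((x : K)⁻¹ * y) * (π g)⁻¹
          = (π g * (x : K) * (π g)⁻¹)⁻¹ * (π g * (y : K) * (π g)⁻¹) := by group
        _ = (x : K)⁻¹ * (π g * (x : K) * (π g)⁻¹ * (x : K)⁻¹)⁻¹ *
              ((π g * (y : K) * (π g)⁻¹ * (y : K)⁻¹) * y) := by group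
        _ = (x : K)⁻¹ * y := by rw [← e']; group
    intro x hx
    obtain ⟨y, hy⟩ := Finite.surjective_of_injective hinj ⟨x, hx⟩
    obtain ⟨w, hw, he⟩ := hlift y.1 y.2
    exact ⟨w, hw, by rw [map_mul, map_inv, hπμ, he]; exact congrArg Subtype.val hy⟩
  by_cases hab : ∀ x ∈ W, ∀ y ∈ W, x * y = y * x
  · let J : Subgroup H :=
      { carrier := {j | ∃ w ∈ W, j = μ w * w⁻¹}
        one_mem' := ⟨1, one_mem _, by simp⟩
        mul_mem' := by
          rintro _ _ ⟨u, hu, rfl⟩ ⟨v, hv, rfl⟩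
          refine ⟨u * v, mul_mem hu hv, ?_⟩
          rw [map_mul, mul_inv_rev, hab _ (inv_mem hv) _ (inv_mem hu), mul_assoc (μ u), ← mul_assoc u⁻¹,
            hab _ (inv_mem hu) _ (hμW v hv)]
          group
        inv_mem' := by
          rintro _ ⟨u, hu, rfl⟩
          refine ⟨u⁻¹, inv_mem hu, ?_⟩
          rw [map_inv, inv_inv, mul_inv_rev, inv_inv, hab _ hu _ (inv_mem (hμW u hu))] }
    have hker : ∀ j ∈ J, π j = 1 → j = 1 := by
      rintro _ ⟨w, hw, rfl⟩ he
      rw [map_mul, map_inv, mul_inv_eq_one] at he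
      rw [hμZ w hw (hfpf w hw he), mul_inv_cancel]
    refine ⟨J, ?_, ?_, fun x hx => ?_, Or.inl ⟨?_, ?_, hker⟩⟩
    · rintro _ ⟨w, hw, rfl⟩; exact mul_mem (hμW w hw) (inv_mem hw)
    · rintro _ ⟨w, hw, rfl⟩
      exact ⟨μ w, hμW w hw, by rw [← hμa, map_mul, map_inv]⟩
    · obtain ⟨w, hw, he⟩ := hrep x hx
      exact ⟨_, ⟨w, hw, rfl⟩, he⟩
    · rintro _ ⟨w, hw, rfl⟩
      rw [show μ w * w⁻¹ * (μ w * w⁻¹) = μ w * (w⁻¹ * μ w) * w⁻¹ by group, hab _ (inv_mem hw) _ (hμW w hw),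
        show μ w * (μ w * w⁻¹) * w⁻¹ = μ w * μ w * (w * w)⁻¹ by group, ← map_mul,
        hμZ _ (mul_mem hw hw) (hsq w hw), mul_inv_cancel]
    · rw [← hcard]
      refine Nat.card_eq_of_bijective (fun j : J => (⟨π j, hmap _ (by
        obtain ⟨w, hw, hj⟩ := j.2
        rw [hj]; exact mul_mem (hμW w hw) (inv_mem hw))⟩ : Om)) ⟨fun a b e => ?_, fun x => ?_⟩
      · have e' : π (a : H) = π (b : H) := congrArg Subtype.val e
        exact Subtype.ext (inv_mul_eq_one.1 (hker _ (mul_mem (inv_mem a.2) b.2)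
          (by rw [map_mul, map_inv, e', inv_mul_cancel])))
      · obtain ⟨w, hw, he⟩ := hrep x.1 x.2
        exact ⟨⟨_, w, hw, rfl⟩, Subtype.ext he⟩
  -- the form is nondegenerate
  have hnd : ∀ x ∈ W, (∀ y ∈ W, ⁅x, y⁆ = 1) → π x = 1 := by
    intro x hx hrad
    by_contra h1
    refine hab fun a ha b hb => commutatorElement_eq_one_iff_mul_comm.1 ?_
    by_cases ha1 : π a = 1
    · exact commutatorElement_eq_one_iff_mul_comm.2 ((hcen a ha ha1).2 b hb).symm
    obtain ⟨i, hi⟩ := htrans _ (hmap x hx) _ (hmap a ha) h1 ha1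
    have hiter : ∀ (i : ℕ) (y : H), y ∈ W → (μ^[i]) y ∈ W ∧ π ((μ^[i]) y) = π g ^ i * π y * (π g ^ i)⁻¹ := by
      intro i y hy
      induction i with
      | zero => simpa using hy
      | succ i ih =>
        rw [Function.iterate_succ_apply']
        refine ⟨hμW _ ih.1, ?_⟩
        rw [hπμ, ih.2, pow_succ']
        group
    have hrad' : ∀ i : ℕ, ∀ y ∈ W, ⁅(μ^[i]) x, y⁆ = 1 := by
      intro i
      induction i with
      | zero => exact hrad
      | succ i ih =>
        intro y hy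
        have hy' : g⁻¹ * y * g ∈ W := by
          have hs : Function.Surjective (fun w : W => (⟨μ w, hμW w w.2⟩ : W)) :=
            Finite.surjective_of_injective fun u v e =>
              Subtype.ext ((MulAut.conj g).injective (congrArg Subtype.val e))
          obtain ⟨v, hv⟩ := hs ⟨y, hy⟩
          have : g * (v : H) * g⁻¹ = y := congrArg Subtype.val hv
          rw [← this, show g⁻¹ * (g * (v : H) * g⁻¹) * g = v by group]
          exact v.2
        rw [Function.iterate_succ_apply', show y = μ (g⁻¹ * y * g) by rw [hμa]; group,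
          hμf _ (hiter i x hx).1 _ hy', ih _ hy']
    have hd : π (((μ^[i]) x)⁻¹ * a) = 1 := by rw [map_mul, map_inv, (hiter i x hx).2, hi, inv_mul_cancel]
    have hdW : ((μ^[i]) x)⁻¹ * a ∈ W := mul_mem (inv_mem (hiter i x hx).1) ha
    rw [show a = (μ^[i]) x * (((μ^[i]) x)⁻¹ * a) by rw [mul_inv_cancel_left],
      hfl _ (hiter i x hx).1 _ hdW b hb, hrad' i b hb, one_mul]
    exact commutatorElement_eq_one_iff_mul_comm.2 ((hcen _ hdW hd).2 b hb).symm
  have hcongr : ∀ x ∈ W, ∀ a ∈ W, ∀ b ∈ W, π a = π b → ⁅x, a⁆ = ⁅x, b⁆ ∧ ⁅a, x⁆ = ⁅b, x⁆ := by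
    intro x hx a ha b hb e
    have hd : π (b⁻¹ * a) = 1 := by rw [map_mul, map_inv, e, inv_mul_cancel]
    have hdW : b⁻¹ * a ∈ W := mul_mem (inv_mem hb) ha
    have h1 := (hcen _ hdW hd).2 x hx
    constructor
    · rw [show a = b * (b⁻¹ * a) by group, hfr b hb _ hdW x hx, commutatorElement_eq_one_iff_mul_comm.2 h1, mul_one]
    · rw [show a = b * (b⁻¹ * a) by group, hfl b hb _ hdW x hx, commutatorElement_eq_one_iff_mul_comm.2 h1.symm,
        mul_one]
  -- four elements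
  obtain ⟨v, hv, hv1⟩ : ∃ v ∈ W, π v ≠ 1 := by
    by_contra h
    push Not at h
    exact hab fun a ha b hb => (hcen b hb (h b hb)).2 a ha
  have h4 : q = 4 := by
    have hv' : π (v * μ v) ≠ 1 := fun e => hv1 (hfpf v hv (by
      rw [map_mul] at e
      rw [eq_comm, ← inv_mul_eq_one, inv_eq_of_mul_eq_one_right (hOm2 _ (hmap v hv))]
      exact e))
    obtain ⟨k, hk⟩ := htrans _ (hmap v hv) _ (hmap _ (mul_mem hv (hμW v hv))) hv1 hv'
    have hk' : ∀ y ∈ W, π g ^ k * π y * (π g ^ k)⁻¹ = π (y * μ y) := by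
      intro y hy
      by_cases hy1 : π y = 1
      · rw [map_mul, hπμ, hy1]; group
      obtain ⟨i, hi⟩ := htrans _ (hmap v hv) _ (hmap y hy) hv1 hy1
      rw [map_mul, hπμ, ← hi]
      calc π g ^ k * (π g ^ i * π v * (π g ^ i)⁻¹) * (π g ^ k)⁻¹
          = π g ^ i * (π g ^ k * π v * (π g ^ k)⁻¹) * (π g ^ i)⁻¹ := by group
        _ = π g ^ i * (π v * (π g * π v * (π g)⁻¹)) * (π g ^ i)⁻¹ := by rw [hk, map_mul, hπμ]
        _ = _ := by group
    have hkW : ∀ y ∈ W, (μ^[k]) y ∈ W ∧ π ((μ^[k]) y) = π (y * μ y) := by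
      intro y hy
      rw [← hk' y hy]
      clear hk hk'
      induction k with
      | zero => simpa using hy
      | succ i ih =>
        rw [Function.iterate_succ_apply']
        refine ⟨hμW _ ih.1, ?_⟩
        rw [hπμ, ih.2, pow_succ']
        group
    have hkf : ∀ x ∈ W, ∀ y ∈ W, ⁅(μ^[k]) x, (μ^[k]) y⁆ = ⁅x, y⁆ := by
      intro x hx y hy
      have : ∀ n, (μ^[n]) x ∈ W ∧ (μ^[n]) y ∈ W ∧ ⁅(μ^[n]) x, (μ^[n]) y⁆ = ⁅x, y⁆ := by
        intro n
        induction n with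
        | zero => exact ⟨hx, hy, rfl⟩
        | succ n ih =>
          simp only [Function.iterate_succ_apply']
          exact ⟨hμW _ ih.1, hμW _ ih.2.1, (hμf _ ih.1 _ ih.2.1).trans ih.2.2⟩
      exact (this k).2.2
    have hsum : ∀ x ∈ W, ∀ y ∈ W, ⁅x, y⁆ * ⁅x, μ y⁆ * ⁅μ x, y⁆ = 1 := by
      intro x hx y hy
      have hx' := mul_mem hx (hμW x hx)
      have hy' := mul_mem hy (hμW y hy)
      have h0 := hkf x hx y hy
      rw [(hcongr _ (hkW y hy).1 _ (hkW x hx).1 _ hx' (hkW x hx).2).2,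
        (hcongr _ hx' _ (hkW y hy).1 _ hy' (hkW y hy).2).1,
        hfl x hx _ (hμW x hx) _ hy', hfr y hy _ (hμW y hy) x hx,
        hfr y hy _ (hμW y hy) _ (hμW x hx), hμf x hx y hy] at h0
      rw [← mul_assoc, mul_eq_right] at h0
      exact h0
    have h3 : π (μ (μ (μ v))) = π v := by
      have h1 : π (v * μ v * μ (μ v)) = 1 := by
        refine hnd _ (mul_mem (mul_mem hv (hμW v hv)) (hμW _ (hμW v hv))) fun x hx => ?_
        have hv2 := hμW _ (hμW v hv)
        have h := hsum x hx (μ v) (hμW v hv)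
        rw [hμf x hx v hv] at h
        have hinv : ∀ a ∈ W, ⁅a, x⁆ = ⁅x, a⁆ := fun a ha => by
          rw [← commutatorElement_inv]
          rcases hval x hx a ha with e | e <;> rw [e]
          · exact inv_one
          · exact inv_eq_of_mul_eq_one_right hz2
        rw [hfl _ (mul_mem hv (hμW v hv)) _ hv2 x hx, hfl _ hv _ (hμW v hv) x hx, hinv _ hv, hinv _ (hμW v hv),
          hinv _ hv2, mul_assoc ⁅x, v⁆]
        exact mul_eq_one_comm.1 h
      have ha := hmap v hv
      have hb := hmap _ (hμW v hv)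
      have h2 : π (μ (μ v)) = π v * π (μ v) := by
        rw [map_mul, map_mul] at h1
        rw [eq_inv_of_mul_eq_one_right h1, inv_eq_of_mul_eq_one_right (hOm2 _ (mul_mem ha hb))]
      calc π (μ (μ (μ v))) = π g * π (μ (μ v)) * (π g)⁻¹ := hπμ _
        _ = (π g * π v * (π g)⁻¹) * (π g * π (μ v) * (π g)⁻¹) := by rw [h2]; group
        _ = π (μ v) * π (μ (μ v)) := by rw [← hπμ, ← hπμ]
        _ = π v := by rw [h2, ← hOmc _ hb _ ha, ← mul_assoc, hOm2 _ hb, one_mul]
    have hc : Commute (π g ^ 3) (π v) := by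
      rw [hπμ, hπμ, hπμ] at h3
      refine mul_inv_eq_iff_eq_mul.1 ?_
      rw [show π g ^ 3 * π v * (π g ^ 3)⁻¹ = π g * (π g * (π g * π v * (π g)⁻¹) * (π g)⁻¹) * (π g)⁻¹ by
        rw [pow_succ, pow_two]; group]
      exact h3
    have hle : Nat.card Om ≤ Nat.card (Option (Fin 3)) := Nat.card_le_card_of_surjective
      (fun o => o.elim (1 : Om) fun i => ⟨π ((μ^[i.1]) v), hmap _ (by
        induction i.1 with
        | zero => exact hv
        | succ n ih => rw [Function.iterate_succ_apply']; exact hμW _ ih)⟩) fun x => by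
        by_cases hx : x = 1
        · exact ⟨none, hx.symm⟩
        obtain ⟨i, hi⟩ := htrans _ (hmap v hv) _ x.2 hv1 fun e => hx (Subtype.ext e)
        refine ⟨some ⟨i % 3, Nat.mod_lt _ (by norm_num)⟩, Subtype.ext ?_⟩
        show π ((μ^[i % 3]) v) = _
        have hit : ∀ n, π ((μ^[n]) v) = π g ^ n * π v * (π g ^ n)⁻¹ := by
          intro n
          induction n with
          | zero => simp
          | succ n ih => rw [Function.iterate_succ_apply', hπμ, ih, pow_succ']; group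
        rw [hit, ← hi]
        conv_rhs => rw [← Nat.mod_add_div i 3, pow_add, pow_mul]
        rw [mul_inv_rev, mul_assoc _ ((π g ^ 3) ^ (i / 3)), (hc.pow_left _).eq]
        group
    rw [Nat.card_eq_fintype_card (α := Option (Fin 3)), Fintype.card_option, Fintype.card_fin] at hle
    omega
  -- two nontrivial classes generate
  have hpair : ∀ x ∈ W, ∀ y ∈ W, π x ≠ 1 → π y ≠ 1 → π x ≠ π y → ⁅x, y⁆ = z := by
    intro x hx y hy hx1 hy1 hne
    refine (hval x hx y hy).resolve_left fun e => hx1 (hnd x hx fun w hw => ?_)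
    let f : Fin 4 → Om := ![1, ⟨π x, hmap x hx⟩, ⟨π y, hmap y hy⟩, ⟨π (x * y), hmap _ (mul_mem hx hy)⟩]
    have hxy : π x * π y ≠ 1 := fun e => hne (by
      rw [eq_inv_of_mul_eq_one_left e, inv_eq_of_mul_eq_one_right (hOm2 _ (hmap y hy))])
    have hinj : Function.Injective f := by
      intro a b hfab
      have e' : ((f a : Om) : K) = f b := congrArg Subtype.val hfab
      fin_cases a <;> fin_cases b <;> first | rfl | exfalso
      all_goals simp [f] at e'
      all_goals first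
        | exact hx1 e' | exact hx1 e'.symm | exact hy1 e' | exact hy1 e'.symm
        | exact hne e' | exact hne e'.symm | exact hxy e' | exact hxy e'.symm
    obtain ⟨a, ha⟩ := (hinj.bijective_of_nat_card_le (by rw [hcard, h4, Nat.card_fin])).2 ⟨π w, hmap w hw⟩
    have ha' : ((f a : Om) : K) = π w := congrArg Subtype.val ha
    have hxx : ⁅x, x⁆ = 1 := commutatorElement_self x
    fin_cases a <;> simp [f] at ha'
    · exact commutatorElement_eq_one_iff_mul_comm.2 ((hcen w hw ha'.symm).2 x hx)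
    · rw [(hcongr x hx w hw x hx ha'.symm).1, hxx]
    · rw [(hcongr x hx w hw y hy ha'.symm).1, e]
    · rw [(hcongr x hx w hw _ (mul_mem hx hy) (by rw [map_mul]; exact ha'.symm)).1, hfr x hx y hy x hx, hxx, e,
        one_mul]
  have hzz : z⁻¹ = z := inv_eq_of_mul_eq_one_right hz2
  have hzc : ∀ w ∈ W, w * z = z * w := (hcen z hzW hz).2
  let J : Subgroup H :=
    { carrier := {j | j ∈ W ∧ ((π j = 1 ∧ (j = 1 ∨ j = z)) ∨ (π j ≠ 1 ∧ j * j = z))}
      one_mem' := ⟨one_mem _, Or.inl ⟨map_one π, Or.inl rfl⟩⟩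
      mul_mem' := by
        rintro a b ⟨ha, ha'⟩ ⟨hb, hb'⟩
        refine ⟨mul_mem ha hb, ?_⟩
        rcases ha' with ⟨hπa, ha'⟩ | ⟨hπa, ha'⟩ <;> rcases hb' with ⟨hπb, hb'⟩ | ⟨hπb, hb'⟩
        · refine Or.inl ⟨by rw [map_mul, hπa, hπb, one_mul], ?_⟩
          rcases ha' with rfl | rfl <;> rcases hb' with rfl | rfl
          exacts [Or.inl (one_mul 1), Or.inr (one_mul _), Or.inr (mul_one _), Or.inl hz2]
        · refine Or.inr ⟨by rw [map_mul, hπa, one_mul]; exact hπb, ?_⟩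
          rcases ha' with rfl | rfl
          · rw [one_mul, hb']
          · rw [show a * b * (a * b) = a * (b * a) * b by group, hzc b hb,
              show a * (a * b) * b = (a * a) * (b * b) by group, hz2, one_mul, hb']
        · refine Or.inr ⟨by rw [map_mul, hπb, mul_one]; exact hπa, ?_⟩
          rcases hb' with rfl | rfl
          · rw [mul_one, ha']
          · rw [show a * b * (a * b) = a * (b * a) * b by group, ← hzc a ha,
              show a * (a * b) * b = (a * a) * (b * b) by group, hz2, mul_one, ha']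
        · by_cases he : π a = π b
          · refine Or.inl ⟨by rw [map_mul, he, hOm2 _ (hmap b hb)], ?_⟩
            have hd : π (a⁻¹ * b) = 1 := by rw [map_mul, map_inv, he, inv_mul_cancel]
            have hdW : a⁻¹ * b ∈ W := mul_mem (inv_mem ha) hb
            have hcd := (hcen _ hdW hd).2 a ha
            have hsqd : a⁻¹ * b * (a⁻¹ * b) = 1 := by
              refine mul_left_cancel (a := a * a) ?_
              calc a * a * (a⁻¹ * b * (a⁻¹ * b)) = a * (a * (a⁻¹ * b)) * (a⁻¹ * b) := by group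
                _ = a * (a⁻¹ * b * a) * (a⁻¹ * b) := by rw [hcd]
                _ = b * b := by group
                _ = a * a * 1 := by rw [mul_one, ha', hb']
            rcases huniq _ hdW hd hsqd with e | e
            · rw [← inv_mul_eq_one.1 e, ha']; exact Or.inr rfl
            · rw [show a * b = a * a * (a⁻¹ * b) by group, ha', e, hz2]; exact Or.inl rfl
          · refine Or.inr ⟨fun e => he ?_, ?_⟩
            · rw [map_mul] at e
              rw [eq_inv_of_mul_eq_one_left e, inv_eq_of_mul_eq_one_right (hOm2 _ (hmap b hb))]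
            · rw [show a * b * (a * b) = a * ⁅b, a⁆ * (a * b * b) by simp only [commutatorElement_def]; group,
                hpair b hb a ha hπb hπa fun e => he e.symm, hzc a ha,
                show z * a * (a * b * b) = z * (a * a) * (b * b) by group, ha', hb', hz2, one_mul]
      inv_mem' := by
        rintro a ⟨ha, ha'⟩
        refine ⟨inv_mem ha, ?_⟩
        rcases ha' with ⟨hπa, ha'⟩ | ⟨hπa, ha'⟩
        · refine Or.inl ⟨by rw [map_inv, hπa, inv_one], ?_⟩
          rcases ha' with rfl | rfl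
          exacts [Or.inl inv_one, Or.inr hzz]
        · exact Or.inr ⟨by rw [map_inv, ne_eq, inv_eq_one]; exact hπa, by rw [← mul_inv_rev, ha', hzz]⟩ }
  have hsurjJ : ∀ x ∈ Om, ∃ j ∈ J, π j = x := by
    intro x hx
    by_cases hx1 : x = 1
    · exact ⟨1, one_mem _, by rw [map_one, hx1]⟩
    obtain ⟨w, hw, he⟩ := hrep x hx
    refine ⟨_, ⟨mul_mem (hμW w hw) (inv_mem hw), Or.inr ⟨by rw [he]; exact hx1, ?_⟩⟩, he⟩
    have hw1 : π w ≠ 1 := fun e => hx1 (by rw [← he, hμZ w hw e, mul_inv_cancel, map_one])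
    have hne : π w⁻¹ ≠ π (μ w) := by
      rw [map_inv, inv_eq_of_mul_eq_one_right (hOm2 _ (hmap w hw))]
      exact fun e => hw1 (hfpf w hw e.symm)
    rw [show μ w * w⁻¹ * (μ w * w⁻¹) = μ w * ⁅w⁻¹, μ w⁆ * (μ w * w⁻¹ * w⁻¹) by
      simp only [commutatorElement_def]; group,
      hpair _ (inv_mem hw) _ (hμW w hw) (by rw [map_inv, ne_eq, inv_eq_one]; exact hw1)
        (fun e => hw1 (by
          have := hfpf w hw
          rw [hπμ, conj_eq_one_iff] at e
          exact e)) hne,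
      hzc _ (hμW w hw), show z * μ w * (μ w * w⁻¹ * w⁻¹) = z * (μ w * μ w * (w * w)⁻¹) by group, ← map_mul,
      hμZ _ (mul_mem hw hw) (hsq w hw), mul_inv_cancel, mul_one]
  refine ⟨J, fun j hj => hj.1, fun j hj => ⟨hgW j hj.1, ?_⟩, hsurjJ, Or.inr ⟨h4, ?_, fun j hj he =>
    hj.2.elim (fun h => h.2) fun h => absurd he h.1, fun j hj h1 h2 =>
    hj.2.elim (fun h => (h.2.elim h1 h2).elim) fun h => h.2⟩⟩
  · rcases hj.2 with ⟨hπj, h⟩ | ⟨hπj, h⟩
    · refine Or.inl ?_
      rw [← hμa, hμZ j hj.1 hπj]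
      exact ⟨hπj, h⟩
    · refine Or.inr ⟨by rw [map_mul, map_mul, map_inv, ne_eq, conj_eq_one_iff]; exact hπj, ?_⟩
      rw [show g * j * g⁻¹ * (g * j * g⁻¹) = g * (j * j) * g⁻¹ by group, h, ← hμa, hμZ z hzW hz]
  · have hk : (π.comp J.subtype).ker = (zpowers z).subgroupOf J := by
      ext j
      rw [MonoidHom.mem_ker, mem_subgroupOf]
      constructor
      · intro hj
        rcases j.2.2 with ⟨-, h | h⟩ | ⟨h, -⟩
        · rw [h]; exact one_mem _
        · rw [h]; exact mem_zpowers z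
        · exact absurd hj h
      · rintro ⟨n, hn⟩
        show π (j : H) = 1
        rw [← hn, map_zpow, hz, one_zpow]
    have hr : (π.comp J.subtype).range = Om := by
      ext x
      constructor
      · rintro ⟨j, rfl⟩; exact hmap _ j.2.1
      · intro hx
        obtain ⟨j, hj, he⟩ := hsurjJ x hx
        exact ⟨⟨j, hj⟩, he⟩
    have h := Subgroup.index_ker (π.comp J.subtype)
    rw [hk, hr, hcard, h4] at h
    have h2 := ((zpowers z).subgroupOf J).card_mul_index
    rw [h, Nat.card_congr (subgroupOfEquivOfLe (zpowers_le.2 (show z ∈ J from ⟨hzW, Or.inl ⟨hz, Or.inr rfl⟩⟩))).toEquiv,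
      Nat.card_zpowers, orderOf_eq_prime (p := 2) (by rw [pow_two, hz2]) hz1] at h2
    exact h2.symm

end Moved

/-- A cyclic or quaternion group with one involution has solvable automorphism group. -/
theorem solvable_mulAut_of_unique {P : Type u} [Group P] [Finite P] (hP : IsPGroup 2 P)
    (hu : ∀ x y : P, orderOf x = 2 → orderOf y = 2 → x = y) : Group.IsSolvable (MulAut P) := by
  by_cases hc : IsCyclic P
  · obtain ⟨c, hgen⟩ := hc.exists_generator
    refine Group.isSolvable_of_comm fun a b => MulEquiv.ext fun x => ?_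
    obtain ⟨i, hi⟩ := mem_zpowers_iff.1 (hgen (a c))
    obtain ⟨j, hj⟩ := mem_zpowers_iff.1 (hgen (b c))
    obtain ⟨k, rfl⟩ := mem_zpowers_iff.1 (hgen x)
    rw [MulAut.mul_apply, MulAut.mul_apply, map_zpow, map_zpow, map_zpow, map_zpow, ← hi, ← hj, map_zpow,
      map_zpow, ← hi, ← hj, ← zpow_mul, ← zpow_mul, ← zpow_mul, ← zpow_mul]
    ring_nf
  · obtain ⟨k, ⟨e⟩⟩ := Final.quaternion_of_unique hP hc hu
    haveI := Final.solvable_mulAut_quaternion k
    exact solvable_of_surjective (f := (MulAut.congr e.symm).toMonoidHom) (MulAut.congr e.symm).surjective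

/-- **The local data.** -/
theorem exists_localData {H : Type u} [Group H] [Finite H] (hG : SmallMeet H) (_hO : Cfsg.oddCore H = ⊥) {z : H}
    (hz : orderOf z = 2) (hzc : ∀ h : H, h * z = z * h) (hTI : TIMod H) (hne : ∃ S T : Sylow 2 H, S ≠ T)
    (hfour : ∃ S : Sylow 2 H, Four ((S : Subgroup H).map (QuotientGroup.mk' (Cfsg.pCore 2 H)))) :
    ∃ q, (∃ n, 2 ≤ n ∧ q = 2 ^ n) ∧ ∀ S T : Sylow 2 H, T ≠ S → ∃ g J, LocalData z q S T g J := by
  classical
  haveI := Fact.mk Nat.prime_two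
  have hPp := CfsgLib.HallGen.isPGroup_pCore (G := H) 2
  have hzD : z ∈ Cfsg.pCore 2 H := by
    haveI : (zpowers z).Normal := ⟨fun x hx g => by
      obtain ⟨i, rfl⟩ := hx
      rw [((show Commute g z from hzc g).zpow_right i).eq, mul_inv_cancel_right]
      exact ⟨i, rfl⟩⟩
    exact CfsgLib.Core.le_pCore (IsPGroup.of_card (p := 2) (n := 1) (by rw [Nat.card_zpowers, hz, pow_one]))
      (mem_zpowers z)
  set D := Cfsg.pCore 2 H with hD
  obtain ⟨S₀, T₀, hne₀⟩ := hne
  have huniq : ∀ e ∈ D, e * e = 1 → e = 1 ∨ e = z := fun e he h1 => by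
    by_cases h : e = 1
    · exact Or.inl h
    · exact Or.inr (Final.unique_involution_core hG hne₀ he hzD
        (CfsgLib.Signalizer.orderOf_eq_two_of h h1) hz)
  -- the residual centralises the 2-core
  set C := centralizer (D : Set H) with hC
  haveI hCn : C.Normal := Subgroup.normal_centralizer
  have hsolC : Group.IsSolvable (H ⧸ C) := by
    let φ : H →* MulAut D := MulAut.conjNormal
    have hk : φ.ker = C := by
      ext g
      rw [MonoidHom.mem_ker, hC, mem_centralizer_iff]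
      constructor
      · intro h w hw
        have := congrArg Subtype.val (DFunLike.congr_fun h ⟨w, hw⟩)
        simp only [φ, MulAut.conjNormal_apply, MulAut.one_apply] at this
        rw [← mul_inv_eq_iff_eq_mul.1 this]
      · intro h
        refine MulEquiv.ext fun w => Subtype.ext ?_
        simp only [φ, MulAut.conjNormal_apply, MulAut.one_apply]
        rw [← h _ w.2, mul_inv_cancel_right]
    haveI := solvable_mulAut_of_unique hPp fun x y hx hy => Subtype.ext
      (Final.unique_involution_core hG hne₀ x.2 y.2 (by rwa [Subgroup.orderOf_coe]) (by rwa [Subgroup.orderOf_coe]))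
    have h1 : Group.IsSolvable (H ⧸ φ.ker) :=
      solvable_of_solvable_injective (f := QuotientGroup.kerLift φ) (QuotientGroup.kerLift_injective φ)
    exact solvable_of_surjective (f := (QuotientGroup.quotientMulEquivOfEq hk).toMonoidHom)
      (QuotientGroup.quotientMulEquivOfEq hk).surjective
  -- the quotient by the 2-core
  set π := QuotientGroup.mk' D with hπ
  have hsurj : Function.Surjective π := QuotientGroup.mk'_surjective D
  have hker : ∀ {h : H}, π h = 1 ↔ h ∈ D := fun {h} => QuotientGroup.eq_one_iff h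
  have hDS : ∀ S : Sylow 2 H, D ≤ (S : Subgroup H) := fun S => CfsgLib.HallGen.pCore_le_sylow S
  let σ : Sylow 2 H → Sylow 2 (H ⧸ D) := fun S => S.mapSurjective hsurj
  have hσmem : ∀ (S : Sylow 2 H) (h : H), π h ∈ (σ S : Subgroup (H ⧸ D)) ↔ h ∈ (S : Subgroup H) := by
    intro S h
    show π h ∈ ((S.mapSurjective hsurj : Sylow 2 (H ⧸ D)) : Subgroup (H ⧸ D)) ↔ _
    rw [Sylow.coe_mapSurjective]
    refine ⟨?_, fun hh => ⟨h, hh, rfl⟩⟩
    rintro ⟨s, hs, he⟩
    simpa using mul_mem hs (hDS S (hker.1 (show π (s⁻¹ * h) = 1 by rw [map_mul, map_inv, he, inv_mul_cancel])))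
  have hσinj : Function.Injective σ := fun S T e => Sylow.ext (Subgroup.ext fun h => by
    rw [← hσmem S h, ← hσmem T h, e])
  have hσsurj : Function.Surjective σ := Sylow.mapSurjective_surjective hsurj 2
  have hσsmul : ∀ (h : H) (S : Sylow 2 H), σ (h • S) = π h • σ S := fun h S => Sylow.ext (Subgroup.ext fun x => by
    obtain ⟨y, rfl⟩ := hsurj x
    rw [hσmem, mem_smul_sylow, mem_smul_sylow, ← map_inv, ← map_mul, ← map_mul, hσmem])
  have hti : ∀ A B : Sylow 2 (H ⧸ D), A ≠ B → (A : Subgroup (H ⧸ D)) ⊓ (B : Subgroup (H ⧸ D)) = ⊥ := by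
    intro A B hAB
    obtain ⟨S, rfl⟩ := hσsurj A
    obtain ⟨T, rfl⟩ := hσsurj B
    refine (eq_bot_iff_forall _).2 fun x hx => ?_
    obtain ⟨y, rfl⟩ := hsurj x
    refine hker.2 ?_
    rw [hD, ← hTI S T fun e => hAB (by rw [e])]
    exact ⟨(hσmem S y).1 hx.1, (hσmem T y).1 hx.2⟩
  have hfour' : ∃ A : Sylow 2 (H ⧸ D), Four (A : Subgroup (H ⧸ D)) := by
    obtain ⟨S, hS⟩ := hfour
    exact ⟨σ S, by
      show Four ((S.mapSurjective hsurj : Sylow 2 (H ⧸ D)) : Subgroup (H ⧸ D))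
      rw [Sylow.coe_mapSurjective]; exact hS⟩
  obtain ⟨q, hqn, hline⟩ := ti_line hti hfour' ⟨σ S₀, σ T₀, fun e => hne₀ (hσinj e)⟩
  have hq4 : 4 ≤ q := by
    obtain ⟨n, hn, rfl⟩ := hqn
    exact le_trans (by norm_num) (Nat.pow_le_pow_right two_pos hn)
  refine ⟨q, hqn, fun S T hST => ?_⟩
  obtain ⟨Om, hOmq, hOmS, hOm, hOmc, hcomm, habel, htrans, g₀, hg₀odd, hgS, hgT, hgtr, hgone, hgthree, hres⟩ :=
    hline (σ S) (σ T) fun e => hST (hσinj e)
  haveI : (C.map π).Normal := hCn.map π hsurj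
  have hsolC' : Group.IsSolvable ((H ⧸ D) ⧸ C.map π) := by
    haveI := hsolC
    exact solvable_of_surjective (f := QuotientGroup.map C (C.map π) π (le_comap_map _ _)) fun r => by
      obtain ⟨r, rfl⟩ := QuotientGroup.mk'_surjective (C.map π) r
      obtain ⟨h, rfl⟩ := hsurj r
      exact ⟨QuotientGroup.mk h, rfl⟩
  obtain ⟨hSC, c₀, hc₀, hc₀'⟩ := hres (C.map π) inferInstance hsolC'
  obtain ⟨a, b, hb, hab⟩ := Nat.exists_eq_two_pow_mul_odd (orderOf_pos c₀).ne'
  obtain ⟨i₀, hi₀⟩ := exists_pow_eq_self_of_coprime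
    (show (2 ^ a).Coprime (orderOf g₀) from (Nat.coprime_two_left.2 hg₀odd).pow_left a)
  set g := (c₀ ^ 2 ^ a) ^ i₀ with hg
  have hπg : π g = g₀ := by rw [hg, map_pow, map_pow, hc₀', hi₀]
  have hgodd : Odd (orderOf g) := by
    refine hb.of_dvd_nat (orderOf_dvd_of_pow_eq_one ?_)
    rw [hg, ← pow_mul, ← pow_mul, show 2 ^ a * (i₀ * b) = orderOf c₀ * i₀ by rw [hab]; ring, pow_mul,
      pow_orderOf_eq_one, one_pow]
  have hgC : g ∈ C := pow_mem (pow_mem hc₀ _) _
  have hgfix : ∀ {V : Sylow 2 H}, g₀ • σ V = σ V → g • V = V := fun {V} e => hσinj (by rw [hσsmul, hπg, e])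
  have hgconj : ∀ {h : H}, h ∈ (S : Subgroup H) → g * h * g⁻¹ ∈ (S : Subgroup H) := fun hh => by
    have := conj_mem_sylow (g := g) hh
    rwa [hgfix hgS] at this
  have hcentC : ∀ {w : H}, w ∈ C → ∀ d ∈ D, w * d = d * w := fun hw d hd =>
    (mem_centralizer_iff.1 hw d hd).symm
  have hinner : ∀ s ∈ (S : Subgroup H), ∃ d ∈ D, d⁻¹ * s ∈ C ∧ d⁻¹ * s ∈ (S : Subgroup H) ∧ π (d⁻¹ * s) = π s := by
    intro s hs
    obtain ⟨c, hc, he⟩ := hSC ((hσmem S s).2 hs)
    have hd : s * c⁻¹ ∈ D := hker.1 (by rw [map_mul, map_inv, he, mul_inv_cancel])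
    refine ⟨s * c⁻¹, hd, ?_, mul_mem (inv_mem (hDS S hd)) hs, ?_⟩
    · rw [show (s * c⁻¹)⁻¹ * s = c by group]; exact hc
    · rw [show (s * c⁻¹)⁻¹ * s = c by group]; exact he
  -- the layer above the involutions
  set W := ((S : Subgroup H) ⊓ C) ⊓ Om.comap π with hW
  obtain ⟨J, hJW, hgJ, hJsurj, hkind⟩ := exists_moved π W Om (g := g) (z := z) hOmq hq4
    (fun x hx => ((hOm x (hOmS hx)).2 hx)) (fun x hx => hx.2)
    (fun x hx => by
      obtain ⟨s, rfl⟩ := hsurj x
      obtain ⟨d, -, hc, hcS, he⟩ := hinner s ((hσmem S s).1 (hOmS hx))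
      exact ⟨_, ⟨⟨hcS, hc⟩, by show π _ ∈ Om; rw [he]; exact hx⟩, he⟩)
    (fun w hw => by
      have hwS := hgconj hw.1.1
      refine ⟨⟨hwS, hCn.conj_mem w hw.1.2 g⟩, ?_⟩
      show π (g * w * g⁻¹) ∈ Om
      rw [← hOm _ ((hσmem S _).2 hwS), ← map_mul,
        show g * w * g⁻¹ * (g * w * g⁻¹) = g * (w * w) * g⁻¹ by group, map_mul, map_mul, map_mul, map_inv,
        (hOm _ (hOmS hw.2)).2 hw.2, mul_one, mul_inv_cancel])
    (fun e _ he => ⟨hcentC hgC e (hker.1 he), fun w hw => hcentC hw.1.2 e (hker.1 he)⟩)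
    ⟨⟨hDS S hzD, mem_centralizer_iff.2 fun d _ => hzc d⟩, by show π z ∈ Om; rw [hker.2 hzD]; exact one_mem _⟩
    (hker.2 hzD) (CfsgLib.Signalizer.involution_ne_one hz) (CfsgLib.Signalizer.involution_sq hz)
    (fun e _ he => huniq e (hker.1 he))
    (fun x hx y hy hx1 hy1 => by rw [hπg]; exact hgtr x hx y hy hx1 hy1)
  have hJS : ∀ j ∈ J, j ∈ (S : Subgroup H) := fun j hj => (hJW hj).1.1
  have hzmem : ∀ j ∈ J, j ∈ D → j = 1 ∨ j = z := fun j hj hjD => by
    rcases hkind with ⟨-, -, h⟩ | ⟨-, -, h, -⟩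
    · exact Or.inl (h j hj (hker.2 hjD))
    · exact h j hj (hker.2 hjD)
  have hexact : ∀ i : ℕ, (∀ x ∈ Om, g₀ ^ i * x = x * g₀ ^ i) → ∀ j ∈ J, g ^ i * j = j * g ^ i := by
    intro i hi j hj
    have hiJ : ∀ n : ℕ, g ^ n * j * (g ^ n)⁻¹ ∈ J := fun n => by
      induction n with
      | zero => simpa using hj
      | succ n ih => rw [pow_succ', show g * g ^ n * j * (g * g ^ n)⁻¹ = g * (g ^ n * j * (g ^ n)⁻¹) * g⁻¹ by group]
                     exact hgJ _ ih
    have he : j⁻¹ * (g ^ i * j * (g ^ i)⁻¹) ∈ D := hker.1 (by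
      rw [map_mul, map_inv, map_mul, map_mul, map_inv, map_pow, hπg, hi _ (hJW hj).2, mul_inv_cancel_right,
        inv_mul_cancel])
    refine fixed_of_small_move (e := j⁻¹ * (g ^ i * j * (g ^ i)⁻¹)) (hgodd.of_dvd_nat (orderOf_pow_dvd i))
      (mul_inv_cancel_left _ _).symm (hcentC (pow_mem hgC i) _ he) ?_
    rcases hzmem _ (mul_mem (inv_mem hj) (hiJ i)) he with e | e <;> rw [e]
    · exact one_mul 1
    · exact CfsgLib.Signalizer.involution_sq hz
  refine ⟨g, J, ⟨hJS, hzmem, fun j hj d hd => hcentC (hJW hj).1.2 d hd, fun s hs => ?_, fun s hs => ?_, ?_,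
    fun s hs t ht => ?_, fun hall => ?_, fun U hU => ?_, hgodd, hgfix hgS, hgfix hgT,
    fun d hd => hcentC hgC d hd, hgJ, fun j hj j' hj' h1 h2 => ?_, fun i s hs hss hsD hfix => ?_,
    fun i U hUS hUT hfix => ?_⟩⟩
  · obtain ⟨d, hd, hc, -, -⟩ := hinner s hs
    exact ⟨d, hd, fun e he => hcentC hc e he⟩
  · constructor
    · intro h
      obtain ⟨j, hj, he⟩ := hJsurj (π s) ((hOm _ ((hσmem S s).2 hs)).1 (by rw [← map_mul, hker.2 h]))
      exact ⟨j, hj, j⁻¹ * s, hker.1 (by rw [map_mul, map_inv, he, inv_mul_cancel]), (mul_inv_cancel_left j s).symm⟩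
    · rintro ⟨j, hj, d, hd, rfl⟩
      refine hker.1 ?_
      rw [map_mul, map_mul, hker.2 hd, mul_one]
      exact (hOm _ (hOmS (hJW hj).2)).2 (hJW hj).2
  · rcases hkind with ⟨h1, h2, h3⟩ | ⟨h1, h2, -, h4⟩
    · exact Or.inl ⟨h1, h2, (eq_bot_iff_forall _).2 fun j hj => h3 j hj.1 (hker.2 hj.2)⟩
    · exact Or.inr ⟨h1, h2, h4⟩
  · obtain ⟨j, hj, he⟩ := hJsurj _ (hcomm _ ((hσmem S s).2 hs) _ ((hσmem S t).2 ht))
    refine ⟨j, hj, j⁻¹ * (s * t * s⁻¹ * t⁻¹), hker.1 ?_, (mul_inv_cancel_left _ _).symm⟩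
    simp only [map_mul, map_inv] at he ⊢
    rw [he, inv_mul_cancel]
  · have h1 := habel fun x hx y hy => by
      obtain ⟨s, rfl⟩ := hsurj x
      obtain ⟨t, rfl⟩ := hsurj y
      have := hker.2 (hall s ((hσmem S s).1 hx) t ((hσmem S t).1 hy))
      simp only [map_mul, map_inv, mul_inv_eq_iff_eq_mul, one_mul] at this
      exact this
    have h2 : Nat.card ((S : Subgroup H).map π) = q := by
      rw [← h1]
      show _ = Nat.card ↥((S.mapSurjective hsurj : Sylow 2 (H ⧸ D)) : Subgroup (H ⧸ D))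
      rw [Sylow.coe_mapSurjective]
    have h3 := (D.subgroupOf (S : Subgroup H)).card_mul_index
    rw [Nat.card_congr (subgroupOfEquivOfLe (hDS S)).toEquiv] at h3
    have h4 : (D.subgroupOf (S : Subgroup H)).index = q := by
      rw [← h2, ← Subgroup.relIndex_ker, QuotientGroup.ker_mk']
      rfl
    rw [← h3, h4, mul_comm]
  · obtain ⟨x, hx, he⟩ := htrans (σ U) fun e => hU (hσinj e)
    obtain ⟨s, rfl⟩ := hsurj x
    exact ⟨s, (hσmem S s).1 hx, hσinj (by rw [hσsmul, he])⟩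
  · obtain ⟨i, hi⟩ := hgtr _ (hJW hj).2 _ (hJW hj').2 (fun e => h1 (hker.1 e)) fun e => h2 (hker.1 e)
    exact ⟨i, hker.1 (by rw [map_mul, map_inv, map_mul, map_mul, map_inv, map_pow, hπg, hi, inv_mul_cancel])⟩
  · refine hexact i fun x hx => hgone i (π s) (hs.imp (hσmem S s).2 (hσmem T s).2)
      (by rw [← map_mul, hker.2 hss]) (fun e => hsD (hker.1 e)) ?_ x hx
    have := hker.2 hfix
    rw [map_mul, map_inv, inv_mul_eq_one, map_mul, map_mul, map_inv, map_pow, hπg, mul_inv_eq_iff_eq_mul] at this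
    exact this
  · exact hexact i fun x hx => hgthree i (σ U) (fun e => hUS (hσinj e)) (fun e => hUT (hσinj e))
      (by rw [← hπg, ← map_pow, ← hσsmul, hfix]) x hx

end CfsgLib.RankOneInter
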