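import Cfsg.Agent.Lib.Invol.RankOneInter.Central.Local
import Cfsg.Agent.Lib.Invol.RankOneInter.PartA.LocalB

/-!
Owner: helper16. Theorem B of S3310: in case (b) the 2-core has order two.

* `not_grid_of_four_le_core`: with a central involution and case (b), `O₂` has at most two elements.
-/

set_option autoImplicit false
set_option linter.style.haveILetI false
set_option linter.unusedSectionVars false

open scoped MatrixGroups

namespace CfsgLib.RankOneInter

open Subgroup
open CfsgLib.Signalizer (involution_sq involution_ne_one orderOf_eq_two_of)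

universe u

/-- A second element of order four, the product with `iM` having order three. -/
def Pair.yM : SL(2, ZMod 5) := ⟨!![1, 1; 3, 4], by decide +kernel⟩

theorem Pair.order_facts : (Pair.iM : SL(2, ZMod 5)) * Pair.iM = -1 ∧ Pair.yM * Pair.yM = -1 ∧
    (Pair.iM * Pair.yM) ^ 3 = 1 ∧ Pair.iM * Pair.yM ≠ 1 ∧ Pair.iM * Pair.yM ≠ Pair.yM * Pair.iM := by
  decide +kernel

variable {H : Type u} [Group H] [Finite H]

/-- In case (b) the 2-core has at most two elements. -/
theorem not_grid_of_four_le_core (hG : SmallMeet H) {z : H} (hz : orderOf z = 2) (hzc : ∀ h : H, h * z = z * h)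
    (hgrid : Grid H) : Nat.card ↥(Cfsg.pCore 2 H) ≤ 2 := by
  classical
  haveI := Fact.mk Nat.prime_two
  haveI : Fact (Nat.Prime 5) := ⟨by norm_num⟩
  obtain ⟨G₁, hG₁n, -, Z, hZn, hZ, ⟨e⟩⟩ := hgrid
  let mk : SL(2, ZMod 5) × SL(2, ZMod 5) →* (SL(2, ZMod 5) × SL(2, ZMod 5)) ⧸ Z := QuotientGroup.mk' Z
  let ι₁ : SL(2, ZMod 5) →* H := G₁.subtype.comp (e.symm.toMonoidHom.comp (mk.comp (MonoidHom.inl _ _)))
  let ι₂ : SL(2, ZMod 5) →* H := G₁.subtype.comp (e.symm.toMonoidHom.comp (mk.comp (MonoidHom.inr _ _)))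
  obtain ⟨hi2, hy2, hiy3, hiy1, hiyc⟩ := Pair.order_facts
  -- two Sylow subgroups
  have hι₂inj : Function.Injective ι₂ := by
    refine G₁.subtype_injective.comp (e.symm.injective.comp ((injective_iff_map_eq_one _).2 fun s hs => ?_))
    rcases Pair.mem_cases hZ ((QuotientGroup.eq_one_iff _).1 hs) with h | h
    · exact (Prod.ext_iff.1 h).2
    · exact absurd (Prod.ext_iff.1 h).1.symm Pair.neg_one_ne
  have hno : ∀ {Y : Subgroup H}, (∀ s, ι₂ s ∈ Y) → ∀ W : Sylow 2 Y, ¬ (W : Subgroup Y).Normal := by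
    intro Y hY W hW
    let φ : SL(2, ZMod 5) →* Y ⧸ (W : Subgroup Y) := (QuotientGroup.mk' _).comp (ι₂.codRestrict Y hY)
    have hkill : ∀ s : SL(2, ZMod 5), s ^ 4 = 1 → φ s = 1 := by
      intro s hs
      have hp : IsPGroup 2 (zpowers (ι₂.codRestrict Y hY s)) := by
        intro w
        obtain ⟨i, hi⟩ := mem_zpowers_iff.1 w.2
        refine ⟨2, Subtype.ext ?_⟩
        rw [coe_pow, coe_one, ← hi, ← zpow_natCast, ← zpow_mul, mul_comm, zpow_mul, zpow_natCast, ← map_pow,
          show (2 : ℕ) ^ 2 = 4 from rfl, hs, map_one, one_zpow]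
      obtain ⟨W', hW'⟩ := hp.exists_le_sylow
      obtain ⟨g, rfl⟩ := MulAction.exists_smul_eq Y W W'
      rw [Sylow.smul_eq_of_normal] at hW'
      exact (QuotientGroup.eq_one_iff _).2 (hW' (mem_zpowers _))
    have h4 : ∀ s : SL(2, ZMod 5), s * s = -1 → s ^ 4 = 1 := fun s hs => by
      rw [show (4 : ℕ) = 2 * 2 from rfl, pow_mul, pow_two, pow_two, hs, Pair.neg_one_sq]
    have h1 : φ (Pair.iM * Pair.yM) = 1 := by
      rw [map_mul, hkill _ (h4 _ hi2), hkill _ (h4 _ hy2), mul_one]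
    obtain ⟨k, hk⟩ := W.isPGroup' ⟨ι₂.codRestrict Y hY (Pair.iM * Pair.yM), (QuotientGroup.eq_one_iff _).1 h1⟩
    have h2 : (ι₂.codRestrict Y hY (Pair.iM * Pair.yM)) ^ 2 ^ k = 1 := congrArg Subtype.val hk
    rw [← map_pow, ← map_one (ι₂.codRestrict Y hY)] at h2
    have h3 := hι₂inj (congrArg Subtype.val h2 :)
    exact hiy1 (orderOf_eq_one_iff.1 (Nat.eq_one_of_dvd_coprimes
      (((Nat.coprime_primes Nat.prime_two Nat.prime_three).2 (by norm_num)).pow_left k)
      (orderOf_dvd_of_pow_eq_one h3) (orderOf_dvd_of_pow_eq_one hiy3)))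
  obtain ⟨S, T, hST⟩ : ∃ S T : Sylow 2 H, S ≠ T := by
    by_contra hone
    push Not at hone
    have hu : ∀ W W' : Sylow 2 (⊤ : Subgroup H), W = W' := fun W W' => by
      obtain ⟨S₁, hS₁⟩ := (W.isPGroup'.map (⊤ : Subgroup H).subtype).exists_le_sylow
      obtain ⟨S₂, hS₂⟩ := (W'.isPGroup'.map (⊤ : Subgroup H).subtype).exists_le_sylow
      have hp : IsPGroup 2 ((S₁ : Subgroup H).subgroupOf ⊤) :=
        S₁.isPGroup'.comap_of_injective (⊤ : Subgroup H).subtype (⊤ : Subgroup H).subtype_injective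
      have e1 := W.is_maximal' hp fun w hw => mem_subgroupOf.2 (hS₁ ⟨w, hw, rfl⟩)
      have e2 := W'.is_maximal' hp fun w hw => mem_subgroupOf.2 (hone S₂ S₁ ▸ hS₂ ⟨w, hw, rfl⟩)
      exact Sylow.ext (e1.symm.trans e2)
    haveI : Subsingleton (Sylow 2 (⊤ : Subgroup H)) := ⟨hu⟩
    exact hno (fun s => mem_top _) default (Sylow.normal_of_subsingleton _)
  have hzc' : z ∈ center H := mem_center_iff.2 hzc
  -- the perfect subgroup centralises the core
  set P := Cfsg.pCore 2 H with hP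
  have huniq : ∀ x y : P, orderOf x = 2 → orderOf y = 2 → x = y := fun x y hx hy => Subtype.ext
    ((pCore_unique hG hST hz hzc' x.2 (by rw [Subgroup.orderOf_coe, hx])).trans
      (pCore_unique hG hST hz hzc' y.2 (by rw [Subgroup.orderOf_coe, hy])).symm)
  haveI := solvable_mulAut_of_unique (CfsgLib.Core.isPGroup_pCore 2 H) huniq
  have hperf : commutator G₁ = ⊤ := by
    let f : SL(2, ZMod 5) × SL(2, ZMod 5) →* G₁ := e.symm.toMonoidHom.comp mk
    have hf : Function.Surjective f := e.symm.surjective.comp (QuotientGroup.mk'_surjective Z)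
    refine eq_top_iff.2 ?_
    rintro u -
    obtain ⟨⟨a, b⟩, rfl⟩ := hf u
    rw [show (a, b) = MonoidHom.inl _ _ a * MonoidHom.inr _ _ b by simp, map_mul]
    have hcomm : ∀ (ψ : SL(2, ZMod 5) →* G₁) (x : SL(2, ZMod 5)), ψ x ∈ commutator G₁ := fun ψ x => by
      have h : ψ x ∈ (commutator SL(2, ZMod 5)).map ψ :=
        mem_map_of_mem ψ (CfsgLib.Perm.SLTwoFive.perfect ▸ mem_top x)
      rw [commutator_def, map_commutator] at h
      exact commutator_mono le_top le_top h
    exact mul_mem (hcomm (f.comp (MonoidHom.inl _ _)) a) (hcomm (f.comp (MonoidHom.inr _ _)) b)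
  have hcen : ∀ g ∈ G₁, ∀ p ∈ P, g * p = p * g := by
    intro g hg p hp
    let φ : G₁ →* MulAut P := MulAut.conjNormal.comp G₁.subtype
    have h1 : φ ⟨g, hg⟩ = 1 := CfsgLib.Recog.Zassenhaus.hom_trivial_of_perfect hperf φ _
    have h := congrArg Subtype.val (DFunLike.congr_fun h1 (⟨p, hp⟩ : P))
    simp only [φ, MonoidHom.comp_apply, MulAut.conjNormal_apply, MulAut.one_apply, Subgroup.coe_subtype] at h
    exact mul_inv_eq_iff_eq_mul.1 h
  by_contra hlt
  push Not at hlt
  -- an element of order four of the core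
  obtain ⟨a, haP, haa⟩ : ∃ a ∈ P, a * a = z := by
    obtain ⟨x, hxP, hx1, hxz⟩ : ∃ x ∈ P, x ≠ 1 ∧ x ≠ z := by
      by_contra hcon
      push Not at hcon
      have : Nat.card P ≤ Nat.card Bool := Nat.card_le_card_of_injective (fun x : P => decide (x = 1)) fun x y hxy => by
        by_cases hx : x = 1 <;> by_cases hy : y = 1 <;> simp [hx, hy] at hxy ⊢
        exact Subtype.ext ((hcon _ x.2 fun h => hx (Subtype.ext h)).trans (hcon _ y.2 fun h => hy (Subtype.ext h)).symm)
      rw [Nat.card_eq_fintype_card (α := Bool), Fintype.card_bool] at this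
      omega
    obtain ⟨k, hk⟩ := IsPGroup.iff_orderOf.1 (CfsgLib.Core.isPGroup_pCore 2 H) ⟨x, hxP⟩
    rw [Subgroup.orderOf_mk] at hk
    rcases k with _ | _ | j
    · exact absurd (orderOf_eq_one_iff.1 (by rw [hk, pow_zero])) hx1
    · exact absurd (pCore_unique hG hST hz hzc' hxP (by rw [hk, pow_one])) hxz
    · refine ⟨x ^ 2 ^ j, pow_mem hxP _, pCore_unique hG hST hz hzc' (mul_mem (pow_mem hxP _) (pow_mem hxP _)) ?_⟩
      rw [← pow_add, show 2 ^ j + 2 ^ j = 2 ^ (j + 1) by ring, orderOf_pow, hk,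
        Nat.gcd_eq_right (pow_dvd_pow 2 (by omega)), Nat.pow_div (by omega) two_pos]
      norm_num
  -- the central involution of the subgroup is `z`
  set b := ι₁ Pair.iM with hb
  have hbG : b ∈ G₁ := SetLike.coe_mem _
  have hbb : b * b = z := by
    have hc : b * b = ((e.symm (Pair.cInv Z) : G₁) : H) := by
      rw [hb, ← map_mul, hi2]
      rfl
    let V : Subgroup H :=
      { carrier := {x | x ∈ G₁ ∧ (∀ y ∈ G₁, x * y = y * x) ∧ x * x = 1}
        one_mem' := ⟨one_mem G₁, fun y _ => by rw [one_mul, mul_one], mul_one 1⟩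
        mul_mem' := by
          rintro u v ⟨hu, huc, hu2⟩ ⟨hv, hvc, hv2⟩
          refine ⟨mul_mem hu hv, fun y hy => by rw [mul_assoc, hvc y hy, ← mul_assoc, huc y hy, mul_assoc], ?_⟩
          rw [mul_assoc, ← mul_assoc v, hvc u hu, mul_assoc, hv2, mul_one, hu2]
        inv_mem' := by
          rintro u ⟨hu, huc, hu2⟩
          rw [inv_eq_of_mul_eq_one_right hu2]
          exact ⟨hu, huc, hu2⟩ }
    haveI : V.Normal := by
      refine ⟨fun x hx g => ⟨hG₁n.conj_mem x hx.1 g, fun y hy => ?_, ?_⟩⟩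
      · have h := hx.2.1 (g⁻¹ * y * g) (by simpa using hG₁n.conj_mem y hy g⁻¹)
        calc g * x * g⁻¹ * y = g * (x * (g⁻¹ * y * g)) * g⁻¹ := by group
          _ = y * (g * x * g⁻¹) := by rw [h]; group
      · rw [show g * x * g⁻¹ * (g * x * g⁻¹) = g * (x * x) * g⁻¹ by group, hx.2.2, mul_one, mul_inv_cancel]
    have hV : IsPGroup 2 V := fun x => ⟨1, Subtype.ext (by rw [pow_one, coe_pow, coe_one, pow_two]; exact x.2.2.2)⟩
    rw [hc]
    refine pCore_unique hG hST hz hzc' (CfsgLib.Core.le_pCore hV ⟨(e.symm _).2, fun y hy => ?_, ?_⟩) ?_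
    · have h : e.symm (Pair.cInv Z) * ⟨y, hy⟩ = ⟨y, hy⟩ * e.symm (Pair.cInv Z) := e.injective (by
        rw [map_mul, map_mul, e.apply_symm_apply, Pair.cInv_central])
      exact congrArg Subtype.val h
    · rw [← coe_mul, ← map_mul, Pair.cInv_sq hZ, map_one, coe_one]
    · rw [Subgroup.orderOf_coe, MulEquiv.orderOf_eq]
      exact orderOf_eq_two_of (Pair.cInv_ne hZ) (Pair.cInv_sq hZ)
  -- the involution
  have hbP : b ∉ P := by
    intro hbP
    have h := hcen (ι₁ Pair.yM) (SetLike.coe_mem _) b hbP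
    rw [hb, ← map_mul, ← map_mul] at h
    have h2 := e.symm.injective (G₁.subtype_injective h)
    rcases Pair.mem_cases hZ (QuotientGroup.eq.1 h2) with h3 | h3
    · exact hiyc (inv_mul_eq_one.1 (Prod.ext_iff.1 h3).1).symm
    · have h4 := (Prod.ext_iff.1 h3).2
      simp only [MonoidHom.inl_apply, Prod.snd_mul, Prod.snd_inv, mul_one, inv_one] at h4
      exact Pair.neg_one_ne h4.symm
  set u := a * b with hu
  have hab : b * a = a * b := hcen b hbG a haP
  have huu : u * u = 1 := by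
    rw [hu, mul_assoc, ← mul_assoc b, hab, mul_assoc a b b, hbb, ← mul_assoc, haa, ← pow_two, ← hz, pow_orderOf_eq_one]
  have hu1 : u ≠ 1 := fun h => hbP ((eq_inv_of_mul_eq_one_right h) ▸ inv_mem haP)
  have huz : u ≠ z := fun h => hbP (by
    rw [show b = a⁻¹ * z by rw [← h, hu, inv_mul_cancel_left]]
    exact mul_mem (inv_mem haP) (haa ▸ mul_mem haP haP))
  set Y := centralizer ({u} : Set H) with hY
  have hY2 : ∀ s, ι₂ s ∈ Y := fun s => by
    refine mem_centralizer_singleton_iff.2 ?_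
    have hbs : ι₂ s * b = b * ι₂ s := by
      rw [hb]
      show ((e.symm (mk (1, s)) : G₁) : H) * (e.symm (mk (Pair.iM, 1)) : G₁) = _
      rw [← coe_mul, ← map_mul, ← map_mul, Prod.mk_mul_mk, one_mul, mul_one]
      show _ = ((e.symm (mk (Pair.iM, 1)) : G₁) : H) * (e.symm (mk (1, s)) : G₁)
      rw [← coe_mul, ← map_mul, ← map_mul, Prod.mk_mul_mk, one_mul, mul_one]
    rw [hu, ← mul_assoc, hcen (ι₂ s) (SetLike.coe_mem _) a haP, mul_assoc, hbs, mul_assoc]
  have hzY : z ∈ Y := mem_centralizer_singleton_iff.2 (hzc u).symm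
  have huY : u ∈ Y := mem_centralizer_singleton_iff.2 rfl
  obtain ⟨W⟩ := (inferInstance : Nonempty (Sylow 2 Y))
  refine hno hY2 W ?_
  haveI : Subsingleton (Sylow 2 Y) := ⟨fun W₁ W₂ => by
    by_contra hne
    refine huz (congrArg Subtype.val (central_unique (hG.subgroup Y) hne (s := (⟨u, huY⟩ : Y)) (t := ⟨z, hzY⟩)
      (by rw [Subgroup.orderOf_mk]; exact orderOf_eq_two_of hu1 huu) ?_ (by rw [Subgroup.orderOf_mk, hz]) ?_))
    · exact mem_center_iff.2 fun g => Subtype.ext (mem_centralizer_singleton_iff.1 g.2)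
    · exact mem_center_iff.2 fun g => Subtype.ext (hzc g)⟩
  exact Sylow.normal_of_subsingleton W

end CfsgLib.RankOneInter
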