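import Cfsg.Agent.Lib.Invol.RankOneInter.Central.X
import Cfsg.Agent.Lib.Invol.RankOneInter.Central.Local
import Cfsg.Agent.Lib.Invol.RankOneInter.Central.NotGrid
import Cfsg.Agent.Lib.Core.Cores

/-!
Owner: helper5. The centraliser of a multi involution of the quotient.

* `Hc c`, `Lc c`, `phi c`, `Oc c`: the preimage of the centraliser, its quotient by the odd core, and that core.
* `img`: the Sylow subgroup of `Lc c` from a point of `c`; `img_eq`: equal images differ by `Oc`.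
* `smul_or_except`: `Oc` fixes a point of `c` unless that point is exceptional.
* `timod_L`, `four_L`, `exists_data`: the local data given by induction.
-/

set_option autoImplicit false
set_option linter.style.haveILetI false
set_option linter.unusedSectionVars false

namespace CfsgLib.RankOneInter

open Subgroup
open CfsgLib.Signalizer (involution_sq involution_inv orderOf_eq_two_of involution_ne_one orderOf_conj)

universe u

/-- A normal subgroup with a central 2-part of odd index is that part, if there is no odd normal subgroup. -/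
theorem le_of_central_two {L : Type*} [Group L] [Finite L] (hO : Cfsg.oddCore L = ⊥) {N A : Subgroup L} [N.Normal]
    (hAN : A ≤ N) (hA : IsPGroup 2 A) (hcent : ∀ a ∈ A, ∀ n ∈ N, n * a = a * n) (hodd : Odd (A.relIndex N)) :
    N ≤ A := by
  haveI := Fact.mk Nat.prime_two
  obtain ⟨k, hk⟩ := hA.exists_card_eq
  have hcA : Nat.card (A.subgroupOf N) = 2 ^ k := by rw [Nat.card_congr (subgroupOfEquivOfLe hAN).toEquiv, hk]
  haveI : (A.subgroupOf N).Normal := ⟨fun a ha n => by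
    have e : (n * a * n⁻¹ : N) = a := Subtype.ext (by
      simp only [Subgroup.coe_mul, InvMemClass.coe_inv]
      rw [hcent _ (mem_subgroupOf.1 ha) _ n.2, mul_inv_cancel_right])
    rwa [e]⟩
  have hcop : Nat.Coprime (Nat.card (A.subgroupOf N)) (A.subgroupOf N).index := by
    rw [hcA]; exact (Nat.coprime_two_left.2 hodd).pow_left k
  obtain ⟨H, hH⟩ := exists_right_complement'_of_coprime hcop
  have hcardH : Nat.card H = (A.subgroupOf N).index := by
    have h := hH.card_mul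
    rw [← (A.subgroupOf N).card_mul_index] at h
    exact Nat.eq_of_mul_eq_mul_left Nat.card_pos h
  haveI hHn : H.Normal := ⟨fun h hh y => by
    obtain ⟨⟨⟨p, hp⟩, ⟨h', hh'⟩⟩, rfl⟩ := hH.2 y
    show p * h' * h * (p * h')⁻¹ ∈ H
    have hc : ∀ x : N, x * p = p * x := fun x => Subtype.ext (hcent _ (mem_subgroupOf.1 hp) _ x.2)
    rw [show p * h' * h * (p * h')⁻¹ = p * (h' * h * h'⁻¹) * p⁻¹ by group, ← hc, mul_inv_cancel_right]
    exact mul_mem (mul_mem hh' hh) (inv_mem hh')⟩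
  have hchar : ∀ y : N, Odd (orderOf y) → y ∈ H := by
    intro y hy
    rw [← QuotientGroup.eq_one_iff, ← orderOf_eq_one_iff]
    have h1 : orderOf (y : N ⧸ H) ∣ orderOf y := orderOf_map_dvd (QuotientGroup.mk' H) y
    have h2 : orderOf (y : N ⧸ H) ∣ 2 ^ k := by
      refine dvd_trans (orderOf_dvd_natCard _) (dvd_of_eq ?_)
      rw [← index_eq_card, hH.index_eq_card, hcA]
    exact Nat.eq_one_of_dvd_coprimes ((Nat.coprime_two_left.2 hy).pow_left k) h2 h1
  have hoH : Odd (Nat.card H) := hcardH ▸ hodd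
  have hmapn : (H.map N.subtype).Normal := ⟨by
    rintro _ ⟨h, hh, rfl⟩ g
    refine ⟨⟨g * (h : L) * g⁻¹, (inferInstance : N.Normal).conj_mem _ h.2 g⟩, hchar _ ?_, rfl⟩
    rw [← Subgroup.orderOf_coe, orderOf_conj, Subgroup.orderOf_coe]
    exact hoH.of_dvd_nat (Subgroup.orderOf_dvd_natCard H hh)⟩
  have hHbot : H = ⊥ := by
    have h1 := CfsgLib.ZStar.le_oddCore hmapn (by rwa [card_map_of_injective N.subtype_injective])
    rw [hO, le_bot_iff, map_eq_bot_iff_of_injective _ N.subtype_injective] at h1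
    exact h1
  intro x hx
  obtain ⟨⟨⟨p, hp⟩, ⟨h', hh'⟩⟩, e⟩ := hH.2 (⟨x, hx⟩ : N)
  obtain rfl : h' = 1 := by rw [← mem_bot, ← hHbot]; exact hh'
  rw [show x = (p : L) by simpa using (congrArg Subtype.val e).symm]
  exact mem_subgroupOf.1 hp

/-- A 2-group with one involution containing two non-commuting elements of order four that are central modulo
`⟨z⟩` consists of the products of those elements and `z`. -/
theorem mem_of_quaternion_pair {L : Type*} [Group L] [Finite L] {M : Subgroup L} (hM : IsPGroup 2 M) {z u v : L}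
    (hz : z * z = 1) (hzc : ∀ g : L, g * z = z * g) (huM : u ∈ M) (hvM : v ∈ M) (hu : u * u = z)
    (hvu : v * u = u * v * z) (huniq : ∀ e ∈ M, e * e = 1 → e = 1 ∨ e = z) {s : L} (hs : s ∈ M)
    (hsu : s * u = u * s ∨ s * u = u * s * z) (hsv : s * v = v * s ∨ s * v = v * s * z) :
    ∃ e : L, (e = 1 ∨ e = z) ∧ (s = e ∨ s = u * e ∨ s = v * e ∨ s = u * v * e) := by
  have huv : u * v = v * u * z := by rw [hvu, mul_assoc, hz, mul_one]
  have hvu1 : v * u ≠ u * v ∨ z = 1 := by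
    by_cases h : z = 1
    · exact Or.inr h
    · exact Or.inl fun e => h (mul_eq_left.1 (hvu.symm.trans e))
  -- an element commuting with both is a power of `z`
  have key : ∀ t ∈ M, t * u = u * t → t * v = v * t → t = 1 ∨ t = z := by
    intro t ht htu htv
    obtain ⟨k, hk⟩ := hM ⟨t, ht⟩
    have hk' : t ^ 2 ^ k = 1 := congrArg Subtype.val hk
    clear hk
    induction k generalizing t with
    | zero => rw [pow_zero, pow_one] at hk'; exact Or.inl hk'
    | succ k ih =>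
      have hu' : Commute t u := htu
      have hv' : Commute t v := htv
      rcases ih (t * t) (mul_mem ht ht) (hu'.mul_left hu').eq (hv'.mul_left hv').eq
        (by rw [← pow_two, ← pow_mul, ← pow_succ', hk']) with h | h
      · exact huniq t ht h
      · -- then `t` differs from `u` by an involution
        have h1 : t * u⁻¹ * (t * u⁻¹) = 1 := by
          calc t * u⁻¹ * (t * u⁻¹) = t * (u⁻¹ * t) * u⁻¹ := by group
            _ = t * (t * u⁻¹) * u⁻¹ := by rw [(hu'.inv_right).eq]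
            _ = t * t * (u * u)⁻¹ := by group
            _ = 1 := by rw [h, hu, mul_inv_cancel]
        rcases hvu1 with hne | hz1
        · exfalso
          refine hne ?_
          rcases huniq _ (mul_mem ht (inv_mem huM)) h1 with e | e
          · rw [← mul_inv_eq_one.1 e]; exact hv'.eq.symm
          · have e' : u = z⁻¹ * t := by rw [← e]; group
            rw [e']
            calc v * (z⁻¹ * t) = v * z⁻¹ * t := by group
              _ = z⁻¹ * (v * t) := by rw [((show Commute v z from hzc v).inv_right).eq]; group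
              _ = z⁻¹ * (t * v) := by rw [hv'.eq]
              _ = z⁻¹ * t * v := by group
        · exact huniq t ht (h.trans hz1)
  have hu2 : u * u⁻¹ = 1 := mul_inv_cancel u
  have mzu : z * u = u * z := (hzc u).symm
  have mzv : z * v = v * z := (hzc v).symm
  -- adjust
  have conj_u : ∀ {t : L}, (t * u = u * t * z) → (v⁻¹ * t) * u = u * (v⁻¹ * t) := by
    intro t h
    have e : v⁻¹ * u = u * v⁻¹ * z⁻¹ := by
      calc v⁻¹ * u = v⁻¹ * (u * v * z) * z⁻¹ * v⁻¹ := by group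
        _ = v⁻¹ * (v * u) * z⁻¹ * v⁻¹ := by rw [← hvu]
        _ = u * (z⁻¹ * v⁻¹) := by group
        _ = u * (v⁻¹ * z⁻¹) := by rw [((show Commute v z from hzc v).inv_inv).eq]
        _ = _ := by group
    calc v⁻¹ * t * u = v⁻¹ * u * (t * z) := by rw [mul_assoc, h]; group
      _ = u * v⁻¹ * (z⁻¹ * (t * z)) := by rw [e]; group
      _ = _ := by rw [hzc t, inv_mul_cancel_left]; group
  have conj_v : ∀ {t : L}, (t * v = v * t * z) → (u⁻¹ * t) * v = v * (u⁻¹ * t) := by
    intro t h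
    have e : u⁻¹ * v = v * u⁻¹ * z⁻¹ := by
      calc u⁻¹ * v = u⁻¹ * (v * u * z) * z⁻¹ * u⁻¹ := by group
        _ = u⁻¹ * (u * v) * z⁻¹ * u⁻¹ := by rw [← huv]
        _ = v * (z⁻¹ * u⁻¹) := by group
        _ = v * (u⁻¹ * z⁻¹) := by rw [((show Commute u z from hzc u).inv_inv).eq]
        _ = _ := by group
    calc u⁻¹ * t * v = u⁻¹ * v * (t * z) := by rw [mul_assoc, h]; group
      _ = v * u⁻¹ * (z⁻¹ * (t * z)) := by rw [e]; group
      _ = _ := by rw [hzc t, inv_mul_cancel_left]; group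
  have keep_u : ∀ {t : L}, t * u = u * t → (u⁻¹ * t) * u = u * (u⁻¹ * t) := fun h => by
    rw [mul_assoc, h]; group
  have keep_v : ∀ {t : L}, t * v = v * t → (v⁻¹ * t) * v = v * (v⁻¹ * t) := fun h => by
    rw [mul_assoc, h]; group
  rcases hsu with hsu | hsu
  · rcases hsv with hsv | hsv
    · exact ⟨s, key s hs hsu hsv, Or.inl rfl⟩
    · exact ⟨u⁻¹ * s, key _ (mul_mem (inv_mem huM) hs) (keep_u hsu) (conj_v hsv), Or.inr (Or.inl (by group))⟩
  · rcases hsv with hsv | hsv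
    · exact ⟨v⁻¹ * s, key _ (mul_mem (inv_mem hvM) hs) (conj_u hsu) (keep_v hsv),
        Or.inr (Or.inr (Or.inl (by group)))⟩
    · set t := v⁻¹ * s with ht
      have h2 : t * v = v * t * z := by
        rw [ht, mul_assoc v⁻¹ s v, hsv]; group
      refine ⟨z * (u⁻¹ * t), ?_, Or.inr (Or.inr (Or.inr ?_))⟩
      · rcases key _ (mul_mem (inv_mem huM) (mul_mem (inv_mem hvM) hs)) (keep_u (conj_u hsu)) (conj_v h2) with e | e
        · exact Or.inr (by rw [e, mul_one])
        · exact Or.inl (by rw [e, hz])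
      · rw [← mul_assoc, ← hvu, ht]; group

variable {G : Type u} [Group G] [Finite G]

/-- The preimage of the centraliser. -/
abbrev Hc (c : Q G) : Subgroup G := (centralizer ({c} : Set (Q G))).comap pr

/-- Its quotient by the odd core. -/
abbrev Lc (c : Q G) := ↥(Hc c) ⧸ Cfsg.oddCore ↥(Hc c)

/-- The projection. -/
abbrev phi (c : Q G) : Hc c →* Lc c := QuotientGroup.mk' _

/-- The odd core, in `G`. -/
abbrev Oc (c : Q G) : Subgroup G := (Cfsg.oddCore ↥(Hc c)).map (Hc c).subtype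

theorem mem_Hc {c : Q G} {g : G} : g ∈ Hc c ↔ pr g * c = c * pr g := mem_centralizer_singleton_iff

theorem mem_Hc_of_Ee {c : Q G} {S : Sylow 2 G} (hS : c ∈ Spt S) {a : G} (ha : pr a ∈ Ee S) : a ∈ Hc c :=
  mem_Hc.2 (Ee_central ha c hS).symm

theorem Oc_le {c : Q G} {o : G} (ho : o ∈ Oc c) : o ∈ Hc c := by
  obtain ⟨o', -, rfl⟩ := ho; exact o'.2

theorem phi_Oc {c : Q G} {o : G} (ho : o ∈ Oc c) : phi c ⟨o, Oc_le ho⟩ = 1 := by
  obtain ⟨o', h, rfl⟩ := ho; exact (QuotientGroup.eq_one_iff _).2 h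

theorem mem_Oc {c : Q G} {o : Hc c} (h : phi c o = 1) : (o : G) ∈ Oc c :=
  ⟨o, (QuotientGroup.eq_one_iff _).1 h, rfl⟩

theorem pCore_le_Hc (c : Q G) : Cfsg.pCore 2 G ≤ Hc c := fun p hp =>
  mem_Hc.2 (by rw [pr_eq_one_iff.2 hp, one_mul, mul_one])

namespace Central

variable (hC : Central G) {S T U : Sylow 2 G} {c : Q G} {z : G}
include hC

theorem four_inf (hS : c ∈ Spt S) (hD : ∃ S T : Sylow 2 G, S ≠ T ∧ Spt S ⊓ Spt T ≠ ⊥) :
    Four ((S : Subgroup G) ⊓ Hc c) := by
  obtain ⟨z, hz, hz2⟩ := hC.exists_z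
  obtain ⟨x, hx⟩ := hC.exists_X1 hD S
  obtain ⟨a, ha, rfl, h1⟩ := id hx.1
  exact ⟨z, ⟨HallGen.pCore_le_sylow S hz, pCore_le_Hc c hz⟩, a,
    ⟨mem_Spt.1 hx.2.1, mem_Hc_of_Ee hS (subset_closure hx)⟩, hz2, ha,
    fun e => h1 (pr_eq_one_iff.2 (e ▸ hz)), (hC.comm_core hz a).symm⟩

/-- The Sylow subgroup of the centraliser at a point. -/
noncomputable def sylH (hS : c ∈ Spt S) (hD : ∃ S T : Sylow 2 G, S ≠ T ∧ Spt S ⊓ Spt T ≠ ⊥) : Sylow 2 (Hc c) :=
  (hC.small.exists_sylow_inf (hC.four_inf hS hD)).choose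

theorem coe_sylH (hS : c ∈ Spt S) (hD : ∃ S T : Sylow 2 G, S ≠ T ∧ Spt S ⊓ Spt T ≠ ⊥) :
    (hC.sylH hS hD : Subgroup (Hc c)) = (S : Subgroup G).subgroupOf (Hc c) :=
  (hC.small.exists_sylow_inf (hC.four_inf hS hD)).choose_spec

theorem mem_Spt_conj {h : G} (hh : h ∈ Hc c) (hS : c ∈ Spt S) : c ∈ Spt (h • S) := by
  have := pr_conj_mem_Spt (g := h) hS
  rwa [mem_Hc.1 hh, mul_inv_cancel_right] at this

/-- The image of a point in the local quotient. -/
noncomputable def img (hS : c ∈ Spt S) (hD : ∃ S T : Sylow 2 G, S ≠ T ∧ Spt S ⊓ Spt T ≠ ⊥) : Sylow 2 (Lc c) :=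
  (hC.sylH hS hD).mapSurjective (QuotientGroup.mk'_surjective _)

variable (hD : ∃ S T : Sylow 2 G, S ≠ T ∧ Spt S ⊓ Spt T ≠ ⊥)
include hD

theorem mem_img_iff (hS : c ∈ Spt S) {y : Lc c} :
    y ∈ (hC.img hS hD : Subgroup (Lc c)) ↔ ∃ s : Hc c, (s : G) ∈ (S : Subgroup G) ∧ phi c s = y := by
  rw [img, Sylow.coe_mapSurjective, mem_map, coe_sylH]
  simp only [mem_subgroupOf]

theorem phi_mem_img (hS : c ∈ Spt S) {s : Hc c} (hs : (s : G) ∈ (S : Subgroup G)) :
    phi c s ∈ (hC.img hS hD : Subgroup (Lc c)) := (hC.mem_img_iff hD hS).2 ⟨s, hs, rfl⟩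

/-- A 2-element mapped into the image lies in a translate by the odd core. -/
theorem exists_smul_mem (hS : c ∈ Spt S) {s : Hc c} (hs2 : ∃ k : ℕ, s ^ 2 ^ k = 1)
    (h : phi c s ∈ (hC.img hS hD : Subgroup (Lc c))) : ∃ o ∈ Oc c, (s : G) ∈ ((o • S : Sylow 2 G) : Subgroup G) := by
  haveI := Fact.mk Nat.prime_two
  set M := (hC.img hS hD : Subgroup (Lc c)).comap (phi c) with hM
  have hR : (hC.sylH hS hD : Subgroup (Hc c)) ≤ M := fun r hr =>
    hC.phi_mem_img hD hS (mem_subgroupOf.1 ((hC.coe_sylH hS hD).le hr))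
  obtain ⟨k, hk⟩ := hs2
  obtain ⟨i, -, hi⟩ := (Nat.dvd_prime_pow Nat.prime_two).1 (orderOf_dvd_of_pow_eq_one hk)
  have hp : IsPGroup 2 ((zpowers s).subgroupOf M) :=
    (IsPGroup.of_card (p := 2) (n := i) (G := zpowers s) (by rw [Nat.card_zpowers, hi])).comap_of_injective
      M.subtype M.subtype_injective
  obtain ⟨A, hA⟩ := hp.exists_le_sylow
  obtain ⟨m, hm⟩ := MulAction.exists_smul_eq M ((hC.sylH hS hD).subtype hR) A
  have hsA : (⟨s, h⟩ : M) ∈ (A : Subgroup M) := hA (mem_subgroupOf.2 (mem_zpowers s))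
  rw [← hm, mem_smul_iff, Sylow.coe_subtype, mem_subgroupOf] at hsA
  have hsS := mem_subgroupOf.1 ((hC.coe_sylH hS hD).le hsA)
  simp only [Subgroup.coe_mul, InvMemClass.coe_inv] at hsS
  obtain ⟨r, hr, hre⟩ := (hC.mem_img_iff hD hS).1 m.2
  have ho : phi c ((m : Hc c) * r⁻¹) = 1 := by rw [map_mul, map_inv, hre, mul_inv_cancel]
  refine ⟨_, mem_Oc ho, ?_⟩
  have e : ((((m : Hc c) * r⁻¹ : Hc c) : G)) • S = ((m : Hc c) : G) • S := by
    rw [Subgroup.coe_mul, InvMemClass.coe_inv, mul_smul, inv_smul_eq_iff.2 (smul_sylow_of_mem hr).symm]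
  rw [e, mem_smul_iff]
  exact hsS

theorem img_smul (hS : c ∈ Spt S) {h : Hc c} (hS' : c ∈ Spt ((h : G) • S)) :
    hC.img hS' hD = phi c h • hC.img hS hD := by
  refine Sylow.ext (Subgroup.ext fun y => ?_)
  rw [mem_smul_iff, hC.mem_img_iff, hC.mem_img_iff]
  constructor
  · rintro ⟨s, hs, rfl⟩
    exact ⟨h⁻¹ * s * h, by simpa using mem_smul_iff.1 hs, by rw [map_mul, map_mul, map_inv]⟩
  · rintro ⟨s, hs, he⟩
    refine ⟨h * s * h⁻¹, by simpa [mul_assoc] using conj_mem_smul (g := (h : G)) hs, ?_⟩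
    rw [map_mul, map_mul, map_inv, he]; group

theorem img_smul_Oc (hS : c ∈ Spt S) {o : G} (ho : o ∈ Oc c) (hT : c ∈ Spt T) (e : o • S = T) :
    hC.img hT hD = hC.img hS hD := by
  subst e
  rw [hC.img_smul hD hS (h := ⟨o, Oc_le ho⟩) hT, phi_Oc ho, one_smul]

theorem lift_facts (hS : c ∈ Spt S) {a : G} (ha : pr a ∈ X1 S) :
    a ∈ Hc c ∧ a ∈ (S : Subgroup G) := ⟨mem_Hc_of_Ee hS (subset_closure ha), mem_Spt.1 ha.2.1⟩

theorem two_power_of_mem {a : G} (ha : a ∈ (S : Subgroup G)) (haH : a ∈ Hc c) :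
    ∃ k : ℕ, (⟨a, haH⟩ : Hc c) ^ 2 ^ k = 1 := by
  obtain ⟨k, hk⟩ := S.isPGroup' ⟨a, ha⟩
  exact ⟨k, Subtype.ext (congrArg Subtype.val hk :)⟩

/-- An element of the first kind of `S` mapped into the image of `T` makes the images equal. -/
theorem img_eq_of_mem (hS : c ∈ Spt S) (hT : c ∈ Spt T) {a : Hc c} (ha : pr (a : G) ∈ X1 S)
    (h : phi c a ∈ (hC.img hT hD : Subgroup (Lc c))) : ∃ o ∈ Oc c, o • T = S := by
  obtain ⟨o, ho, hmem⟩ := hC.exists_smul_mem hD hT (hC.two_power_of_mem hD (hC.lift_facts hD hS ha).2 a.2) h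
  exact ⟨o, ho, hC.single ha.1 (mem_Spt.2 hmem) ha.2.1⟩

theorem img_eq (hS : c ∈ Spt S) (hT : c ∈ Spt T) (h : hC.img hT hD = hC.img hS hD) :
    ∃ o ∈ Oc c, o • S = T := by
  obtain ⟨x, hx⟩ := hC.exists_X1 hD T
  obtain ⟨a, rfl⟩ := pr_surjective x
  obtain ⟨haH, haT⟩ := hC.lift_facts hD hT hx
  exact hC.img_eq_of_mem hD hT hS (a := ⟨a, haH⟩) hx (h ▸ hC.phi_mem_img hD hT haT)

theorem img_surjective (hS : c ∈ Spt S) (A : Sylow 2 (Lc c)) :
    ∃ (T : Sylow 2 G) (hT : c ∈ Spt T), hC.img hT hD = A := by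
  haveI := Fact.mk Nat.prime_two
  obtain ⟨h, rfl⟩ := MulAction.exists_smul_eq (Lc c) (hC.img hS hD) A
  obtain ⟨h, rfl⟩ := QuotientGroup.mk'_surjective _ h
  exact ⟨_, hC.mem_Spt_conj h.2 hS, hC.img_smul hD hS _⟩

/-- An element fixing an image comes from one fixing the point. -/
theorem exists_lift (hS : c ∈ Spt S) {g : Lc c} (hg : g • hC.img hS hD = hC.img hS hD) :
    ∃ g' : Hc c, (g' : G) • S = S ∧ phi c g' = g := by
  obtain ⟨h, rfl⟩ := QuotientGroup.mk'_surjective _ g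
  have hh := hC.mem_Spt_conj h.2 hS
  obtain ⟨o, ho, e⟩ := hC.img_eq hD hS hh (by rw [hC.img_smul hD hS hh, hg])
  refine ⟨⟨o, Oc_le ho⟩⁻¹ * h, ?_, ?_⟩
  · rw [Subgroup.coe_mul, InvMemClass.coe_inv, mul_smul, ← e, inv_smul_smul]
  · rw [map_mul, map_inv, phi_Oc ho, inv_one, one_mul]

theorem phi_injOn {s : Hc c} (hs : (s : G) ∈ (S : Subgroup G)) (h : phi c s = 1) : s = 1 := by
  obtain ⟨k, hk⟩ := hC.two_power_of_mem hD hs s.2
  exact orderOf_eq_one_iff.1 (Nat.eq_one_of_dvd_coprimes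
    ((Nat.coprime_two_left.2 (CfsgLib.ZStar.odd_card_oddCore (Hc c))).pow_left k) (orderOf_dvd_of_pow_eq_one hk)
    (Subgroup.orderOf_dvd_natCard (Cfsg.oddCore (Hc c)) ((QuotientGroup.eq_one_iff s).1 h)))

theorem phi_inj {s t : Hc c} (hs : (s : G) ∈ (S : Subgroup G)) (ht : (t : G) ∈ (S : Subgroup G))
    (h : phi c s = phi c t) : s = t :=
  inv_mul_eq_one.1 (hC.phi_injOn hD (s := s⁻¹ * t) (mul_mem (inv_mem hs) ht)
    (by rw [map_mul, map_inv, h, inv_mul_cancel]))

/-- The odd core moves only exceptional points. -/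
theorem smul_or_except (hS : c ∈ Spt S) {o : G} (ho : o ∈ Oc c) :
    o • S = S ∨ ∃ x y w, Except S x y w ∧ x * y ∈ Spt (o • S) ∧ x * w ∈ Spt (o • S) ∧ y * w ∈ Spt (o • S) := by
  haveI := Fact.mk Nat.prime_two
  set X := (Oc c).map (pr : G →* Q G) with hX
  have hXodd : ¬ 2 ∣ Nat.card X := by
    rw [← even_iff_two_dvd, Nat.not_even_iff_odd]
    refine (CfsgLib.ZStar.odd_card_oddCore (Hc c)).of_dvd_nat ((Subgroup.card_map_dvd _ _).trans ?_)
    exact Subgroup.card_map_dvd _ _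
  have hnorm : Ee S ≤ normalizer (X : Set (Q G)) := by
    intro e he
    obtain ⟨a, rfl⟩ := pr_surjective e
    have haH := mem_Hc_of_Ee hS he
    refine Bender.mem_normalizer_of_map_conj_eq (eq_of_le_of_card_ge ?_ ?_)
    · rintro _ ⟨_, ⟨b, ⟨b', hb', rfl⟩, rfl⟩, rfl⟩
      exact ⟨a * (b' : G) * a⁻¹, ⟨⟨a, haH⟩ * b' * ⟨a, haH⟩⁻¹,
        (inferInstance : (Cfsg.oddCore (Hc c)).Normal).conj_mem b' hb' _, rfl⟩, by simp⟩
    · exact le_of_eq (Nat.card_congr (X.equivMapOfInjective _ (MulAut.conj (pr a)).injective).toEquiv)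
  have hfixstab : ∀ k : Q G, (∃ x ∈ X1 S, k * x = x * k) → ∃ g : G, pr g = k ∧ g • S = S := by
    rintro k ⟨x, hx, hk⟩
    obtain ⟨g, rfl⟩ := pr_surjective k
    exact ⟨g, rfl, hC.smul_eq_of_commute hx.1 hx.2.1 hk⟩
  by_cases hex : ∃ x y w, Except S x y w
  · right
    obtain ⟨x, y, w, hE⟩ := hex
    set B := closure ({x * y, x * w, y * w} : Set (Q G)) with hB
    have hBS : B ≤ Spt S := (closure_le _).2 (by
      rintro e (rfl | rfl | rfl)
      exacts [mul_mem hE.hx.2.1 hE.hy.2.1, mul_mem hE.hx.2.1 hE.hw.2.1, mul_mem hE.hy.2.1 hE.hw.2.1])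
    have hpair : ∀ a ∈ X1 S, ∀ b ∈ X1 S, a * b ∈ B := by
      intro a ha b hb
      have hxy : x * y ∈ B := subset_closure (by simp)
      have hxw : x * w ∈ B := subset_closure (by simp)
      have hyw : y * w ∈ B := subset_closure (by simp)
      rcases hE.only a ha with rfl | rfl | rfl <;> rcases hE.only b hb with rfl | rfl | rfl
      exacts [ha.1.sq ▸ one_mem _, hxy, hxw, X1_mul_comm hb ha ▸ hxy, ha.1.sq ▸ one_mem _, hyw,
        X1_mul_comm hb ha ▸ hxw, X1_mul_comm hb ha ▸ hyw, ha.1.sq ▸ one_mem _]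
    have hBinv : ∀ k : Q G, (∃ g : G, pr g = k ∧ g • S = S) → k ∈ normalizer (B : Set (Q G)) := by
      rintro _ ⟨g, rfl, hg⟩
      refine Bender.mem_normalizer_of_map_conj_eq (eq_of_le_of_card_ge ?_ ?_)
      · rw [hB, MonoidHom.map_closure, closure_le]
        rintro _ ⟨e, he, rfl⟩
        show pr g * e * (pr g)⁻¹ ∈ B
        have key : ∀ a ∈ X1 S, ∀ b ∈ X1 S, pr g * (a * b) * (pr g)⁻¹ ∈ B := fun a ha b hb => by
          rw [show pr g * (a * b) * (pr g)⁻¹ = (pr g * a * (pr g)⁻¹) * (pr g * b * (pr g)⁻¹) by group]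
          exact hpair _ (X1_conj hg ha) _ (X1_conj hg hb)
        rcases he with rfl | rfl | rfl
        exacts [key x hE.hx y hE.hy, key x hE.hx w hE.hw, key y hE.hy w hE.hw]
      · rw [card_map_of_injective (MulAut.conj (pr g)).injective]
    have hall : X ≤ normalizer (B : Set (Q G)) := by
      refine CfsgLib.Signalizer.le_of_hyperplanes_le (Ee_elementary S) hXodd hnorm fun A hA hidx => ?_
      intro k hk
      by_cases hmeet : ∃ x ∈ X1 S, x ∈ A
      · obtain ⟨a, ha, haA⟩ := hmeet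
        exact hBinv k (hfixstab k ⟨a, ha, (mem_centralizer_iff.1 hk.2 a haA).symm⟩)
      · push Not at hmeet
        obtain ⟨x', y', w', hE', hmem⟩ := hC.hyperplane hD S hA hidx hmeet
        have hsub : B ≤ A := (closure_le _).2 (by
          have h2 : ∀ a ∈ X1 S, ∀ b ∈ X1 S, a * b ∈ A := fun a ha b hb => by
            rcases hE'.only a ha with rfl | rfl | rfl <;> rcases hE'.only b hb with rfl | rfl | rfl <;>
              rw [hmem] <;>
              simp [ha.1.sq, X1_mul_comm hE'.hx hE'.hy, X1_mul_comm hE'.hx hE'.hw, X1_mul_comm hE'.hy hE'.hw]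
          rintro e (rfl | rfl | rfl)
          exacts [h2 x hE.hx y hE.hy, h2 x hE.hx w hE.hw, h2 y hE.hy w hE.hw])
        exact mem_normalizer_iff.2 fun e => by
          constructor
          · intro he
            rwa [(mem_centralizer_iff.1 hk.2 e (hsub he)).symm, mul_inv_cancel_right]
          · intro he
            have h1 := mem_centralizer_iff.1 hk.2 _ (hsub he)
            rw [inv_mul_cancel_right] at h1
            rwa [show e = k * e * k⁻¹ from (mul_left_cancel h1.symm).symm]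
    have hon : pr o ∈ normalizer (B : Set (Q G)) := hall ⟨o, ho, rfl⟩
    have key : ∀ e ∈ B, e ∈ Spt (o • S) := fun e he => by
      have h1 := (mem_normalizer_iff''.1 hon e).1 he
      have h2 := pr_conj_mem_Spt (g := o) (hBS h1)
      rwa [show pr o * ((pr o)⁻¹ * e * pr o) * (pr o)⁻¹ = e by group] at h2
    exact ⟨x, y, w, hE, key _ (subset_closure (by simp)), key _ (subset_closure (by simp)),
      key _ (subset_closure (by simp))⟩
  · left
    have hall : X ≤ (MulAction.stabilizer G S).map (pr : G →* Q G) := by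
      refine CfsgLib.Signalizer.le_of_hyperplanes_le (Ee_elementary S) hXodd hnorm fun A hA hidx => ?_
      intro k hk
      by_cases hmeet : ∃ x ∈ X1 S, x ∈ A
      · obtain ⟨a, ha, haA⟩ := hmeet
        obtain ⟨g, hg, hgS⟩ := hfixstab k ⟨a, ha, (mem_centralizer_iff.1 hk.2 a haA).symm⟩
        exact ⟨g, hgS, hg⟩
      · push Not at hmeet
        obtain ⟨x', y', w', hE', -⟩ := hC.hyperplane hD S hA hidx hmeet
        exact absurd ⟨x', y', w', hE'⟩ hex
    obtain ⟨g, hg, hgo⟩ := hall ⟨o, ho, rfl⟩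
    have hp := pr_eq_iff.1 hgo
    rw [show o = g * (g⁻¹ * o) by group, mul_smul, smul_sylow_of_mem (HallGen.pCore_le_sylow S hp)]
    exact hg

end Central

end CfsgLib.RankOneInter
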