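import Cfsg.Agent.Lib.Invol.RankOneInter.Defs

/-!
Owner: helper5. The interfaces inside Theorem B of S3310.

* `BelowB n`: Theorem B below order `n`.
* `CentralCase`: the case of a cyclic central `O₂(G)` in more than one Sylow 2-subgroup.
* `LocalData`: what induction gives on the centraliser of a multi involution, modulo its odd core.
* `GridData`: the input of case (b).
-/

set_option autoImplicit false

namespace CfsgLib.RankOneInter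

open Subgroup

universe u

/-- Theorem B for the groups of order less than `n`. -/
def BelowB (n : ℕ) : Prop :=
  ∀ (H : Type u) [Group H] [Finite H], Nat.card H < n → SmallMeet H → Cfsg.oddCore H = ⊥ →
    ∀ z : H, orderOf z = 2 → (∀ h : H, h * z = z * h) → (∃ x : H, orderOf x = 2 ∧ x ≠ z) → TIMod H ∨ Grid H

/-- The hypotheses of the central case. -/
structure Central (G : Type u) [Group G] [Finite G] : Prop where
  small : SmallMeet G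
  odd : Cfsg.oddCore G = ⊥
  center : Cfsg.pCore 2 G ≤ Subgroup.center G
  cyclic : IsCyclic ↥(Cfsg.pCore 2 G)
  rank : ∃ z x : G, z ∈ Cfsg.pCore 2 G ∧ orderOf z = 2 ∧ orderOf x = 2 ∧ x ≠ z
  two : ∃ S T : Sylow 2 G, S ≠ T
  below : BelowB.{u} (Nat.card G)

/-- The central case of Theorem B. -/
def CentralCase : Prop :=
  ∀ (G : Type u) [Group G] [Finite G], Central G → TIMod G ∨ Grid G

/-- The facts on a group whose Sylow 2-subgroups meet in `Δ = O₂`, seen from two of them: `J` is the part of the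
preimage of the involutions of `S / Δ` moved by the torus `g`. -/
structure LocalData {H : Type u} [Group H] [Finite H] (z : H) (q : ℕ) (S T : Sylow 2 H) (g : H) (J : Subgroup H) :
    Prop where
  le : J ≤ (S : Subgroup H)
  z_mem : ∀ j ∈ J, j ∈ Cfsg.pCore 2 H → j = 1 ∨ j = z
  cent : ∀ j ∈ J, ∀ d ∈ Cfsg.pCore 2 H, j * d = d * j
  inner : ∀ s ∈ (S : Subgroup H), ∃ d ∈ Cfsg.pCore 2 H, ∀ e ∈ Cfsg.pCore 2 H, d⁻¹ * s * e = e * (d⁻¹ * s)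
  sq_iff : ∀ s ∈ (S : Subgroup H), s * s ∈ Cfsg.pCore 2 H ↔ ∃ j ∈ J, ∃ d ∈ Cfsg.pCore 2 H, s = j * d
  kind : ((∀ j ∈ J, j * j = 1) ∧ Nat.card J = q ∧ J ⊓ Cfsg.pCore 2 H = ⊥) ∨
    (q = 4 ∧ Nat.card J = 8 ∧ ∀ j ∈ J, j ≠ 1 → j ≠ z → j * j = z)
  comm : ∀ s ∈ (S : Subgroup H), ∀ t ∈ (S : Subgroup H), ∃ j ∈ J, ∃ d ∈ Cfsg.pCore 2 H, s * t * s⁻¹ * t⁻¹ = j * d
  abel : (∀ s ∈ (S : Subgroup H), ∀ t ∈ (S : Subgroup H), s * t * s⁻¹ * t⁻¹ ∈ Cfsg.pCore 2 H) →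
    Nat.card (S : Subgroup H) = q * Nat.card ↥(Cfsg.pCore 2 H)
  trans : ∀ U : Sylow 2 H, U ≠ S → ∃ x ∈ (S : Subgroup H), x • T = U
  odd : Odd (orderOf g)
  fix_S : g • S = S
  fix_T : g • T = T
  g_cent : ∀ d ∈ Cfsg.pCore 2 H, g * d = d * g
  g_J : ∀ j ∈ J, g * j * g⁻¹ ∈ J
  g_trans : ∀ j ∈ J, ∀ j' ∈ J, j ∉ Cfsg.pCore 2 H → j' ∉ Cfsg.pCore 2 H →
    ∃ i : ℕ, (g ^ i * j * (g ^ i)⁻¹)⁻¹ * j' ∈ Cfsg.pCore 2 H
  g_fix : ∀ (i : ℕ) (s : H), s ∈ (S : Subgroup H) ∨ s ∈ (T : Subgroup H) → s * s ∈ Cfsg.pCore 2 H →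
    s ∉ Cfsg.pCore 2 H → (g ^ i * s * (g ^ i)⁻¹)⁻¹ * s ∈ Cfsg.pCore 2 H → ∀ j ∈ J, g ^ i * j = j * g ^ i
  g_third : ∀ (i : ℕ) (U : Sylow 2 H), U ≠ S → U ≠ T → g ^ i • U = U → ∀ j ∈ J, g ^ i * j = j * g ^ i

/-- The input of case (b): every Sylow subgroup is a central product of two quaternion groups of order eight,
each of which is an intersection. -/
structure GridData (G : Type u) [Group G] [Finite G] : Prop where
  central : Central G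
  card_core : Nat.card ↥(Cfsg.pCore 2 G) = 2
  sylow : ∀ S : Sylow 2 G, Nat.card (S : Subgroup G) = 32 ∧ ∃ A B : Subgroup G,
    Nat.card A = 8 ∧ Nat.card B = 8 ∧ A ≤ (S : Subgroup G) ∧ B ≤ (S : Subgroup G) ∧
    (∀ a ∈ A, ∀ b ∈ B, a * b = b * a) ∧ A ⊓ B = Cfsg.pCore 2 G ∧
    (∀ a ∈ A, a ∉ Cfsg.pCore 2 G → a * a ∈ Cfsg.pCore 2 G ∧ a * a ≠ 1) ∧
    (∀ b ∈ B, b ∉ Cfsg.pCore 2 G → b * b ∈ Cfsg.pCore 2 G ∧ b * b ≠ 1) ∧
    (∀ T : Sylow 2 G, T ≠ S → (S : Subgroup G) ⊓ (T : Subgroup G) = Cfsg.pCore 2 G ∨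
      (S : Subgroup G) ⊓ (T : Subgroup G) = A ∨ (S : Subgroup G) ⊓ (T : Subgroup G) = B) ∧
    (∃ T : Sylow 2 G, T ≠ S ∧ (S : Subgroup G) ⊓ (T : Subgroup G) = A) ∧
    ∃ T : Sylow 2 G, T ≠ S ∧ (S : Subgroup G) ⊓ (T : Subgroup G) = B

end CfsgLib.RankOneInter
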