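import Cfsg.Agent.Lib.Invol.RankOneInter.Central.NotGrid
import Cfsg.Agent.Lib.Invol.RankOneInter.TISingle
import Cfsg.Agent.Lib.Invol.RankOneInter.Central.Basic

/-!
Owner: helper16. Theorem B of S3310: the reduction to the central case.

* `Setup`: a group with trivial odd core, a central involution and two Sylow 2-subgroups.
* `Setup.core_case`: if the centraliser of `O₂` lies in it, the Sylow 2-subgroups meet in `O₂`.
* `Setup.ti_of_single_cent`: so they do if the involutions of the image of the centraliser are single.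
* `theoremB_of_central`: Theorem B from the central case.
-/

set_option autoImplicit false
set_option linter.style.haveILetI false
set_option linter.unusedSectionVars false

namespace CfsgLib.RankOneInter

open Subgroup
open CfsgLib.Signalizer (involution_sq involution_ne_one orderOf_eq_two_of orderOf_conj)

universe u

/-- A cyclic Sylow 2-subgroup with trivial odd core is everything. -/
theorem isPGroup_of_cyclic {C : Type u} [Group C] [Finite C] (hO : Cfsg.oddCore C = ⊥) (R : Sylow 2 C)
    (hR : IsCyclic (R : Subgroup C)) (heven : Even (Nat.card C)) : IsPGroup 2 C := by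
  haveI := Fact.mk Nat.prime_two
  have hmin : (Nat.card C).minFac = 2 := (Nat.minFac_eq_two_iff _).2 (even_iff_two_dvd.1 heven)
  have hcompl := MonoidHom.ker_transferSylow_isComplement' R (IsCyclic.normalizer_le_centralizer hmin hR)
  have hodd : Odd (Nat.card (MonoidHom.transferSylow R (IsCyclic.normalizer_le_centralizer hmin hR)).ker) := by
    have h := R.not_dvd_index
    rw [hcompl.index_eq_card] at h
    exact Nat.odd_iff.2 (Nat.two_dvd_ne_zero.1 h)
  have hker : (MonoidHom.transferSylow R (IsCyclic.normalizer_le_centralizer hmin hR)).ker = ⊥ :=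
    le_bot_iff.1 (hO ▸ CfsgLib.ZStar.le_oddCore inferInstance hodd)
  rw [hker] at hcompl
  exact R.isPGroup'.of_equiv ((MulEquiv.subgroupCongr (by simpa using hcompl.sup_eq_top)).trans topEquiv)

/-- The odd core of a normal subgroup is trivial if that of the group is. -/
theorem oddCore_normal_bot {H : Type u} [Group H] [Finite H] (hO : Cfsg.oddCore H = ⊥) (Y : Subgroup H) [Y.Normal] :
    Cfsg.oddCore Y = ⊥ := by
  haveI : (Cfsg.oddCore Y).Characteristic := CfsgLib.Core.characteristic_pPrimeCore 2 Y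
  have h1 : (Cfsg.oddCore Y).map Y.subtype ≤ Cfsg.oddCore H := CfsgLib.ZStar.le_oddCore inferInstance
    ((CfsgLib.ZStar.odd_card_oddCore Y).of_dvd_nat (Subgroup.card_map_dvd _ _))
  rw [hO, le_bot_iff, map_eq_bot_iff_of_injective _ Y.subtype_injective] at h1
  exact h1

/-- A group with trivial odd core, a central involution and two Sylow 2-subgroups. -/
structure Setup (H : Type u) [Group H] [Finite H] (z : H) : Prop where
  small : SmallMeet H
  odd : Cfsg.oddCore H = ⊥
  hz : orderOf z = 2
  hzc : ∀ h : H, h * z = z * h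
  two : ∃ S T : Sylow 2 H, S ≠ T

namespace Setup

variable {H : Type u} [Group H] [Finite H] {z : H} (h : Setup H z)
include h

theorem z_center : z ∈ center H := mem_center_iff.2 h.hzc

theorem z_core : z ∈ Cfsg.pCore 2 H := by
  haveI : (zpowers z).Normal := ⟨fun x hx g => by
    have hxc : x ∈ center H := zpowers_le.2 h.z_center hx
    rwa [mem_center_iff.1 hxc g, mul_inv_cancel_right]⟩
  exact CfsgLib.Core.le_pCore (IsPGroup.of_card (p := 2) (n := 1) (by rw [Nat.card_zpowers, h.hz, pow_one]))
    (mem_zpowers z)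

theorem core_invol {x : H} (hx : x ∈ Cfsg.pCore 2 H) (hxx : x * x = 1) : x = 1 ∨ x = z := by
  obtain ⟨S, T, hne⟩ := h.two
  by_cases h1 : x = 1
  · exact Or.inl h1
  · exact Or.inr (pCore_unique h.small hne h.hz h.z_center hx (orderOf_eq_two_of h1 hxx))

theorem core_uniq (x y : Cfsg.pCore 2 H) (hx : orderOf x = 2) (hy : orderOf y = 2) : x = y := by
  obtain ⟨S, T, hne⟩ := h.two
  exact Subtype.ext ((pCore_unique h.small hne h.hz h.z_center x.2 (by rw [Subgroup.orderOf_coe, hx])).trans
    (pCore_unique h.small hne h.hz h.z_center y.2 (by rw [Subgroup.orderOf_coe, hy])).symm)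

theorem not_isPGroup : ¬ IsPGroup 2 H := fun hp => by
  obtain ⟨S, T, hne⟩ := h.two
  exact hne (sylow_eq_of_isPGroup hp S T)

/-- If the centraliser of the core lies in it, the Sylow subgroups meet in it. -/
theorem core_case (hC : centralizer (Cfsg.pCore 2 H : Set H) ≤ Cfsg.pCore 2 H) : TIMod H := by
  classical
  haveI := Fact.mk Nat.prime_two
  set P := Cfsg.pCore 2 H with hP
  let f : H →* MulAut P := MulAut.conjNormal
  have hker : ∀ x, f x = 1 → x ∈ centralizer (P : Set H) := fun x hx => mem_centralizer_iff.2 fun p hp => by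
    have h := congrArg Subtype.val (DFunLike.congr_fun hx (⟨p, hp⟩ : P))
    simp only [f, MulAut.conjNormal_apply, MulAut.one_apply] at h
    exact (mul_inv_eq_iff_eq_mul.1 h).symm
  by_cases hq : Nonempty (P ≃* QuaternionGroup 2)
  · obtain ⟨e⟩ := hq
    have hk2 : Nat.card f.ker ≤ 2 := by
      have hZ : Nat.card {w : QuaternionGroup 2 // ∀ v, w * v = v * w} = 2 := by
        rw [Nat.card_eq_fintype_card]; decide
      rw [← hZ]
      refine Nat.card_le_card_of_injective (fun x => ⟨e ⟨x, hC (hker _ x.2)⟩, fun w => ?_⟩) ?_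
      · rw [← e.apply_symm_apply w, ← map_mul, ← map_mul]
        congr 1
        exact Subtype.ext (mem_centralizer_iff.1 (hker _ x.2) _ (e.symm w).2).symm
      · intro x y hxy
        exact Subtype.ext (congrArg Subtype.val (e.injective (congrArg Subtype.val hxy) :) :)
    haveI : Finite (MulAut P) := Finite.of_injective _ DFunLike.coe_injective
    have hcard : Nat.card H ≤ 48 := by
      rw [← f.ker.card_mul_index, index_ker]
      refine (Nat.mul_le_mul hk2 (le_trans (card_le_card_group f.range) ?_) : _ ≤ 2 * 24)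
      exact le_trans (le_of_eq (Nat.card_congr (MulAut.congr e).toEquiv)) CfsgLib.GLTwoThree.card_mulAut_le
    have hP8 : Nat.card P = 8 := by
      rw [Nat.card_congr e.toEquiv, Nat.card_eq_fintype_card, QuaternionGroup.card]
    intro S T hne
    have hidx : 3 ≤ (S : Subgroup H).index := by
      have h1 := S.not_dvd_index
      have h2 : (S : Subgroup H).index ≠ 1 := fun e1 => h.not_isPGroup
        (S.isPGroup'.of_equiv ((MulEquiv.subgroupCongr (index_eq_one.1 e1)).trans topEquiv))
      have h3 : (S : Subgroup H).index ≠ 0 := index_ne_zero_of_finite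
      omega
    have hS16 : Nat.card (S : Subgroup H) ≤ 16 := by
      obtain ⟨k, hk⟩ := S.isPGroup'.exists_card_eq
      have h6 := (S : Subgroup H).card_mul_index
      have h7 : Nat.card (S : Subgroup H) * 3 ≤ 48 := by
        calc _ ≤ Nat.card (S : Subgroup H) * (S : Subgroup H).index := Nat.mul_le_mul_left _ hidx
          _ ≤ 48 := h6 ▸ hcard
      omega
    have hPI : P ≤ (S : Subgroup H) ⊓ (T : Subgroup H) :=
      le_inf (CfsgLib.Core.pCore_le_sylow S) (CfsgLib.Core.pCore_le_sylow T)
    refine (eq_of_le_of_card_ge hPI ?_).symm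
    rw [hP8]
    obtain ⟨c, hc⟩ := card_dvd_of_le (inf_le_left : (S : Subgroup H) ⊓ (T : Subgroup H) ≤ S)
    rcases c with _ | _ | c
    · exact absurd hc (by simp [Nat.card_pos.ne'])
    · exfalso
      have e1 : (S : Subgroup H) ⊓ (T : Subgroup H) = S :=
        eq_of_le_of_card_ge inf_le_left (le_of_eq (by rw [hc, zero_add, mul_one]))
      exact hne (Sylow.ext (eq_of_le_of_card_ge (inf_eq_left.1 e1)
        (le_of_eq (by rw [S.card_eq_multiplicity, T.card_eq_multiplicity]))))
    · have h8 : Nat.card ↥((S : Subgroup H) ⊓ (T : Subgroup H)) * 2 ≤ 16 :=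
        le_trans (Nat.mul_le_mul_left _ (show 2 ≤ c + 1 + 1 by omega)) (hc ▸ hS16)
      omega
  · exfalso
    refine h.not_isPGroup fun x => ?_
    obtain ⟨k, m, hm, hkm⟩ := Nat.exists_eq_two_pow_mul_odd (orderOf_pos x).ne'
    have hxm : x ^ (2 ^ k) ∈ P := hC (hker _ (ZStar.mulAut_eq_one_of_not_q8
      (CfsgLib.Core.isPGroup_pCore 2 H) h.core_uniq hq hm (by
        rw [← map_pow, ← pow_mul, ← hkm, pow_orderOf_eq_one, map_one])))
    obtain ⟨j, hj⟩ := CfsgLib.Core.isPGroup_pCore 2 H ⟨_, hxm⟩
    refine ⟨k + j, ?_⟩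
    rw [pow_add, pow_mul]
    exact congrArg Subtype.val hj

/-- The odd core of the quotient meets the image of the centraliser trivially. -/
theorem cent_inf_core :
    (centralizer (Cfsg.pCore 2 H : Set H)).map (pr : H →* Q H) ⊓ Cfsg.oddCore (Q H) = ⊥ := by
  haveI := Fact.mk Nat.prime_two
  set P := Cfsg.pCore 2 H with hP
  set C := centralizer (P : Set H) with hC
  haveI : C.Normal := Subgroup.normal_centralizer
  set O := Cfsg.oddCore (Q H) with hOdef
  set Y := C ⊓ O.comap (pr : H →* Q H) with hY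
  haveI : Y.Normal := Subgroup.normal_inf_normal _ _
  have hSylY : ∀ R : Sylow 2 Y, ∀ r : Y, r ∈ (R : Subgroup Y) → (r : H) ∈ P := by
    intro R r hr
    obtain ⟨i, hi⟩ := IsPGroup.iff_orderOf.1 R.isPGroup' ⟨r, hr⟩
    rw [Subgroup.orderOf_mk, ← Subgroup.orderOf_coe] at hi
    refine pr_eq_one_iff.1 (orderOf_eq_one_iff.1 (Nat.eq_one_of_dvd_coprimes (Nat.Coprime.pow_left i ?_)
      (hi ▸ orderOf_map_dvd (pr : H →* Q H) (r : H)) (Subgroup.orderOf_dvd_natCard O r.2.2)))
    exact Nat.coprime_two_left.2 (CfsgLib.ZStar.odd_card_oddCore _)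
  obtain ⟨R⟩ := (inferInstance : Nonempty (Sylow 2 Y))
  have hRC : normalizer ((R : Subgroup Y) : Set Y) ≤ centralizer ((R : Subgroup Y) : Set Y) := fun v _ =>
    mem_centralizer_iff.2 fun r hr => Subtype.ext (mem_centralizer_iff.1 (v.2.1) (r : H) (hSylY R r hr))
  have hcompl := MonoidHom.ker_transferSylow_isComplement' R hRC
  have hodd : Odd (Nat.card (MonoidHom.transferSylow R hRC).ker) := by
    have h := R.not_dvd_index
    rw [hcompl.index_eq_card] at h
    exact Nat.odd_iff.2 (Nat.two_dvd_ne_zero.1 h)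
  have hker1 : (MonoidHom.transferSylow R hRC).ker = ⊥ :=
    le_bot_iff.1 (oddCore_normal_bot h.odd Y ▸ CfsgLib.ZStar.le_oddCore inferInstance hodd)
  rw [hker1] at hcompl
  have hR : (R : Subgroup Y) = ⊤ := by simpa using hcompl.sup_eq_top
  refine (eq_bot_iff_forall _).2 fun w hw => ?_
  obtain ⟨c, hc, rfl⟩ := hw.1
  exact pr_eq_one_iff.2 (hSylY R ⟨c, hc, hw.2⟩ (hR ▸ mem_top _))

/-- The image of the centraliser contains a four group unless it is trivial. -/
theorem four_or_le : centralizer (Cfsg.pCore 2 H : Set H) ≤ Cfsg.pCore 2 H ∨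
    ∃ A : Sylow 2 (Q H), Four ((A : Subgroup (Q H)) ⊓ (centralizer (Cfsg.pCore 2 H : Set H)).map pr) := by
  haveI := Fact.mk Nat.prime_two
  set P := Cfsg.pCore 2 H with hP
  set C := centralizer (P : Set H) with hC
  haveI hCn : C.Normal := Subgroup.normal_centralizer
  haveI : (C.map (pr : H →* Q H)).Normal := hCn.map _ pr_surjective
  refine or_iff_not_imp_right.2 fun hno => ?_
  push Not at hno
  by_cases heven : Odd (Nat.card (C.map (pr : H →* Q H)))
  · have hNO : C.map (pr : H →* Q H) ≤ Cfsg.oddCore (Q H) := CfsgLib.ZStar.le_oddCore inferInstance heven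
    intro c hc
    have h1 : pr c ∈ C.map (pr : H →* Q H) ⊓ Cfsg.oddCore (Q H) :=
      ⟨mem_map_of_mem _ hc, hNO (mem_map_of_mem _ hc)⟩
    rw [hC, h.cent_inf_core] at h1
    exact pr_eq_one_iff.1 (mem_bot.1 h1)
  rw [Nat.not_odd_iff_even] at heven
  obtain ⟨v, hvN, hv2⟩ := CfsgLib.Signalizer.exists_involution_of_even heven
  obtain ⟨A, hA⟩ := (IsPGroup.of_card (p := 2) (n := 1) (G := zpowers v)
    (by rw [Nat.card_zpowers, hv2, pow_one])).exists_le_sylow
  have hvA : v ∈ (A : Subgroup (Q H)) := hA (mem_zpowers v)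
  set W := (A : Subgroup (Q H)) ⊓ C.map (pr : H →* Q H) with hW
  -- one involution in the intersection
  have hone : ∀ w ∈ W, orderOf w = 2 → w = v := by
    intro w hw hw2
    by_contra hne
    haveI : Nontrivial W := ⟨⟨⟨v, hvA, hvN⟩, 1, fun e => involution_ne_one hv2 (congrArg Subtype.val e)⟩⟩
    have hWp : IsPGroup 2 W := A.isPGroup'.to_le inf_le_left
    haveI := hWp.center_nontrivial
    obtain ⟨k, hk⟩ := (hWp.to_subgroup (center W)).exists_card_eq
    have h2 : 2 ∣ Nat.card (center W) := by
      rw [hk]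
      rcases k with _ | k
      · exact absurd hk (by rw [pow_zero]; exact Finite.one_lt_card.ne')
      · exact dvd_pow_self 2 k.succ_ne_zero
    obtain ⟨⟨⟨c, hcW⟩, hcc⟩, hc2⟩ := exists_prime_orderOf_dvd_card' 2 h2
    rw [Subgroup.orderOf_mk, Subgroup.orderOf_mk] at hc2
    have hcomm : ∀ x ∈ W, x * c = c * x := fun x hx => congrArg Subtype.val (mem_center_iff.1 hcc ⟨x, hx⟩)
    by_cases hcw : c = w
    · exact hno A ⟨v, ⟨hvA, hvN⟩, w, hw, hv2, hw2, Ne.symm hne, hcw ▸ hcomm v ⟨hvA, hvN⟩⟩
    · exact hno A ⟨w, hw, c, hcW, hw2, hc2, Ne.symm hcw, hcomm w hw⟩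
  have hvc : ∀ g : Q H, g * v = v * g := by
    intro g
    have hv' := CfsgLib.ZStar.mem_oddCore_of_sylow A hv2 hvA (fun x hx => hone _
      ⟨hx, (inferInstance : (C.map (pr : H →* Q H)).Normal).conj_mem v hvN x⟩ (by rw [orderOf_conj, hv2])) g
    have hv'' : v * g * v⁻¹ * g⁻¹ ∈ C.map (pr : H →* Q H) ⊓ Cfsg.oddCore (Q H) := by
      refine ⟨?_, hv'⟩
      rw [show v * g * v⁻¹ * g⁻¹ = v * (g * v⁻¹ * g⁻¹) by group]
      exact mul_mem hvN ((inferInstance : (C.map (pr : H →* Q H)).Normal).conj_mem _ (inv_mem hvN) g)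
    rw [hC, h.cent_inf_core, mem_bot, mul_inv_eq_one, mul_inv_eq_iff_eq_mul] at hv''
    exact hv''.symm
  haveI : (zpowers v).Normal := ⟨fun x hx g => by
    have hxc : x ∈ center (Q H) := zpowers_le.2 (mem_center_iff.2 hvc) hx
    rwa [mem_center_iff.1 hxc g, mul_inv_cancel_right]⟩
  haveI : (C ⊓ (zpowers v).comap (pr : H →* Q H)).Normal := Subgroup.normal_inf_normal _ _
  have hM : IsPGroup 2 (C ⊓ (zpowers v).comap (pr : H →* Q H) : Subgroup H) := by
    rintro ⟨x, hx⟩
    obtain ⟨i, hi⟩ := mem_zpowers_iff.1 (mem_comap.1 hx.2)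
    have hxx : x * x ∈ P := pr_eq_one_iff.1 (by
      rw [map_mul, ← hi, ← zpow_add, ← two_mul, zpow_mul, zpow_two, involution_sq hv2, one_zpow])
    obtain ⟨j, hj⟩ := CfsgLib.Core.isPGroup_pCore 2 H ⟨_, hxx⟩
    refine ⟨1 + j, Subtype.ext ?_⟩
    rw [coe_pow, coe_one, pow_add, pow_one, pow_mul, pow_two]
    exact congrArg Subtype.val hj
  obtain ⟨c, hc, hcv⟩ := hvN
  have hcP : c ∈ P := CfsgLib.Core.le_pCore hM ⟨hc, show pr c ∈ zpowers v from hcv.symm ▸ mem_zpowers v⟩
  exact absurd (hcv ▸ pr_eq_one_iff.2 hcP) (involution_ne_one hv2)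

/-- The Sylow subgroups meet in the core if the involutions of the image of the centraliser are single. -/
theorem ti_of_single_cent (hsingle : ∀ c ∈ centralizer (Cfsg.pCore 2 H : Set H), c ∉ Cfsg.pCore 2 H →
      c * c ∈ Cfsg.pCore 2 H → ∀ S T : Sylow 2 H, c ∈ (S : Subgroup H) → c ∈ (T : Subgroup H) → S = T) :
    TIMod H := by
  haveI := Fact.mk Nat.prime_two
  set P := Cfsg.pCore 2 H with hP
  set C := centralizer (P : Set H) with hC
  haveI hCn : C.Normal := Subgroup.normal_centralizer
  haveI : (C.map (pr : H →* Q H)).Normal := hCn.map _ pr_surjective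
  rcases h.four_or_le with hle | ⟨A, hA⟩
  · exact h.core_case hle
  let σ : Sylow 2 H → Sylow 2 (Q H) := fun S => S.mapSurjective pr_surjective
  have hσmem : ∀ (S : Sylow 2 H) (x : H), pr x ∈ (σ S : Subgroup (Q H)) ↔ x ∈ (S : Subgroup H) := fun S x => by
    show pr x ∈ ((S.mapSurjective pr_surjective : Sylow 2 (Q H)) : Subgroup (Q H)) ↔ _
    rw [Sylow.coe_mapSurjective]
    exact mem_Spt
  have hσsurj : Function.Surjective σ := Sylow.mapSurjective_surjective pr_surjective 2
  have hti := ti_of_single (C.map (pr : H →* Q H)) ⟨A, hA⟩ (fun x hx hx2 S' T' hxS hxT => by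
    obtain ⟨S, rfl⟩ := hσsurj S'
    obtain ⟨T, rfl⟩ := hσsurj T'
    obtain ⟨c, hc, rfl⟩ := hx
    refine congrArg σ (hsingle c hc (fun hcP => involution_ne_one hx2 (pr_eq_one_iff.2 hcP))
      (pr_eq_one_iff.1 (by rw [map_mul]; exact involution_sq hx2)) S T ((hσmem S c).1 hxS) ((hσmem T c).1 hxT)))
    (fun x hx => core_eq_one fun S => by
      have := hx (σ S)
      obtain ⟨w, rfl⟩ := pr_surjective x
      exact mem_Spt.2 ((hσmem S w).1 this))
  intro S T hne
  refine le_antisymm (fun x hx => ?_) (le_inf (CfsgLib.Core.pCore_le_sylow S) (CfsgLib.Core.pCore_le_sylow T))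
  have h1 := hti (σ S) (σ T) fun e => hne (Sylow.ext (Subgroup.ext fun w => by rw [← hσmem S w, ← hσmem T w, e]))
  have h2 : pr x ∈ (σ S : Subgroup (Q H)) ⊓ (σ T : Subgroup (Q H)) := ⟨(hσmem S x).2 hx.1, (hσmem T x).2 hx.2⟩
  rw [h1, mem_bot] at h2
  exact pr_eq_one_iff.1 h2

/-- The step of the induction. -/
theorem step (hC : CentralCase.{u}) (hlt : BelowB.{u} (Nat.card H)) (hx : ∃ x : H, orderOf x = 2 ∧ x ≠ z) :
    TIMod H ∨ Grid H := by
  classical
  haveI := Fact.mk Nat.prime_two
  obtain ⟨S₀, T₀, hne⟩ := h.two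
  set P := Cfsg.pCore 2 H with hP
  have hPp : IsPGroup 2 P := CfsgLib.Core.isPGroup_pCore 2 H
  set C := centralizer (P : Set H) with hCdef
  haveI hCn : C.Normal := Subgroup.normal_centralizer
  have hz1 := involution_ne_one h.hz
  by_cases hcomm : ∀ x ∈ P, ∀ y ∈ P, x * y = y * x
  · -- abelian core
    have hPC : P ≤ C := fun p hp => mem_centralizer_iff.2 fun q hq => hcomm q hq p hp
    by_cases hcen : P ≤ center H
    · have hcyc : IsCyclic P := by
        by_contra hnc
        obtain ⟨k, ⟨e⟩⟩ := Final.quaternion_of_unique hPp hnc h.core_uniq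
        obtain ⟨w, x, y, hw1, hww, -, -, -, hx, hy, hxy⟩ := Final.exists_quaternion_pair e
        have hc : x * y = y * x := Subtype.ext (hcomm _ x.2 _ y.2)
        rw [mul_assoc, ← mul_assoc y, ← hc, mul_assoc x y y, hy, ← mul_assoc, hx, hww] at hxy
        exact hw1 hxy.symm
      obtain ⟨x, hx2, hxz⟩ := hx
      exact hC H ⟨h.small, h.odd, hcen, hcyc, ⟨z, x, h.z_core, h.hz, hx2, hxz⟩, ⟨S₀, T₀, hne⟩, hlt⟩
    · -- the centraliser is proper
      have hCne : C ≠ ⊤ := fun e => hcen fun p hp => mem_center_iff.2 fun g =>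
        (mem_centralizer_iff.1 (show g ∈ C by rw [e]; trivial) p hp).symm
      have hP4 : 2 < Nat.card P := by
        by_contra hle
        refine hcen fun p hp => mem_center_iff.2 fun g => ?_
        have hsub : ∀ q ∈ P, q = 1 ∨ q = z := by
          intro q hq
          refine h.core_invol hq ?_
          have h2 : orderOf q ∣ Nat.card P := Subgroup.orderOf_dvd_natCard P hq
          have hle2 : orderOf q ≤ 2 := le_trans (Nat.le_of_dvd Nat.card_pos h2) (by omega)
          have hpos := orderOf_pos q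
          rw [← pow_two, ← orderOf_dvd_iff_pow_eq_one]
          interval_cases (orderOf q) <;> norm_num
        rcases hsub p hp with rfl | rfl
        · rw [mul_one, one_mul]
        · exact h.hzc g
      have hzC : z ∈ C := hPC h.z_core
      by_cases hxC : ∃ x : C, orderOf x = 2 ∧ x ≠ ⟨z, hzC⟩
      · refine Or.inl (h.ti_of_single_cent fun c hc hcP hcc S T hcS hcT => ?_)
        have hlt' : Nat.card C < Nat.card H := lt_of_le_of_ne (card_le_card_group C)
          fun e => hCne (Subgroup.eq_top_of_card_eq C e)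
        have hz' : orderOf (⟨z, hzC⟩ : C) = 2 := by rw [Subgroup.orderOf_mk, h.hz]
        have hzc' : ∀ g : C, g * ⟨z, hzC⟩ = ⟨z, hzC⟩ * g := fun g => Subtype.ext (h.hzc g)
        haveI : (P.subgroupOf C).Normal := (CfsgLib.Core.normal_pCore 2 H).subgroupOf C
        have hcore : (Cfsg.pCore 2 C).map C.subtype ≤ P := CfsgLib.Core.map_subtype_pCore_le C
        have hcore' : P.subgroupOf C ≤ Cfsg.pCore 2 C :=
          CfsgLib.Core.le_pCore (hPp.comap_of_injective C.subtype C.subtype_injective)
        rcases hlt C hlt' (h.small.subgroup C) (oddCore_normal_bot h.odd C) _ hz' hzc' hxC with hTI | hgr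
        · -- the traces on the centraliser
          obtain ⟨Q₁, hQ₁⟩ := exists_sylow_normal C S
          obtain ⟨Q₂, hQ₂⟩ := exists_sylow_normal C T
          have hQ : Q₁ = Q₂ := by
            by_contra hne'
            have h1 : (⟨c, hc⟩ : C) ∈ (Q₁ : Subgroup C) ⊓ (Q₂ : Subgroup C) := by
              rw [hQ₁, hQ₂]; exact ⟨hcS, hcT⟩
            rw [hTI Q₁ Q₂ hne'] at h1
            exact hcP (hcore ⟨_, h1, rfl⟩)
          obtain ⟨x, hx2, hxz⟩ := hxC
          obtain ⟨W, hW⟩ := (IsPGroup.of_card (p := 2) (n := 1) (G := zpowers x)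
            (by rw [Nat.card_zpowers, hx2, pow_one])).exists_le_sylow
          obtain ⟨g, hg⟩ := MulAction.exists_smul_eq C W Q₁
          have hxQ : g * x * g⁻¹ ∈ (Q₁ : Subgroup C) := by
            rw [← hg, Sylow.coe_subgroup_smul, Subgroup.mem_pointwise_smul_iff_inv_smul_mem]
            simpa [MulAut.smul_def, mul_assoc] using hW (mem_zpowers x)
          have hxT := hQ ▸ hxQ
          rw [hQ₁] at hxQ
          rw [hQ₂] at hxT
          refine h.small S T z ((g * x * g⁻¹ : C) : H) h.hz
            (by rw [Subgroup.orderOf_coe, orderOf_conj, hx2]) (fun e => hxz ?_) (h.hzc _).symm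
            (CfsgLib.Core.pCore_le_sylow S h.z_core) hxQ (CfsgLib.Core.pCore_le_sylow T h.z_core) hxT
          have e' : g * x * g⁻¹ = (⟨z, hzC⟩ : C) := Subtype.ext e.symm
          rw [show x = g⁻¹ * (g * x * g⁻¹) * g by group, e', mul_assoc, ← hzc', inv_mul_cancel_left]
        · exfalso
          have h2 := not_grid_of_four_le_core (h.small.subgroup C) hz' hzc' hgr
          have h3 := Subgroup.card_le_of_le hcore'
          rw [Nat.card_congr (subgroupOfEquivOfLe hPC).toEquiv] at h3
          omega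
      · -- one involution in the centraliser
        refine Or.inl (h.core_case ?_)
        push Not at hxC
        obtain ⟨R⟩ := (inferInstance : Nonempty (Sylow 2 C))
        have hPR : ∀ p : C, (p : H) ∈ P → p ∈ (R : Subgroup C) := fun p hp => by
          haveI : (P.subgroupOf C).Normal := (CfsgLib.Core.normal_pCore 2 H).subgroupOf C
          exact CfsgLib.Core.pCore_le_sylow R
            (CfsgLib.Core.le_pCore (hPp.comap_of_injective C.subtype C.subtype_injective) (mem_subgroupOf.2 hp))
        have hcycR : IsCyclic (R : Subgroup C) := by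
          by_contra hnc
          obtain ⟨k, ⟨e⟩⟩ := Final.quaternion_of_unique R.isPGroup' hnc (fun x y hx hy => Subtype.ext
            ((hxC x (by rw [Subgroup.orderOf_coe]; exact hx)).trans
              (hxC y (by rw [Subgroup.orderOf_coe]; exact hy)).symm))
          obtain ⟨w, x, y, -, hww, -, -, hwcen, -, -, -⟩ := Final.exists_quaternion_pair e
          refine absurd hP4 (not_lt.2 ?_)
          have hle : Nat.card P ≤ Nat.card Bool := by
            refine Nat.card_le_card_of_injective (fun p : P => decide (p = 1)) fun p q hpq => ?_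
            have hmem : ∀ p : P, p ≠ 1 → (⟨⟨p, hPC p.2⟩, hPR _ p.2⟩ : (R : Subgroup C)) = w := fun p hp1 =>
              (hwcen _ fun v => Subtype.ext (Subtype.ext
                (mem_centralizer_iff.1 v.1.2 (p : H) p.2).symm)).resolve_left fun e1 =>
                  hp1 (Subtype.ext (congrArg (fun r : (R : Subgroup C) => ((r : C) : H)) e1))
            by_cases hp1 : p = 1 <;> by_cases hq1 : q = 1 <;> simp [hp1, hq1] at hpq ⊢
            exact Subtype.ext (congrArg (fun r : (R : Subgroup C) => ((r : C) : H))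
              ((hmem p hp1).trans (hmem q hq1).symm))
          rwa [Nat.card_eq_fintype_card (α := Bool), Fintype.card_bool] at hle
        have heven : Even (Nat.card C) := by
          rw [even_iff_two_dvd, ← h.hz, ← Subgroup.orderOf_mk z hzC]
          exact orderOf_dvd_natCard _
        exact CfsgLib.Core.le_pCore (isPGroup_of_cyclic (oddCore_normal_bot h.odd C) R hcycR heven)
  · -- quaternion core
    refine Or.inl (h.ti_of_single_cent fun c hc hcP hcc S T hcS hcT => ?_)
    have hnc : ¬ IsCyclic P := fun hcyc => hcomm fun x hx y hy => by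
      haveI := hcyc
      exact congrArg Subtype.val (IsCyclic.commGroup.mul_comm (⟨x, hx⟩ : P) ⟨y, hy⟩)
    obtain ⟨k, ⟨e⟩⟩ := Final.quaternion_of_unique hPp hnc h.core_uniq
    obtain ⟨w, a, -, hw1, hww, -, -, hwcen, ha, -, -⟩ := Final.exists_quaternion_pair e
    have hwz : (w : H) = z := (h.core_invol w.2 (congrArg Subtype.val hww)).resolve_left
      fun e1 => hw1 (Subtype.ext e1)
    have haz : (a : H) * a = z := by rw [← hwz, ← coe_mul, ha]
    have hca : c * a = a * c := (mem_centralizer_iff.1 hc a a.2).symm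
    have hsq : c * c = 1 ∨ c * c = z := by
      rcases hwcen ⟨c * c, hcc⟩ (fun v => Subtype.ext
        (mem_centralizer_iff.1 (mul_mem hc hc) v v.2)) with h1 | h1
      · exact Or.inl (congrArg Subtype.val h1)
      · exact Or.inr ((congrArg Subtype.val h1).trans hwz)
    -- an involution in the coset
    obtain ⟨d, hd, hdd⟩ : ∃ d ∈ P, (d * c) * (d * c) = 1 := by
      rcases hsq with h1 | h1
      · exact ⟨1, one_mem P, by rw [one_mul, h1]⟩
      · refine ⟨a, a.2, ?_⟩
        rw [mul_assoc, ← mul_assoc c, hca, mul_assoc (a : H) c c, h1, ← mul_assoc, haz, ← pow_two, ← h.hz,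
          pow_orderOf_eq_one]
    have hu1 : d * c ≠ 1 := fun e1 => hcP (by
      rw [show c = d⁻¹ from (inv_eq_of_mul_eq_one_right e1).symm]; exact inv_mem hd)
    have huz : d * c ≠ z := fun e1 => hcP (by
      rw [show c = d⁻¹ * z by rw [← e1, inv_mul_cancel_left]]; exact mul_mem (inv_mem hd) h.z_core)
    exact h.small S T z (d * c) h.hz (orderOf_eq_two_of hu1 hdd) (Ne.symm huz) (h.hzc _).symm
      (CfsgLib.Core.pCore_le_sylow S h.z_core) (mul_mem (CfsgLib.Core.pCore_le_sylow S hd) hcS)
      (CfsgLib.Core.pCore_le_sylow T h.z_core) (mul_mem (CfsgLib.Core.pCore_le_sylow T hd) hcT)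

end Setup

theorem belowB_of_central (hC : CentralCase.{u}) (n : ℕ) : BelowB.{u} n := by
  induction n with
  | zero => intro H _ _ hcard; omega
  | succ n ih =>
    intro H _ _ hcard hG hO z hz hzc hx
    by_cases htwo : ∃ S T : Sylow 2 H, S ≠ T
    · refine Setup.step ⟨hG, hO, hz, hzc, htwo⟩ hC (fun K _ _ hK => ih K (by omega)) hx
    · push Not at htwo
      exact Or.inl fun S T hne => absurd (htwo S T) hne

/-- **Theorem B from the central case.** -/
theorem theoremB_of_central (hC : CentralCase.{u}) : TheoremB.{u} :=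
  fun G _ _ hG hO z hz hzc hx => belowB_of_central hC (Nat.card G + 1) G (Nat.lt_succ_self _) hG hO z hz hzc hx

end CfsgLib.RankOneInter
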