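import Cfsg.Agent.Lib.Invol.RankOneInter.Central.GridLines
import Cfsg.Agent.Lib.Invol.RankOneInter.Central.Reduce
import Cfsg.Agent.Lib.Invol.RankOneInter.PartA.Facts
import Cfsg.Agent.Lib.Recog.Zassenhaus.SmallRecog

/-!
Owner: helper16. Case (b) of Theorem B of S3310: the two factors.

* `LA A`: the group generated by the second kernels over `A`.
* `card_sixty`: a group of the families with Sylow 2-subgroups of order four has order sixty.
* `GridData.factor_equiv`: `LA A` is `SL(2,5)`.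
-/

set_option autoImplicit false
set_option linter.style.haveILetI false
set_option linter.unusedSectionVars false

namespace CfsgLib.RankOneInter

open Subgroup
open CfsgLib.Signalizer (involution_sq involution_ne_one orderOf_eq_two_of orderOf_conj)

universe u

/-- A group of the three families with Sylow 2-subgroups of order four has order sixty. -/
theorem card_sixty {L : Type u} [Group L] [Finite L] (h : CfsgLib.Bender.RankOneFamily L)
    (hS : ∀ U : Sylow 2 L, Nat.card (U : Subgroup L) = 4) : Nat.card L = 60 := by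
  haveI := Fact.mk Nat.prime_two
  obtain ⟨U⟩ := (inferInstance : Nonempty (Sylow 2 L))
  have hUc := hS U
  rcases Final.names_of_family h with ⟨n, F, iF, iT, hn, hF, ⟨e⟩⟩ | ⟨m, F, iF, iT, hm, hF, ⟨e⟩⟩ |
    ⟨n, F, iF, iT, hn, hF, ⟨e⟩⟩
  · haveI : CharP F 2 := charP_of_card_eq_prime_pow hF
    obtain ⟨ep⟩ := CfsgLib.Recog.AffineTwo.psl_equiv_sl F
    have hc : Nat.card L = 2 ^ n * ((2 ^ n) ^ 2 - 1) := by
      rw [Nat.card_congr (e.trans ep).toEquiv, CfsgLib.Classical.Two.card_SL_two, hF]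
    have h2 : Nat.card (U : Subgroup L) * (U : Subgroup L).index = 2 ^ n * ((2 ^ n) ^ 2 - 1) := by
      rw [← hc]; exact (U : Subgroup L).card_mul_index
    have hodd : Odd ((2 ^ n) ^ 2 - 1) := by
      rw [← pow_mul]
      refine Nat.Even.sub_odd (Nat.one_le_two_pow) ((Nat.even_pow).2 ⟨even_two, by omega⟩) odd_one
    have hd : (2 : ℕ) ^ n ∣ 2 ^ 2 := by
      refine Nat.Coprime.dvd_of_dvd_mul_right (k := 2 ^ n) (n := (U : Subgroup L).index) ?_ ?_
      · exact ((Nat.prime_two.coprime_iff_not_dvd).2 U.not_dvd_index).pow_left n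
      · rw [show (2 : ℕ) ^ 2 = Nat.card (U : Subgroup L) by rw [hUc]; norm_num, h2]
        exact dvd_mul_right _ _
    have hn2 : n = 2 := le_antisymm ((Nat.pow_dvd_pow_iff_le_right (by norm_num)).1 hd) hn
    rw [hc, hn2]
    norm_num
  · exfalso
    haveI := CfsgLib.Lie.Suzuki.charTwo_of_card hF
    classical
    let f : L ≃* Cfsg.Sz F m := e.trans (CfsgLib.Lie.Suzuki.equivLie hm hF).symm
    have h8 : 8 ≤ Fintype.card F := by
      rw [hF]
      calc 8 = 2 ^ 3 := rfl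
        _ ≤ _ := Nat.pow_le_pow_right (by norm_num) (by omega)
    have h1 := Nat.card_congr ((equivMapOfInjective (U : Subgroup L) f.toMonoidHom f.injective).trans
      ((U.mapSurjective (f := f.toMonoidHom) f.surjective).equiv (CfsgLib.Lie.Suzuki.sylU hF hm))).toEquiv
    rw [hUc] at h1
    have h2 : Nat.card ↥(CfsgLib.Lie.Suzuki.sylU hF hm : Subgroup (Cfsg.Sz F m)) = _ :=
      CfsgLib.Lie.Suzuki.card_unip hF
    rw [h2] at h1
    nlinarith
  · exfalso
    have hF' : Fintype.card F = (2 ^ n) ^ 2 := by rw [hF, ← pow_mul, mul_comm, pow_mul]; norm_num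
    have h4 : 4 ≤ 2 ^ n := le_trans (by norm_num) (Nat.pow_le_pow_right (by norm_num) hn)
    have hU := CfsgLib.USylow.uType_psu (by omega : 1 ≤ n) hF' (U.mapSurjective (f := e.toMonoidHom) e.surjective)
    have h1 := Nat.card_congr (equivMapOfInjective (U : Subgroup L) e.toMonoidHom e.injective).toEquiv
    rw [hUc] at h1
    have h2 := h1.trans hU.card
    have : 64 ≤ (2 ^ n) ^ 3 := le_trans (by norm_num) (Nat.pow_le_pow_left h4 3)
    omega

variable {G : Type u} [Group G] [Finite G]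

/-- The group generated by the second kernels over `A`. -/
def LA (A : Subgroup G) : Subgroup G := sSup {E | Second A E}

namespace GridData

variable (hD : GridData G) {S : Sylow 2 G} {A B : Subgroup G} (h : Duo S A B)
include hD h

theorem LA_le_centralizer : LA A ≤ centralizer (A : Set G) :=
  sSup_le fun E hE x hx => by
    obtain ⟨W, hW⟩ := hE
    exact mem_centralizer_iff.2 fun a ha => hW.comm a ha x hx

theorem le_LA : B ≤ LA A := le_sSup ⟨S, h⟩

theorem LA_comm : ∀ x ∈ LA A, ∀ y ∈ LA B, x * y = y * x := by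
  have key : LA A ≤ centralizer (LA B : Set G) := sSup_le fun E hE x hx => by
    have h1 : LA B ≤ centralizer ({x} : Set G) := sSup_le fun D hDs y hy => by
      obtain ⟨W, hW⟩ := hD.second_meet h hDs hE
      exact mem_centralizer_singleton_iff.2 (hW.comm y hy x hx)
    exact mem_centralizer_iff.2 fun y hy => mem_centralizer_singleton_iff.1 (h1 hy)
  exact fun x hx y hy => (mem_centralizer_iff.1 (key hx) y hy).symm

theorem sylow_le (V : Sylow 2 G) : (V : Subgroup G) ≤ LA A ⊔ LA B := by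
  obtain ⟨C₁, C₂, hC⟩ := hD.exists_duo V
  rw [← hD.sup_eq hC]
  refine sup_le ?_ ?_
  · rcases hD.second_or_second h ⟨C₂, hC⟩ with h1 | h1
    exacts [le_sup_of_le_left (le_sSup h1), le_sup_of_le_right (le_sSup h1)]
  · rcases hD.second_or_second h ⟨C₁, hC.swap⟩ with h1 | h1
    exacts [le_sup_of_le_left (le_sSup h1), le_sup_of_le_right (le_sSup h1)]

theorem sup_eq_iSup : LA A ⊔ LA B = ⨆ V : Sylow 2 G, (V : Subgroup G) := by
  refine le_antisymm (sup_le (sSup_le ?_) (sSup_le ?_)) (iSup_le (hD.sylow_le h))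
  all_goals
    rintro E ⟨W, hW⟩
    exact hW.leB.trans (le_iSup (fun V : Sylow 2 G => (V : Subgroup G)) W)

theorem sup_normal : (LA A ⊔ LA B).Normal := by
  rw [hD.sup_eq_iSup h]
  refine ⟨fun x hx g => ?_⟩
  have hle : (⨆ V : Sylow 2 G, (V : Subgroup G)).map (MulAut.conj g).toMonoidHom ≤
      ⨆ V : Sylow 2 G, (V : Subgroup G) := by
    rw [Subgroup.map_iSup]
    refine iSup_le fun V => le_trans ?_ (le_iSup (fun V : Sylow 2 G => (V : Subgroup G)) (g • V))
    rintro _ ⟨v, hv, rfl⟩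
    exact conj_mem_smul hv
  exact hle ⟨x, hx, rfl⟩

theorem sup_index : Odd (LA A ⊔ LA B).index := by
  rw [← Nat.not_even_iff_odd, even_iff_two_dvd]
  exact fun hdvd => S.not_dvd_index (hdvd.trans (index_dvd_of_le (hD.sylow_le h S)))

theorem core_le_LA : Cfsg.pCore 2 G ≤ LA A := by
  rw [← h.inf]
  exact inf_le_right.trans (hD.le_LA h)

/-- Elements centralising both factors lie in the core. -/
theorem mem_core_of_central {x : G} (hx : x ∈ LA A ⊔ LA B) (hc : ∀ y ∈ LA A ⊔ LA B, y * x = x * y) :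
    x ∈ Cfsg.pCore 2 G := by
  haveI := Fact.mk Nat.prime_two
  haveI hn := hD.sup_normal h
  set G₁ := LA A ⊔ LA B with hG₁
  set Z := (center G₁).map G₁.subtype with hZ
  haveI : Z.Normal := inferInstance
  have hZO := oddCore_normal_bot hD.central.odd Z
  haveI : IsMulCommutative Z := ⟨⟨by
    rintro ⟨_, a, ha, rfl⟩ ⟨_, b, -, rfl⟩
    exact Subtype.ext (show (a : G) * b = b * a from congrArg Subtype.val (mem_center_iff.1 ha b).symm)⟩⟩
  have hZp : IsPGroup 2 Z := by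
    intro y
    obtain ⟨k, m, hm, hkm⟩ := Nat.exists_eq_two_pow_mul_odd (orderOf_pos y).ne'
    refine ⟨k, ?_⟩
    haveI : (zpowers (y ^ 2 ^ k)).Normal := ⟨fun a ha g => by rwa [mul_comm' g a, mul_inv_cancel_right]⟩
    have h1 : zpowers (y ^ 2 ^ k) ≤ Cfsg.oddCore Z := CfsgLib.ZStar.le_oddCore inferInstance (by
      rw [Nat.card_zpowers]
      refine hm.of_dvd_nat (orderOf_dvd_of_pow_eq_one ?_)
      rw [← pow_mul, ← hkm, pow_orderOf_eq_one])
    rw [hZO, le_bot_iff, zpowers_eq_bot] at h1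
    exact h1
  exact CfsgLib.Core.le_pCore hZp ⟨⟨x, hx⟩, mem_center_iff.2 fun y => Subtype.ext (hc y y.2), rfl⟩

theorem inf_le_core : LA A ⊓ LA B ≤ Cfsg.pCore 2 G := by
  rintro x ⟨hxA, hxB⟩
  refine hD.mem_core_of_central h (mem_sup_left hxA) fun y hy => ?_
  have hle : LA A ⊔ LA B ≤ centralizer ({x} : Set G) := sup_le
    (fun a ha => mem_centralizer_singleton_iff.2 (hD.LA_comm h a ha x hxB))
    (fun b hb => mem_centralizer_singleton_iff.2 (hD.LA_comm h x hxA b hb).symm)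
  exact mem_centralizer_singleton_iff.1 (hle hy)

/-- The part of `S` centralising `A`. -/
theorem inf_centralizer_le : (S : Subgroup G) ⊓ centralizer (A : Set G) ≤ B := by
  haveI := Fact.mk Nat.prime_two
  rintro s ⟨hs, hsc⟩
  let f : A × B →* G := A.subtype.noncommCoprod B.subtype fun a b => h.comm a a.2 b b.2
  have hrange : f.range = (S : Subgroup G) := by
    have e : f.range = A.subtype.range ⊔ B.subtype.range := MonoidHom.noncommCoprod_range _ _ _
    rw [e, range_subtype, range_subtype, hD.sup_eq h]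
  rw [SetLike.mem_coe, ← hrange] at hs
  obtain ⟨⟨⟨a, ha⟩, ⟨b, hb⟩⟩, rfl⟩ := hs
  change a * b ∈ centralizer (A : Set G) at hsc
  show a * b ∈ B
  have hac : ∀ c ∈ A, c * a = a * c := by
    intro c hc
    have h1 := mem_centralizer_iff.1 hsc c hc
    rw [mul_assoc a b c, ← h.comm c hc b hb, ← mul_assoc, ← mul_assoc] at h1
    exact mul_right_cancel h1
  have haP : a ∈ Cfsg.pCore 2 G := by
    by_contra haP
    obtain ⟨c, hc, hcn⟩ : ∃ c ∈ A, c ∉ Cfsg.pCore 2 G ∧ a⁻¹ * c ∉ Cfsg.pCore 2 G := by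
      by_contra hno
      push Not at hno
      have hle : Nat.card A ≤ Nat.card (↥(Cfsg.pCore 2 G) × Bool) := by
        refine Nat.card_le_card_of_surjective (fun p : ↥(Cfsg.pCore 2 G) × Bool =>
          (if p.2 then ⟨(p.1 : G), (h.inf.ge.trans inf_le_left) p.1.2⟩
            else ⟨a * p.1, mul_mem ha ((h.inf.ge.trans inf_le_left) p.1.2)⟩ : A)) ?_
        rintro ⟨c, hc⟩
        by_cases hcP : c ∈ Cfsg.pCore 2 G
        · exact ⟨(⟨c, hcP⟩, true), rfl⟩
        · exact ⟨(⟨a⁻¹ * c, hno c hc hcP⟩, false), Subtype.ext (mul_inv_cancel_left a c)⟩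
      rw [Nat.card_prod, h.cardA, hD.card_core, Nat.card_eq_fintype_card (α := Bool), Fintype.card_bool] at hle
      omega
    obtain ⟨hcP, hcn⟩ := hcn
    obtain ⟨h1, h1'⟩ := h.sqA a ha haP
    obtain ⟨h2, h2'⟩ := h.sqA c hc hcP
    obtain ⟨-, h3'⟩ := h.sqA (a⁻¹ * c) (mul_mem (inv_mem ha) hc) hcn
    obtain ⟨z, hz, hz2⟩ := hD.central.exists_z
    have e1 := (hD.central.core_sq_one hz hz2 h1 (hD.core_sq h1)).resolve_left h1'
    have e2 := (hD.central.core_sq_one hz hz2 h2 (hD.core_sq h2)).resolve_left h2'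
    refine h3' ?_
    rw [show a⁻¹ * c * (a⁻¹ * c) = a⁻¹ * (c * a⁻¹) * c by group,
      (show Commute c a from hac c hc).inv_right.eq, show a⁻¹ * (a⁻¹ * c) * c = (a * a)⁻¹ * (c * c) by group,
      e1, e2, inv_mul_cancel]
  exact mul_mem ((h.inf.ge.trans inf_le_right) haP) hb

theorem twoGroup_eq {Q : Subgroup G} (hQ : IsPGroup 2 Q) (hQL : Q ≤ LA A) (hBQ : B ≤ Q) : Q = B := by
  haveI := Fact.mk Nat.prime_two
  have hQA : Q ≤ normalizer (A : Set G) :=
    hQL.trans ((hD.LA_le_centralizer h).trans (centralizer_le_normalizer _))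
  obtain ⟨U, hU⟩ := ((S.isPGroup'.to_le h.leA).to_sup_of_normal_left' hQ hQA).exists_le_sylow
  have e := hD.eq_of_le_both h (le_sup_left.trans hU) ((hBQ.trans le_sup_right).trans hU)
  exact le_antisymm (fun q hq => hD.inf_centralizer_le h
    ⟨e ▸ hU (mem_sup_right hq), hD.LA_le_centralizer h (hQL hq)⟩) hBQ

/-- A second kernel over `A` is the part in `LA A` of its Sylow subgroup. -/
theorem second_inf {W : Sylow 2 G} {E : Subgroup G} (hW : Duo W A E) :
    (W : Subgroup G) ⊓ LA A = E :=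
  le_antisymm ((inf_le_inf_left _ (hD.LA_le_centralizer h)).trans (hD.inf_centralizer_le hW))
    (le_inf hW.leB (le_sSup ⟨W, hW⟩))

theorem sylow_second (Q : Sylow 2 (LA A)) : ∃ E, Second A E ∧ (Q : Subgroup (LA A)).map (LA A).subtype = E := by
  haveI := Fact.mk Nat.prime_two
  -- one Sylow subgroup
  have hBp : IsPGroup 2 (B.subgroupOf (LA A)) :=
    (S.isPGroup'.to_le h.leB).comap_of_injective (LA A).subtype (LA A).subtype_injective
  obtain ⟨Q₀, hQ₀⟩ := hBp.exists_le_sylow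
  have hQ₀' : (Q₀ : Subgroup (LA A)).map (LA A).subtype = B := hD.twoGroup_eq h (Q₀.isPGroup'.map _)
    (map_subtype_le _) (fun b hb => ⟨⟨b, hD.le_LA h hb⟩, hQ₀ hb, rfl⟩)
  obtain ⟨⟨x, hx⟩, rfl⟩ := MulAction.exists_smul_eq (LA A) Q₀ Q
  have hxA : ∀ a ∈ A, x * a * x⁻¹ = a := fun a ha => by
    rw [← mem_centralizer_iff.1 (hD.LA_le_centralizer h hx) a ha, mul_inv_cancel_right]
  have hAx : A ≤ ((x • S : Sylow 2 G) : Subgroup G) := fun a ha => by
    rw [← hxA a ha]; exact conj_mem_smul (h.leA ha)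
  obtain ⟨E, hE⟩ := hD.isKer_of_le h hAx
  refine ⟨E, ⟨_, hE⟩, ?_⟩
  rw [← hD.second_inf h hE]
  ext y
  constructor
  · rintro ⟨⟨y, hy⟩, hyQ, rfl⟩
    refine ⟨?_, hy⟩
    rw [Sylow.coe_subgroup_smul, SetLike.mem_coe, Subgroup.mem_pointwise_smul_iff_inv_smul_mem] at hyQ
    have h1 : x⁻¹ * y * x ∈ B := by
      rw [← hQ₀']
      exact ⟨_, hyQ, by simp [MulAut.smul_def]⟩
    show y ∈ ((x • S : Sylow 2 G) : Subgroup G)
    exact mem_smul_iff.2 (h.leB h1)
  · rintro ⟨hyS, hyL⟩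
    refine ⟨⟨y, hyL⟩, ?_, rfl⟩
    rw [Sylow.coe_subgroup_smul, SetLike.mem_coe, Subgroup.mem_pointwise_smul_iff_inv_smul_mem]
    have h1 : x⁻¹ * y * x ∈ (Q₀ : Subgroup (LA A)).map (LA A).subtype := by
      rw [hQ₀']
      exact hD.inf_centralizer_le h ⟨mem_smul_iff.1 hyS,
        hD.LA_le_centralizer h (mul_mem (mul_mem (inv_mem hx) hyL) hx)⟩
    obtain ⟨q, hq, he⟩ := h1
    rwa [show (MulAut.conj (⟨x, hx⟩ : LA A))⁻¹ • (⟨y, hyL⟩ : LA A) = q from Subtype.ext (by
      rw [MulAut.smul_def, MulAut.conj_inv_apply]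
      exact he.symm)]

/-- `LA A` is `SL(2,5)`. -/
theorem factor_equiv : Nonempty (↥(LA A) ≃* Matrix.SpecialLinearGroup (Fin 2) (ZMod 5)) := by
  classical
  haveI := Fact.mk Nat.prime_two
  set M := LA A with hM
  set P := Cfsg.pCore 2 G with hP
  obtain ⟨z, hz, hz2⟩ := hD.central.exists_z
  have hPM : P ≤ M := hD.core_le_LA h
  set P₀ : Subgroup M := P.subgroupOf M with hP₀
  haveI : P₀.Normal := (CfsgLib.Core.normal_pCore 2 G).subgroupOf M
  have hP₀c : Nat.card P₀ = 2 := by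
    rw [Nat.card_congr (subgroupOfEquivOfLe hPM).toEquiv, hD.card_core]
  have hPE : ∀ {E : Subgroup G}, Second A E → P ≤ E := by
    rintro E ⟨W, hW⟩
    exact hW.inf.ge.trans inf_le_right
  have hQP : ∀ Q : Sylow 2 M, P₀ ≤ (Q : Subgroup M) := fun Q p hp => by
    obtain ⟨E, hE, hQ⟩ := hD.sylow_second h Q
    have h1 : (p : G) ∈ E := hPE hE (mem_subgroupOf.1 hp)
    rw [← hQ] at h1
    obtain ⟨q, hq, he⟩ := h1
    exact (M.subtype_injective he : q = p) ▸ hq
  have hQc : ∀ Q : Sylow 2 M, Nat.card (Q : Subgroup M) = 8 := fun Q => by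
    obtain ⟨E, ⟨W, hW⟩, hQ⟩ := hD.sylow_second h Q
    rw [← card_map_of_injective M.subtype_injective, hQ, hW.cardB]
  have hQsq : ∀ Q : Sylow 2 M, ∀ q ∈ (Q : Subgroup M), q ∉ P₀ → q * q ∈ P₀ ∧ q * q ≠ 1 := fun Q q hq hqP => by
    obtain ⟨E, ⟨W, hW⟩, hQ⟩ := hD.sylow_second h Q
    obtain ⟨h1, h2⟩ := hW.sqB q (hQ ▸ ⟨q, hq, rfl⟩) hqP
    exact ⟨h1, fun e => h2 (congrArg Subtype.val e)⟩
  have hinter : ∀ Q Q' : Sylow 2 M, Q ≠ Q' → (Q : Subgroup M) ⊓ (Q' : Subgroup M) ≤ P₀ := by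
    intro Q Q' hne v hv
    obtain ⟨E, ⟨W, hW⟩, hQ⟩ := hD.sylow_second h Q
    obtain ⟨E', ⟨W', hW'⟩, hQ'⟩ := hD.sylow_second h Q'
    have hWW : W' ≠ W := fun e => hne (Sylow.ext (map_injective M.subtype_injective (by
      rw [hQ, hQ', hD.duo_right hW (show Duo W A E' from e ▸ hW')])))
    have hvE : (v : G) ∈ E := hQ ▸ ⟨v, hv.1, rfl⟩
    have hvE' : (v : G) ∈ E' := hQ' ▸ ⟨v, hv.2, rfl⟩
    have h1 : (v : G) ∈ (W : Subgroup G) ⊓ (W' : Subgroup G) := ⟨hW.leB hvE, hW'.leB hvE'⟩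
    rcases hW.meet W' hWW with e | e | e <;> rw [e] at h1
    · exact h1
    · exact mem_subgroupOf.2 (hW.inf.le ⟨h1, hvE⟩)
    · exfalso
      exact hWW (hD.eq_of_le_both hW hW'.leA (e ▸ inf_le_right))
  -- the generators
  set T := {x : M | ∃ Q : Sylow 2 M, x ∈ (Q : Subgroup M)} with hT
  have hgen : closure T = ⊤ := by
    refine eq_top_iff.2 ?_
    rintro ⟨x, hx⟩ -
    have hle : M ≤ (closure T).map M.subtype := sSup_le fun E hE e he => by
      have heM : e ∈ M := (le_sSup hE : E ≤ M) he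
      obtain ⟨W, hW⟩ := hE
      obtain ⟨Q, hQ⟩ := ((W.isPGroup'.to_le hW.leB).comap_of_injective M.subtype M.subtype_injective :
        IsPGroup 2 (E.subgroupOf M)).exists_le_sylow
      exact ⟨⟨e, heM⟩, subset_closure ⟨Q, hQ he⟩, rfl⟩
    obtain ⟨y, hy, he⟩ := hle hx
    exact (M.subtype_injective he : y = ⟨x, hx⟩) ▸ hy
  -- the quotient
  set pb := QuotientGroup.mk' P₀ with hpb
  have hsurj : Function.Surjective pb := QuotientGroup.mk'_surjective P₀
  have hker : ∀ {v : M}, pb v = 1 ↔ v ∈ P₀ := fun {v} => QuotientGroup.eq_one_iff v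
  let σ : Sylow 2 M → Sylow 2 (M ⧸ P₀) := fun Q => Q.mapSurjective hsurj
  have hσ : ∀ (Q : Sylow 2 M) (v : M), pb v ∈ (σ Q : Subgroup (M ⧸ P₀)) ↔ v ∈ (Q : Subgroup M) := fun Q v => by
    show pb v ∈ ((Q.mapSurjective hsurj : Sylow 2 (M ⧸ P₀)) : Subgroup (M ⧸ P₀)) ↔ _
    rw [Sylow.coe_mapSurjective]
    refine ⟨?_, fun hv => ⟨v, hv, rfl⟩⟩
    rintro ⟨s, hs, he⟩
    simpa using mul_mem hs (hQP Q (hker.1 (show pb (s⁻¹ * v) = 1 by rw [map_mul, map_inv, he, inv_mul_cancel])))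
  have hσsurj : Function.Surjective σ := Sylow.mapSurjective_surjective hsurj 2
  have hti : ∀ U U' : Sylow 2 (M ⧸ P₀), U ≠ U' → (U : Subgroup (M ⧸ P₀)) ⊓ (U' : Subgroup (M ⧸ P₀)) = ⊥ := by
    intro U U' hUU
    obtain ⟨Q, rfl⟩ := hσsurj U
    obtain ⟨Q', rfl⟩ := hσsurj U'
    refine (eq_bot_iff_forall _).2 fun v hv => ?_
    obtain ⟨v, rfl⟩ := hsurj v
    exact hker.2 (hinter Q Q' (fun e => hUU (by rw [e])) ⟨(hσ Q v).1 hv.1, (hσ Q' v).1 hv.2⟩)
  have hBp : IsPGroup 2 (B.subgroupOf M) :=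
    (S.isPGroup'.to_le h.leB).comap_of_injective M.subtype M.subtype_injective
  obtain ⟨Q₀, hQ₀⟩ := hBp.exists_le_sylow
  have hne : ∃ U U' : Sylow 2 (M ⧸ P₀), U ≠ U' := by
    obtain ⟨W, hWS, hWA⟩ := h.existsA
    obtain ⟨E, hE⟩ := hD.isKer_of_le h (hWA ▸ inf_le_right)
    obtain ⟨Q, hQ⟩ := ((W.isPGroup'.to_le hE.leB).comap_of_injective M.subtype M.subtype_injective :
      IsPGroup 2 (E.subgroupOf M)).exists_le_sylow
    refine ⟨σ Q, σ Q₀, fun e => hWS ?_⟩
    have heq : (Q : Subgroup M) = Q₀ := Subgroup.ext fun v => by rw [← hσ Q v, ← hσ Q₀ v, e]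
    have hEB : E ≤ B := by
      intro v hv
      have hvM : v ∈ M := (le_sSup ⟨W, hE⟩ : E ≤ M) hv
      have h1 : (⟨v, hvM⟩ : M) ∈ (Q₀ : Subgroup M) := heq ▸ hQ hv
      have h2 := hD.twoGroup_eq h (Q₀.isPGroup'.map M.subtype) (map_subtype_le _)
        (fun b hb => ⟨⟨b, hD.le_LA h hb⟩, hQ₀ hb, rfl⟩)
      exact h2 ▸ ⟨_, h1, rfl⟩
    exact hD.eq_of_le_both h hE.leA ((eq_of_le_of_card_ge hEB (by rw [h.cardB, hE.cardB])) ▸ hE.leB)
  have hSyl4 : ∀ U : Sylow 2 (M ⧸ P₀), Nat.card (U : Subgroup (M ⧸ P₀)) = 4 := by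
    intro U
    obtain ⟨Q, rfl⟩ := hσsurj U
    have h1 := (P₀.subgroupOf (Q : Subgroup M)).card_mul_index
    rw [Nat.card_congr (subgroupOfEquivOfLe (hQP Q)).toEquiv, hP₀c, hQc Q] at h1
    let π' : (Q : Subgroup M) →* (M ⧸ P₀) := pb.comp (Q : Subgroup M).subtype
    have h2 : π'.ker = P₀.subgroupOf (Q : Subgroup M) := by
      ext v; rw [MonoidHom.mem_ker, mem_subgroupOf]; exact hker
    have h3 : π'.range = (σ Q : Subgroup (M ⧸ P₀)) := by
      show _ = ((Q.mapSurjective hsurj : Sylow 2 (M ⧸ P₀)) : Subgroup (M ⧸ P₀))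
      rw [Sylow.coe_mapSurjective, MonoidHom.range_comp, range_subtype]
    rw [← h3, ← index_ker, h2]
    omega
  have hfour : ∃ U : Sylow 2 (M ⧸ P₀), Four (U : Subgroup (M ⧸ P₀)) := by
    refine ⟨σ Q₀, ?_⟩
    have hexp : ∀ v ∈ (σ Q₀ : Subgroup (M ⧸ P₀)), v * v = 1 := by
      intro v hv
      obtain ⟨v, rfl⟩ := hsurj v
      rw [← map_mul, hker]
      by_cases hvP : v ∈ P₀
      · exact mul_mem hvP hvP
      · exact (hQsq Q₀ v ((hσ Q₀ v).1 hv) hvP).1
    have h4 := hSyl4 (σ Q₀)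
    haveI : Nontrivial (σ Q₀ : Subgroup (M ⧸ P₀)) := Finite.one_lt_card_iff_nontrivial.1 (by rw [h4]; norm_num)
    obtain ⟨⟨x, hx⟩, hx1⟩ := exists_ne (1 : (σ Q₀ : Subgroup (M ⧸ P₀)))
    obtain ⟨⟨y, hy⟩, hy1, hyx⟩ : ∃ y : (σ Q₀ : Subgroup (M ⧸ P₀)), y ≠ 1 ∧ y ≠ ⟨x, hx⟩ := by
      by_contra hno
      push Not at hno
      have hle : Nat.card (σ Q₀ : Subgroup (M ⧸ P₀)) ≤ Nat.card Bool := Nat.card_le_card_of_surjective
        (fun b : Bool => if b then (1 : (σ Q₀ : Subgroup (M ⧸ P₀))) else ⟨x, hx⟩) fun v => by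
          by_cases hv : v = 1
          · exact ⟨true, hv.symm⟩
          · exact ⟨false, (hno v hv).symm⟩
      rw [Nat.card_eq_fintype_card (α := Bool), Fintype.card_bool] at hle
      omega
    have hx2 := hexp x hx
    have hy2 := hexp y hy
    refine ⟨x, hx, y, hy, orderOf_eq_two_of (fun e => hx1 (Subtype.ext e)) hx2,
      orderOf_eq_two_of (fun e => hy1 (Subtype.ext e)) hy2, fun e => hyx (Subtype.ext e.symm), ?_⟩
    have hxy := hexp _ (mul_mem hx hy)
    calc x * y = (x * y)⁻¹ := (inv_eq_of_mul_eq_one_right hxy).symm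
      _ = y * x := by rw [mul_inv_rev, inv_eq_of_mul_eq_one_right hx2, inv_eq_of_mul_eq_one_right hy2]
  obtain ⟨U₀, hU₀⟩ := hfour
  have hfam := ti_family hti ⟨U₀, hU₀⟩ hne U₀
  set N := (normalizer (U₀ : Set (M ⧸ P₀))).normalCore with hN
  -- the kernel of the action on the Sylow subgroups
  have hNfix : ∀ m ∈ N, ∀ U : Sylow 2 (M ⧸ P₀), m • U = U := by
    intro m hm U
    obtain ⟨g, rfl⟩ := MulAction.exists_smul_eq (M ⧸ P₀) U₀ U
    have h1 : g⁻¹ * m * g ∈ normalizer (U₀ : Set (M ⧸ P₀)) :=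
      normalCore_le _ (by simpa using (inferInstance : N.Normal).conj_mem m hm g⁻¹)
    rw [← Sylow.smul_eq_iff_mem_normalizer, mul_smul, mul_smul, inv_smul_eq_iff] at h1
    exact h1
  have hNtwo : ∀ m ∈ N, ∀ k : ℕ, m ^ 2 ^ k = 1 → m = 1 := by
    intro m hm k hk
    obtain ⟨U, U', hUU⟩ := hne
    have h1 : m ∈ (U : Subgroup (M ⧸ P₀)) ⊓ (U' : Subgroup (M ⧸ P₀)) :=
      ⟨mem_sylow_of_smul_eq hk (hNfix m hm U), mem_sylow_of_smul_eq hk (hNfix m hm U')⟩
    rwa [hti U U' hUU, mem_bot] at h1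
  have hNodd : Odd (Nat.card N) := by
    rw [← Nat.not_even_iff_odd]
    intro hev
    obtain ⟨m, hm, hm2⟩ := CfsgLib.Signalizer.exists_involution_of_even hev
    exact involution_ne_one hm2 (hNtwo m hm 1 (by rw [pow_one, pow_two]; exact involution_sq hm2))
  have hNbot : N = ⊥ := by
    refine (eq_bot_iff_forall _).2 fun m hm => ?_
    obtain ⟨x, rfl⟩ := hsurj m
    set k := orderOf (pb x) with hk
    have hkodd : Odd k := hNodd.of_dvd_nat (Subgroup.orderOf_dvd_natCard N hm)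
    have hxk : x ^ k ∈ P₀ := hker.1 (by rw [map_pow, hk, pow_orderOf_eq_one])
    refine hker.2 ?_
    have hcent : ∀ y ∈ T, x * y = y * x := by
      rintro y ⟨Q, hy⟩
      have h1 : pb x * pb y * (pb x)⁻¹ * (pb y)⁻¹ ∈ N := by
        rw [show pb x * pb y * (pb x)⁻¹ * (pb y)⁻¹ = pb x * (pb y * (pb x)⁻¹ * (pb y)⁻¹) by group]
        exact mul_mem hm ((inferInstance : N.Normal).conj_mem _ (inv_mem hm) _)
      have hyU : pb y ∈ (σ Q : Subgroup (M ⧸ P₀)) := (hσ Q y).2 hy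
      have hxU : pb x * pb y * (pb x)⁻¹ ∈ (σ Q : Subgroup (M ⧸ P₀)) := by
        have h2 := conj_mem_smul (g := pb x) hyU
        rwa [hNfix _ hm] at h2
      obtain ⟨i, hi⟩ := (σ Q).isPGroup' ⟨_, mul_mem hxU (inv_mem hyU)⟩
      have h3 := hNtwo _ h1 i (congrArg Subtype.val hi)
      obtain ⟨p, hp, hxy⟩ : ∃ p ∈ P₀, x * y * x⁻¹ = p * y :=
        ⟨x * y * x⁻¹ * y⁻¹, hker.1 (by rw [map_mul, map_mul, map_mul, map_inv, map_inv, h3]), by group⟩
      have hpc : ∀ v : M, v * p = p * v := fun v => Subtype.ext (hD.central.comm_core (mem_subgroupOf.1 hp) v)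
      have hpow : ∀ j : ℕ, x ^ j * y * (x ^ j)⁻¹ = p ^ j * y := fun j => by
        induction j with
        | zero => simp
        | succ j ih =>
          calc x ^ (j + 1) * y * (x ^ (j + 1))⁻¹ = x * (x ^ j * y * (x ^ j)⁻¹) * x⁻¹ := by rw [pow_succ']; group
            _ = x * p ^ j * x⁻¹ * (x * y * x⁻¹) := by rw [ih]; group
            _ = p ^ (j + 1) * y := by
              rw [((show Commute x p from hpc x).pow_right j).eq, mul_inv_cancel_right, hxy, ← mul_assoc, ← pow_succ]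
      have h5 := hpow k
      rw [show x ^ k * y = y * x ^ k from (Subtype.ext (hD.central.comm_core (mem_subgroupOf.1 hxk) y)).symm,
        mul_inv_cancel_right] at h5
      have hp2 : p * p = 1 := Subtype.ext (hD.core_sq (mem_subgroupOf.1 hp))
      obtain ⟨j, hj⟩ := hkodd
      rw [hj, pow_succ, pow_mul, pow_two, hp2, one_pow, one_mul] at h5
      rw [right_eq_mul.1 h5, one_mul, mul_inv_eq_iff_eq_mul] at hxy
      exact hxy
    refine hD.mem_core_of_central h (mem_sup_left x.2) fun v hv => ?_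
    have hxM : M ≤ centralizer ({(x : G)} : Set G) := by
      intro v hv
      have hle : closure T ≤ centralizer ({x} : Set M) :=
        (closure_le _).2 fun y hy => mem_centralizer_singleton_iff.2 (hcent y hy).symm
      rw [hgen] at hle
      exact mem_centralizer_singleton_iff.2
        (congrArg Subtype.val (mem_centralizer_singleton_iff.1 (hle (mem_top ⟨v, hv⟩))))
    have hle : M ⊔ LA B ≤ centralizer ({(x : G)} : Set G) :=
      sup_le hxM fun b hb => mem_centralizer_singleton_iff.2 (hD.LA_comm h x x.2 b hb).symm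
    exact mem_centralizer_singleton_iff.1 (hle hv)
  -- the whole quotient is generated by its 2-elements
  let q : (M ⧸ P₀) →* (M ⧸ P₀) ⧸ N := QuotientGroup.mk' N
  have hqinj : Function.Injective q := (MonoidHom.ker_eq_bot_iff _).1 (by rw [QuotientGroup.ker_mk', hNbot])
  have hqsurj : Function.Surjective q := QuotientGroup.mk'_surjective N
  have htop : Cfsg.pElementClosure 2 (⊤ : Subgroup ((M ⧸ P₀) ⧸ N)) = ⊤ := by
    refine eq_top_iff.2 ?_
    have hle : (closure T).map (q.comp pb) ≤ Cfsg.pElementClosure 2 (⊤ : Subgroup ((M ⧸ P₀) ⧸ N)) := by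
      rw [MonoidHom.map_closure, Cfsg.pElementClosure, closure_le]
      rintro _ ⟨y, ⟨Q, hy⟩, rfl⟩
      obtain ⟨i, hi⟩ := IsPGroup.iff_orderOf.1 Q.isPGroup' ⟨y, hy⟩
      rw [Subgroup.orderOf_mk] at hi
      obtain ⟨j, -, hj⟩ := (Nat.dvd_prime_pow Nat.prime_two).1 (hi ▸ orderOf_map_dvd (q.comp pb) y)
      exact subset_closure ⟨mem_top _, j, hj⟩
    rw [hgen, map_top_of_surjective (q.comp pb) (fun v => by obtain ⟨u, rfl⟩ := hqsurj v; obtain ⟨w, rfl⟩ := hsurj u; exact ⟨w, rfl⟩)] at hle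
    exact hle
  let eQ : (M ⧸ P₀) ≃* ↥(Cfsg.pElementClosure 2 (⊤ : Subgroup ((M ⧸ P₀) ⧸ N))) :=
    (MulEquiv.ofBijective q ⟨hqinj, hqsurj⟩).trans (topEquiv.symm.trans (MulEquiv.subgroupCongr htop.symm))
  have h60 : Nat.card (M ⧸ P₀) = 60 := by
    rw [Nat.card_congr eQ.toEquiv]
    refine card_sixty hfam fun U => ?_
    rw [Nat.card_congr (equivMapOfInjective _ eQ.symm.toMonoidHom eQ.symm.injective).toEquiv]
    exact hSyl4 (U.mapSurjective (f := eQ.symm.toMonoidHom) eQ.symm.surjective)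
  have hns : ¬ Group.IsSolvable M := by
    intro hsol
    haveI := hsol
    haveI : Group.IsSolvable (M ⧸ P₀) := Group.isSolvable_of_surjective hsurj
    haveI : IsSimpleGroup (M ⧸ P₀) := by
      haveI := Final.isSimple_of_family hfam
      exact eQ.isSimpleGroup
    haveI : IsMulCommutative (M ⧸ P₀) :=
      ⟨⟨fun a b => IsSimpleGroup.comm_iff_isSolvable.2 inferInstance a b⟩⟩
    have hprime : (Nat.card (M ⧸ P₀)).Prime := by
      open scoped IsMulCommutative in exact IsSimpleGroup.prime_card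
    rw [h60] at hprime
    exact absurd hprime (by norm_num)
  have h120 : Nat.card M = 120 := by
    rw [P₀.card_eq_card_quotient_mul_card_subgroup, h60, hP₀c]
  refine CfsgLib.Recog.Zassenhaus.nonempty_sl25_of_card h120 hns fun Q => ?_
  have hP₀inv : ∀ p ∈ P₀, orderOf p = 2 → (p : G) = z := fun p hp hp2 =>
    (hD.central.core_sq_one hz hz2 (mem_subgroupOf.1 hp) (hD.core_sq (mem_subgroupOf.1 hp))).resolve_left
      fun e => involution_ne_one hp2 (Subtype.ext e)
  have huniq : ∀ x y : (Q : Subgroup M), orderOf x = 2 → orderOf y = 2 → x = y := by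
    have key : ∀ x : (Q : Subgroup M), orderOf x = 2 → (x : M) ∈ P₀ := fun x hx => by
      by_contra hxP
      exact (hQsq Q x x.2 hxP).2 (congrArg Subtype.val (involution_sq hx))
    intro x y hx hy
    refine Subtype.ext (Subtype.ext ?_)
    rw [hP₀inv _ (key x hx) (by rw [Subgroup.orderOf_coe]; exact hx),
      hP₀inv _ (key y hy) (by rw [Subgroup.orderOf_coe]; exact hy)]
  have hnc : ¬ IsCyclic (Q : Subgroup M) := by
    intro hc
    obtain ⟨v, hv⟩ := hc.exists_generator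
    have h1 := orderOf_eq_card_of_forall_mem_zpowers hv
    rw [hQc Q] at h1
    have h2 : ((v : M) * v) * (v * v) = 1 := by
      by_cases hvP : (v : M) ∈ P₀
      · exact Subtype.ext (hD.core_sq (mem_subgroupOf.1 (mul_mem hvP hvP)))
      · exact Subtype.ext (hD.core_sq (mem_subgroupOf.1 (hQsq Q v v.2 hvP).1))
    have h3 : v ^ 4 = 1 := by
      refine Subtype.ext ?_
      rw [coe_pow, coe_one, show (4 : ℕ) = 2 * 2 from rfl, pow_mul, pow_two, pow_two]
      exact h2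
    have h4 := orderOf_dvd_of_pow_eq_one h3
    rw [h1] at h4
    norm_num at h4
  obtain ⟨k, ⟨e⟩⟩ := Final.quaternion_of_unique Q.isPGroup' hnc huniq
  have hk : k = 0 := by
    haveI : NeZero (2 ^ (k + 1)) := ⟨by positivity⟩
    have h1 := Nat.card_congr e.toEquiv
    rw [hQc Q, Nat.card_eq_fintype_card, QuaternionGroup.card, ← mul_right_inj' (two_ne_zero (α := ℕ))] at h1
    rcases k with _ | k
    · rfl
    · have : 4 ≤ 2 ^ (k + 1 + 1) := le_trans (by norm_num) (Nat.pow_le_pow_right two_pos (show 2 ≤ k + 1 + 1 by omega))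
      omega
  subst hk
  exact ⟨e⟩

end GridData

end CfsgLib.RankOneInter
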