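import Cfsg.Agent.Lib.Invol.RankOneInter.Central.Basic
import Cfsg.Agent.Lib.Invol.RankOneInter.TI

/-!
Owner: helper16. Case (b) of Theorem B of S3310: the two families of kernels.

* `Duo S A B`: `A` and `B` are the two kernels of the Sylow subgroup `S`.
* `GridData.cover`: off the Sylow subgroups through `A`, every Sylow subgroup has a kernel meeting `A`.
* `GridData.second_unique`: it is unique.
* `GridData.second_meet`: the second kernels over `A` commute with those over `B`.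
* `GridData.second_or_second`: there are no further kernels.
-/

set_option autoImplicit false
set_option linter.style.haveILetI false
set_option linter.unusedSectionVars false

namespace CfsgLib.RankOneInter

open Subgroup
open CfsgLib.Signalizer (involution_sq involution_ne_one orderOf_eq_two_of orderOf_conj)

universe u

variable {G : Type u} [Group G] [Finite G]

/-- The two kernels of a Sylow subgroup. -/
structure Duo (S : Sylow 2 G) (A B : Subgroup G) : Prop where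
  cardA : Nat.card A = 8
  cardB : Nat.card B = 8
  leA : A ≤ (S : Subgroup G)
  leB : B ≤ (S : Subgroup G)
  comm : ∀ a ∈ A, ∀ b ∈ B, a * b = b * a
  inf : A ⊓ B = Cfsg.pCore 2 G
  sqA : ∀ a ∈ A, a ∉ Cfsg.pCore 2 G → a * a ∈ Cfsg.pCore 2 G ∧ a * a ≠ 1
  sqB : ∀ b ∈ B, b ∉ Cfsg.pCore 2 G → b * b ∈ Cfsg.pCore 2 G ∧ b * b ≠ 1
  meet : ∀ T : Sylow 2 G, T ≠ S → (S : Subgroup G) ⊓ (T : Subgroup G) = Cfsg.pCore 2 G ∨
    (S : Subgroup G) ⊓ (T : Subgroup G) = A ∨ (S : Subgroup G) ⊓ (T : Subgroup G) = B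
  existsA : ∃ T : Sylow 2 G, T ≠ S ∧ (S : Subgroup G) ⊓ (T : Subgroup G) = A
  existsB : ∃ T : Sylow 2 G, T ≠ S ∧ (S : Subgroup G) ⊓ (T : Subgroup G) = B

theorem Duo.swap {S : Sylow 2 G} {A B : Subgroup G} (h : Duo S A B) : Duo S B A :=
  ⟨h.cardB, h.cardA, h.leB, h.leA, fun b hb a ha => (h.comm a ha b hb).symm, by rw [inf_comm]; exact h.inf,
    h.sqB, h.sqA, fun T hT => (h.meet T hT).imp id Or.symm, h.existsB, h.existsA⟩

/-- A kernel of some Sylow subgroup other than the core. -/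
def IsKer (S : Sylow 2 G) (D : Subgroup G) : Prop := ∃ B, Duo S D B

/-- The second kernels at the Sylow subgroups through `A`. -/
def Second (A : Subgroup G) (E : Subgroup G) : Prop := ∃ W : Sylow 2 G, Duo W A E

theorem Duo.ne {S : Sylow 2 G} {A B : Subgroup G} (hP : Nat.card ↥(Cfsg.pCore 2 G) = 2) (h : Duo S A B) :
    A ≠ B := fun e => by
  have h1 := h.cardA
  have h2 := h.inf
  rw [← e, inf_idem] at h2
  rw [h2, hP] at h1
  omega

namespace GridData

variable (hD : GridData G)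
include hD

theorem exists_duo (S : Sylow 2 G) : ∃ A B, Duo S A B := by
  obtain ⟨-, A, B, h1, h2, h3, h4, h5, h6, h7, h8, h9, h10, h11⟩ := hD.sylow S
  exact ⟨A, B, ⟨h1, h2, h3, h4, h5, h6, h7, h8, h9, h10, h11⟩⟩

theorem duo_pair {S : Sylow 2 G} {A B A' B' : Subgroup G} (h : Duo S A B) (h' : Duo S A' B') :
    A' = A ∧ B' = B ∨ A' = B ∧ B' = A := by
  have hne := h.ne hD.card_core
  have hne' := h'.ne hD.card_core
  have key : ∀ {D : Subgroup G}, Nat.card D = 8 → (∃ T : Sylow 2 G, T ≠ S ∧ (S : Subgroup G) ⊓ (T : Subgroup G) = D) →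
      D = A ∨ D = B := by
    rintro D hD8 ⟨T, hT, rfl⟩
    rcases h.meet T hT with e | e | e
    · rw [e, hD.card_core] at hD8; omega
    · exact Or.inl e
    · exact Or.inr e
  rcases key h'.cardA h'.existsA with e1 | e1 <;> rcases key h'.cardB h'.existsB with e2 | e2
  · exact absurd (e1.trans e2.symm) hne'
  · exact Or.inl ⟨e1, e2⟩
  · exact Or.inr ⟨e1, e2⟩
  · exact absurd (e1.trans e2.symm) hne'

theorem duo_right {S : Sylow 2 G} {A B B' : Subgroup G} (h : Duo S A B) (h' : Duo S A B') : B' = B := by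
  rcases hD.duo_pair h h' with ⟨-, e⟩ | ⟨e, -⟩
  · exact e
  · exact absurd e (h.ne hD.card_core)

theorem isKer_cases {S : Sylow 2 G} {A B D : Subgroup G} (h : Duo S A B) (h' : IsKer S D) : D = A ∨ D = B := by
  obtain ⟨B', h'⟩ := h'
  exact (hD.duo_pair h h').imp And.left And.left

/-- The product of the two kernels is the Sylow subgroup. -/
theorem sup_eq {S : Sylow 2 G} {A B : Subgroup G} (h : Duo S A B) : A ⊔ B = (S : Subgroup G) := by
  refine eq_of_le_of_card_ge (sup_le h.leA h.leB) ?_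
  rw [(hD.sylow S).1]
  have h1 : A.relIndex B = 4 := by
    have e := ((A ⊓ B).subgroupOf B).card_mul_index
    rw [Nat.card_congr (subgroupOfEquivOfLe inf_le_right).toEquiv, h.cardB,
      show ((A ⊓ B).subgroupOf B).index = A.relIndex B from inf_relIndex_right A B, h.inf, hD.card_core] at e
    omega
  have h2 : A.relIndex B ≤ A.relIndex (A ⊔ B) := relIndex_le_of_le_right le_sup_right (by
    unfold Subgroup.relIndex; exact index_ne_zero_of_finite)
  have h3 := (A.subgroupOf (A ⊔ B)).card_mul_index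
  rw [Nat.card_congr (subgroupOfEquivOfLe le_sup_left).toEquiv, h.cardA] at h3
  unfold Subgroup.relIndex at h1 h2
  omega

/-- A Sylow subgroup containing a kernel has it as a kernel. -/
theorem isKer_of_le {S : Sylow 2 G} {A B : Subgroup G} (h : Duo S A B) {T : Sylow 2 G} (hAT : A ≤ (T : Subgroup G)) :
    ∃ B', Duo T A B' := by
  rcases eq_or_ne T S with rfl | hne
  · exact ⟨B, h⟩
  have hST : (S : Subgroup G) ⊓ (T : Subgroup G) = A := by
    have hle : A ≤ (S : Subgroup G) ⊓ (T : Subgroup G) := le_inf h.leA hAT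
    rcases h.meet T hne with e | e | e
    · have h2 := card_le_of_le (e ▸ hle)
      rw [h.cardA, hD.card_core] at h2
      omega
    · exact e
    · exfalso
      rw [e] at hle
      exact h.ne hD.card_core (eq_of_le_of_card_ge hle (by rw [h.cardA, h.cardB]))
  obtain ⟨C, C', hC⟩ := hD.exists_duo T
  rcases hC.meet S hne.symm with e | e | e <;> rw [inf_comm, hST] at e
  · exfalso
    have h2 := congrArg (fun K : Subgroup G => Nat.card K) e
    simp only [h.cardA, hD.card_core] at h2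
    omega
  · exact ⟨C', e ▸ hC⟩
  · exact ⟨C, e ▸ hC.swap⟩

/-- An element of a kernel outside the core lies only in the Sylow subgroups through it. -/
theorem le_of_mem {S : Sylow 2 G} {A B : Subgroup G} (h : Duo S A B) {w : G} (hw : w ∈ A)
    (hwP : w ∉ Cfsg.pCore 2 G) {T : Sylow 2 G} (hwT : w ∈ (T : Subgroup G)) : A ≤ (T : Subgroup G) := by
  rcases eq_or_ne T S with rfl | hne
  · exact h.leA
  have hw' : w ∈ (S : Subgroup G) ⊓ (T : Subgroup G) := ⟨h.leA hw, hwT⟩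
  rcases h.meet T hne with e | e | e
  · exact absurd (e ▸ hw') hwP
  · exact e ▸ inf_le_right
  · exfalso
    have : w ∈ A ⊓ B := ⟨hw, e ▸ hw'⟩
    exact hwP (h.inf ▸ this)

theorem exists_outside {S : Sylow 2 G} {A B : Subgroup G} (h : Duo S A B) : ∃ w ∈ A, w ∉ Cfsg.pCore 2 G := by
  by_contra hno
  push Not at hno
  have h1 := card_le_of_le (show A ≤ Cfsg.pCore 2 G from hno)
  rw [h.cardA, hD.card_core] at h1
  omega

theorem core_sq {p : G} (hp : p ∈ Cfsg.pCore 2 G) : p * p = 1 := by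
  have h := Subgroup.orderOf_dvd_natCard (Cfsg.pCore 2 G) hp
  rw [hD.card_core] at h
  rw [← pow_two]
  exact orderOf_dvd_iff_pow_eq_one.1 h

/-- A Sylow subgroup off `A` and its image under an element of `A` share a kernel meeting `A`. -/
theorem cover {S : Sylow 2 G} {A B : Subgroup G} (h : Duo S A B) {V : Sylow 2 G}
    (hV : ¬ A ≤ (V : Subgroup G)) :
    ∃ w ∈ A, w • V ≠ V ∧ ∃ E, Second A E ∧ E ≤ (V : Subgroup G) ∧ IsKer V E ∧ E = (V : Subgroup G) ⊓ ((w • V : Sylow 2 G) : Subgroup G) := by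
  haveI := Fact.mk Nat.prime_two
  obtain ⟨w, hwA, hwP⟩ := hD.exists_outside h
  suffices hmain : w • V ≠ V → ∃ E, Second A E ∧ E ≤ (V : Subgroup G) ∧ IsKer V E ∧
      E = (V : Subgroup G) ⊓ ((w • V : Sylow 2 G) : Subgroup G) by
    have hne : w • V ≠ V := fun e => hV (hD.le_of_mem h hwA hwP (mem_sylow_of_smul_eq (n := 2) (by
      obtain ⟨hww, -⟩ := h.sqA w hwA hwP
      rw [show (2 : ℕ) ^ 2 = 2 * 2 from rfl, pow_mul, pow_two, pow_two, hD.core_sq hww]) e))
    exact ⟨w, hwA, hne, hmain hne⟩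
  intro hne
  set P := Cfsg.pCore 2 G with hP
  obtain ⟨hww, hww1⟩ := h.sqA w hwA hwP
  have hcen : ∀ {p : G}, p ∈ P → ∀ g : G, g * p = p * g := fun hp g => hD.central.comm_core hp g
  have hPle : ∀ U : Sylow 2 G, P ≤ (U : Subgroup G) := fun U => CfsgLib.HallGen.pCore_le_sylow U
  obtain ⟨z, hz, hz2⟩ := hD.central.exists_z
  have hw4 : w ^ 2 ^ 2 = 1 := by
    rw [show (2 : ℕ) ^ 2 = 2 * 2 from rfl, pow_mul, pow_two, pow_two, hD.core_sq hww]
  -- an involution of the first kind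
  obtain ⟨C₁, C₂, hC⟩ := hD.exists_duo V
  obtain ⟨c₁, hc₁, hc₁P⟩ := hD.exists_outside hC
  obtain ⟨c₂, hc₂, hc₂P⟩ := hD.exists_outside hC.swap
  obtain ⟨hs₁, hs₁'⟩ := hC.sqA c₁ hc₁ hc₁P
  obtain ⟨hs₂, hs₂'⟩ := hC.sqB c₂ hc₂ hc₂P
  have hPeq : ∀ {p q : G}, p ∈ P → q ∈ P → p ≠ 1 → q ≠ 1 → p = q := by
    intro p q hp hq hp1 hq1
    rcases hD.central.core_sq_one hz hz2 hp (hD.core_sq hp) with e | e
    · exact absurd e hp1
    rcases hD.central.core_sq_one hz hz2 hq (hD.core_sq hq) with e' | e'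
    · exact absurd e' hq1
    exact e.trans e'.symm
  set i := c₁ * c₂ with hi
  have hii : i * i = 1 := by
    rw [hi, mul_assoc, ← mul_assoc c₂, ← hC.comm c₁ hc₁ c₂ hc₂, mul_assoc c₁ c₂ c₂, ← mul_assoc,
      hPeq hs₁ hs₂ hs₁' hs₂', hD.core_sq hs₂]
  have hiV : i ∈ (V : Subgroup G) := mul_mem (hC.leA hc₁) (hC.leB hc₂)
  have hiP : i ∉ P := fun hi' => hc₁P (by
    have h1 : c₁ ∈ C₁ ⊓ C₂ := ⟨hc₁, by
      rw [show c₁ = i * c₂⁻¹ by rw [hi, mul_inv_cancel_right]]
      show i * c₂⁻¹ ∈ C₂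
      exact mul_mem (show i ∈ C₂ from (hC.inf.ge.trans inf_le_right) hi') (inv_mem hc₂)⟩
    rwa [hC.inf] at h1)
  have hi2 : orderOf i = 2 := orderOf_eq_two_of (fun e => hiP (e ▸ one_mem P)) hii
  -- the dihedral group
  set x : Q G := pr w * pr i with hx
  have hwb : pr w * pr w = (1 : Q G) := by rw [← map_mul]; exact pr_eq_one_iff.2 hww
  have hib : pr i * pr i = (1 : Q G) := by rw [← map_mul, hii, map_one]
  have hinvw : (pr w : Q G)⁻¹ = pr w := inv_eq_of_mul_eq_one_right hwb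
  have hinvi : (pr i : Q G)⁻¹ = pr i := inv_eq_of_mul_eq_one_right hib
  have hxw : pr w * x * pr w = x⁻¹ := by
    rw [hx, mul_inv_rev, hinvw, hinvi, ← mul_assoc, hwb, one_mul]
  have hxi : pr i * x * pr i = x⁻¹ := by
    rw [hx, mul_inv_rev, hinvw, hinvi, mul_assoc, mul_assoc (pr w : Q G), hib, mul_one]
  have hpow : ∀ {y : Q G}, y * y = 1 → y * x * y = x⁻¹ → ∀ n : ℕ, y * x ^ n * y = (x ^ n)⁻¹ := by
    intro y hy hyx n
    induction n with
    | zero => simpa using hy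
    | succ n ih =>
      calc y * x ^ (n + 1) * y = (y * x ^ n * y) * (y * x * y) := by
            rw [pow_succ]
            calc y * (x ^ n * x) * y = y * x ^ n * (y * y) * x * y := by rw [hy]; group
              _ = _ := by group
        _ = (x ^ n)⁻¹ * x⁻¹ := by rw [ih, hyx]
        _ = (x ^ (n + 1))⁻¹ := by rw [← mul_inv_rev, ← pow_succ']
  obtain ⟨m, hm⟩ : ∃ m, orderOf x = 2 * m := by
    rcases Nat.even_or_odd (orderOf x) with ⟨m, hm⟩ | ⟨m, hm⟩
    · exact ⟨m, by rw [hm, two_mul]⟩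
    exfalso
    obtain ⟨g, hg⟩ := pr_surjective (pr i * x ^ m)
    have hxpow : x ^ m * x ^ m * x = 1 := by
      rw [← pow_add, ← pow_succ, ← two_mul, ← hm, pow_orderOf_eq_one]
    have hconj : pr g * pr i * (pr g : Q G)⁻¹ = pr w := by
      have h1 : pr i * (x ^ m)⁻¹ = x ^ m * pr i := by
        rw [← hpow hib hxi m, ← mul_assoc, ← mul_assoc, hib, one_mul]
      have h2 : x ^ m * x ^ m = x⁻¹ := eq_inv_of_mul_eq_one_left hxpow
      rw [hg]
      calc pr i * x ^ m * pr i * (pr i * x ^ m)⁻¹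
          = pr i * x ^ m * (pr i * (x ^ m)⁻¹) * (pr i)⁻¹ := by group
        _ = pr i * (x ^ m * x ^ m) * (pr i * (pr i : Q G)⁻¹) := by rw [h1]; group
        _ = pr w := by
          rw [h2, mul_inv_cancel, mul_one, hx, mul_inv_rev, hinvw, hinvi, ← mul_assoc, hib, one_mul]
    obtain ⟨p, hp, he⟩ : ∃ p ∈ P, w = g * i * g⁻¹ * p :=
      ⟨(g * i * g⁻¹)⁻¹ * w, pr_eq_iff.1 (by rw [map_mul, map_mul, map_inv, hconj]), by group⟩
    refine hww1 ?_
    rw [he, mul_assoc (g * i * g⁻¹), ← mul_assoc p, ← hcen hp (g * i * g⁻¹), mul_assoc (g * i * g⁻¹) p p,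
      hD.core_sq hp, mul_one, show g * i * g⁻¹ * (g * i * g⁻¹) = g * (i * i) * g⁻¹ by group, hii, mul_one,
      mul_inv_cancel]
  obtain ⟨u, hu⟩ := pr_surjective (x ^ m)
  have hxm2 : x ^ m * x ^ m = 1 := by rw [← pow_add, ← two_mul, ← hm, pow_orderOf_eq_one]
  have hxm1 : x ^ m ≠ 1 := fun e => by
    have h0 := orderOf_pos x
    have := Nat.le_of_dvd (by omega) (orderOf_dvd_of_pow_eq_one e)
    omega
  have huu : u * u ∈ P := pr_eq_one_iff.1 (by rw [map_mul, hu, hxm2])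
  have huP : u ∉ P := fun e => hxm1 (hu.symm.trans (pr_eq_one_iff.2 e))
  have hu4 : u ^ 2 ^ 2 = 1 := by
    rw [show (2 : ℕ) ^ 2 = 2 * 2 from rfl, pow_mul, pow_two, pow_two, hD.core_sq huu]
  have hcomm : ∀ {y : Q G}, y * y = 1 → y * x * y = x⁻¹ → x ^ m * y = y * x ^ m := by
    intro y hy hyx
    have h1 := hpow hy hyx m
    rw [inv_eq_of_mul_eq_one_right hxm2] at h1
    calc x ^ m * y = y * x ^ m * y * y := by rw [h1]
      _ = y * x ^ m * (y * y) := by group
      _ = y * x ^ m := by rw [hy, mul_one]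
  have huV : u ∈ (V : Subgroup G) := by
    refine mem_sylow_of_smul_eq hu4 ?_
    have h1 : u * i * u⁻¹ ∈ ((u • V : Sylow 2 G) : Subgroup G) := conj_mem_smul hiV
    have h2 : u * i * u⁻¹ ∈ (V : Subgroup G) := by
      have h3 : i⁻¹ * (u * i * u⁻¹) ∈ P := pr_eq_iff.1 (by
        rw [map_mul (pr : G →* Q G) (u * i) u⁻¹, map_mul (pr : G →* Q G) u i, map_inv, hu, hcomm hib hxi, mul_inv_cancel_right])
      simpa using mul_mem hiV (hPle V h3)
    exact (hD.central.small _ _ z (u * i * u⁻¹) hz2 (by rw [orderOf_conj, hi2])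
      (fun e => hiP (by
        rw [show i = u⁻¹ * (u * i * u⁻¹) * u by group, ← e, mul_assoc, ← hcen hz u, inv_mul_cancel_left]
        exact hz))
      (hcen hz _).symm (hPle _ hz) h1 (hPle _ hz) h2)
  have huW : u ∈ ((w • V : Sylow 2 G) : Subgroup G) := by
    rw [mem_smul_iff]
    have h3 : u⁻¹ * (w⁻¹ * u * w) ∈ P := pr_eq_iff.1 (by
      rw [map_mul, map_mul, map_inv, hu, hinvw, mul_assoc, hcomm hwb hxw, ← mul_assoc, hwb, one_mul])
    simpa using mul_mem huV (hPle V h3)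
  -- the shared kernel
  set E := (V : Subgroup G) ⊓ ((w • V : Sylow 2 G) : Subgroup G) with hE
  have hEne : E ≠ P := fun e => huP (e ▸ ⟨huV, huW⟩)
  obtain ⟨E', hE'⟩ : ∃ E', Duo V E E' := by
    rcases hC.meet _ hne with e | e | e
    · exact absurd e hEne
    · exact ⟨C₂, by rw [hE, e]; exact hC⟩
    · exact ⟨C₁, by rw [hE, e]; exact hC.swap⟩
  have hwE : ∀ v ∈ E, w * v * w⁻¹ ∈ E := by
    intro v hv
    refine ⟨?_, conj_mem_smul hv.1⟩
    have h1 : w * (w⁻¹ * v * w) * w⁻¹ = v := by group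
    have h2 := mem_smul_iff.1 hv.2
    rw [show w * v * w⁻¹ = (w * w) * (w⁻¹ * v * w) * (w * w)⁻¹ by group, ← hcen hww, mul_inv_cancel_right]
    exact h2
  -- a Sylow subgroup through `w` and `E`
  have hnorm : zpowers w ≤ normalizer (E : Set G) := by
    rw [zpowers_le, mem_normalizer_iff]
    refine fun v => ⟨hwE v, fun hv => ?_⟩
    have h1 := hwE _ (hwE _ hv)
    rw [show w * (w * (w * v * w⁻¹) * w⁻¹) * w⁻¹ = (w * w) * (w * v * w⁻¹) * (w * w)⁻¹ by group, ← hcen hww,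
      mul_inv_cancel_right] at h1
    have h2 := hwE _ hv
    rw [show v = (w * w)⁻¹ * (w * (w * v * w⁻¹) * w⁻¹) * (w * w) by group,
      hcen hww, mul_inv_cancel_left]
    exact h2
  have hzw : IsPGroup 2 (zpowers w) := by
    intro v
    obtain ⟨j, hj⟩ := mem_zpowers_iff.1 v.2
    refine ⟨2, Subtype.ext ?_⟩
    rw [coe_pow, coe_one, ← hj, ← zpow_natCast, ← zpow_mul, mul_comm, zpow_mul, zpow_natCast, hw4, one_zpow]
  obtain ⟨W, hW⟩ := ((V.isPGroup'.to_le (hE ▸ inf_le_left : E ≤ (V : Subgroup G))).to_sup_of_normal_left'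
    hzw hnorm).exists_le_sylow
  obtain ⟨B', hB'⟩ := hD.isKer_of_le h (hD.le_of_mem h hwA hwP (hW (mem_sup_right (mem_zpowers w))))
  obtain ⟨D₂, hD₂⟩ := hD.isKer_of_le hE' (le_sup_left.trans hW)
  refine ⟨E, ⟨W, ?_⟩, inf_le_left, ⟨E', hE'⟩, rfl⟩
  rcases hD.isKer_cases hB' ⟨D₂, hD₂⟩ with e | e
  · exact absurd (e ▸ hE'.leA) hV
  · exact e ▸ hB'

/-- Off `A`, the kernel meeting `A` is unique. -/
theorem second_unique {S : Sylow 2 G} {A B : Subgroup G} (h : Duo S A B) {V : Sylow 2 G}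
    (hV : ¬ A ≤ (V : Subgroup G)) {E E' : Subgroup G} (hE : Second A E) (hE' : Second A E')
    (hEV : E ≤ (V : Subgroup G)) (hE'V : E' ≤ (V : Subgroup G)) : E = E' := by
  obtain ⟨w, hwA, hne, E₀, -, -, -, hE₀⟩ := hD.cover h hV
  have key : ∀ {E : Subgroup G}, Second A E → E ≤ (V : Subgroup G) → E ≤ E₀ := by
    rintro E ⟨W, hW⟩ hEV v hv
    rw [hE₀]
    refine ⟨hEV hv, mem_smul_iff.2 ?_⟩
    rw [mul_assoc, ← hW.comm w hwA v hv, inv_mul_cancel_left]
    exact hEV hv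
  obtain ⟨W, hW⟩ := hE
  obtain ⟨W', hW'⟩ := hE'
  have e1 := key ⟨W, hW⟩ hEV
  have e2 := key ⟨W', hW'⟩ hE'V
  obtain ⟨C₁, C₂, hC⟩ := hD.exists_duo V
  obtain ⟨D₁, hD₁⟩ := hD.isKer_of_le hW.swap hEV
  have h8 : Nat.card E₀ ≤ 8 := by
    rcases hC.meet _ hne with e | e | e <;> rw [hE₀, e]
    · rw [hD.card_core]; norm_num
    · exact hC.cardA.le
    · exact hC.cardB.le
  exact (eq_of_le_of_card_ge e1 (by rw [hW.cardB]; exact h8)).trans
    (eq_of_le_of_card_ge e2 (by rw [hW'.cardB]; exact h8)).symm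

theorem eq_of_le_both {S T : Sylow 2 G} {A B : Subgroup G} (h : Duo S A B) (hA : A ≤ (T : Subgroup G))
    (hB : B ≤ (T : Subgroup G)) : T = S := by
  haveI := Fact.mk Nat.prime_two
  refine (Sylow.ext (eq_of_le_of_card_ge ((hD.sup_eq h) ▸ sup_le hA hB) ?_)).symm
  rw [(hD.sylow S).1, (hD.sylow T).1]

/-- A second kernel over `A` and one over `B` are the kernels of one Sylow subgroup. -/
theorem second_meet {S : Sylow 2 G} {A B A' B' : Subgroup G} (h : Duo S A B) (hA' : Second B A')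
    (hB' : Second A B') : ∃ W, Duo W A' B' := by
  obtain ⟨U, hU⟩ := hA'
  obtain ⟨T, hT⟩ := hB'
  rcases eq_or_ne U S with rfl | hUS
  · exact ⟨T, by rw [hD.duo_right h.swap hU]; exact hT⟩
  rcases eq_or_ne T S with rfl | hTS
  · exact ⟨U, by rw [hD.duo_right h hT]; exact hU.swap⟩
  have hAU : ¬ A ≤ (U : Subgroup G) := fun e => hUS (hD.eq_of_le_both h e hU.leA)
  by_cases hA'T : A' ≤ (T : Subgroup G)
  · exfalso
    obtain ⟨X, hX⟩ := hD.isKer_of_le hU.swap hA'T
    rcases hD.isKer_cases hT ⟨X, hX⟩ with e | e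
    · exact hAU (e ▸ hU.leB)
    · have e2 := hD.second_unique h hAU ⟨S, h⟩ ⟨T, hT⟩ hU.leA (e ▸ hU.leB)
      exact hTS (hD.eq_of_le_both h hT.leA (e2 ▸ hT.leB))
  · obtain ⟨-, -, -, E, ⟨W, hW⟩, hET, hEker, -⟩ := hD.cover hU.swap hA'T
    rcases hD.isKer_cases hT hEker with e | e
    · exfalso
      exact hU.ne hD.card_core (hD.second_unique h hAU ⟨S, h⟩ ⟨W, (e ▸ hW : Duo W A' A).swap⟩ hU.leA hU.leB)
    · exact ⟨W, e ▸ hW⟩

/-- There are no kernels but the two families. -/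
theorem second_or_second {S : Sylow 2 G} {A B : Subgroup G} (h : Duo S A B) {V : Sylow 2 G} {D : Subgroup G}
    (hVD : IsKer V D) : Second A D ∨ Second B D := by
  by_cases hAV : A ≤ (V : Subgroup G)
  · obtain ⟨X, hX⟩ := hD.isKer_of_le h hAV
    rcases hD.isKer_cases hX hVD with e | e
    · exact Or.inr ⟨S, e.symm ▸ h.swap⟩
    · exact Or.inl ⟨V, e.symm ▸ hX⟩
  obtain ⟨-, -, -, E, hE, hEV, ⟨F, hF⟩, -⟩ := hD.cover h hAV
  rcases hD.isKer_cases hF hVD with e | e
  · exact Or.inl (e.symm ▸ hE)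
  subst e
  by_cases hFS : D ≤ (S : Subgroup G)
  · obtain ⟨X, hX⟩ := hD.isKer_of_le hF.swap hFS
    rcases hD.isKer_cases h ⟨X, hX⟩ with e | e
    · exact absurd (e ▸ hF.leB) hAV
    · exact absurd (hD.second_unique h hAV hE ⟨S, e.symm ▸ h⟩ hEV hF.leB) (hF.ne hD.card_core)
  obtain ⟨-, -, -, X, ⟨W, hW⟩, hXS, hXker, -⟩ := hD.cover hF.swap hFS
  rcases hD.isKer_cases h hXker with e | e
  · exact absurd (hD.second_unique h hAV hE ⟨W, (e ▸ hW : Duo W D A).swap⟩ hEV hF.leB) (hF.ne hD.card_core)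
  · exact Or.inr ⟨W, (e ▸ hW : Duo W D B).swap⟩

end GridData

end CfsgLib.RankOneInter
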