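import Cfsg.Agent.Lib.Invol.RankOneInter.Central.Basic

/-!
Owner: helper5. The interface of the line data in the central case.

* `Rk S T`: the part of `S` normalising `S ⊓ T`.
* `LineData`: the local data on the line through `S` and `T`, read in `G`.
* `Lined G`: every line has such data, and lines meet in at most one point.
-/

set_option autoImplicit false

namespace CfsgLib.RankOneInter

open Subgroup

universe u

variable {G : Type u} [Group G] [Finite G]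

/-- The part of `S` normalising `S ⊓ T`. -/
abbrev Rk (S T : Sylow 2 G) : Subgroup G :=
  (S : Subgroup G) ⊓ normalizer (((S : Subgroup G) ⊓ (T : Subgroup G) : Subgroup G) : Set G)

/-- The local data on the line through `S` and `T`. -/
structure LineData (z : G) (q : ℕ) (S T : Sylow 2 G) (g : G) (J : Subgroup G) : Prop where
  le : J ≤ Rk S T
  z_mem : ∀ j ∈ J, j ∈ (S : Subgroup G) ⊓ (T : Subgroup G) → j = 1 ∨ j = z
  cent : ∀ j ∈ J, ∀ d ∈ (S : Subgroup G) ⊓ (T : Subgroup G), j * d = d * j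
  inner : ∀ s ∈ Rk S T, ∃ d ∈ (S : Subgroup G) ⊓ (T : Subgroup G), ∀ e ∈ (S : Subgroup G) ⊓ (T : Subgroup G),
    d⁻¹ * s * e = e * (d⁻¹ * s)
  sq_iff : ∀ s ∈ Rk S T, s * s ∈ (S : Subgroup G) ⊓ (T : Subgroup G) ↔
    ∃ j ∈ J, ∃ d ∈ (S : Subgroup G) ⊓ (T : Subgroup G), s = j * d
  kind : ((∀ j ∈ J, j * j = 1) ∧ Nat.card J = q ∧ J ⊓ ((S : Subgroup G) ⊓ (T : Subgroup G)) = ⊥) ∨
    (q = 4 ∧ Nat.card J = 8 ∧ ∀ j ∈ J, j ≠ 1 → j ≠ z → j * j = z)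
  comm : ∀ s ∈ Rk S T, ∀ t ∈ Rk S T, ∃ j ∈ J, ∃ d ∈ (S : Subgroup G) ⊓ (T : Subgroup G),
    s * t * s⁻¹ * t⁻¹ = j * d
  abel : (∀ s ∈ Rk S T, ∀ t ∈ Rk S T, s * t * s⁻¹ * t⁻¹ ∈ (S : Subgroup G) ⊓ (T : Subgroup G)) →
    Nat.card ↥(Rk S T) = q * Nat.card ↥((S : Subgroup G) ⊓ (T : Subgroup G))
  trans : ∀ U : Sylow 2 G, (S : Subgroup G) ⊓ (T : Subgroup G) ≤ (U : Subgroup G) → U ≠ S →
    ∃ x ∈ Rk S T, x • T = U
  odd : Odd (orderOf g)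
  fix_S : g • S = S
  fix_T : g • T = T
  g_cent : ∀ d ∈ (S : Subgroup G) ⊓ (T : Subgroup G), g * d = d * g
  g_J : ∀ j ∈ J, g * j * g⁻¹ ∈ J
  g_trans : ∀ j ∈ J, ∀ j' ∈ J, j ∉ (S : Subgroup G) ⊓ (T : Subgroup G) →
    j' ∉ (S : Subgroup G) ⊓ (T : Subgroup G) →
    ∃ i : ℕ, (g ^ i * j * (g ^ i)⁻¹)⁻¹ * j' ∈ (S : Subgroup G) ⊓ (T : Subgroup G)
  g_fix : ∀ (i : ℕ) (s : G), s ∈ (S : Subgroup G) ∨ s ∈ (T : Subgroup G) →
    s ∈ normalizer (((S : Subgroup G) ⊓ (T : Subgroup G) : Subgroup G) : Set G) →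
    s * s ∈ (S : Subgroup G) ⊓ (T : Subgroup G) → s ∉ (S : Subgroup G) ⊓ (T : Subgroup G) →
    (g ^ i * s * (g ^ i)⁻¹)⁻¹ * s ∈ (S : Subgroup G) ⊓ (T : Subgroup G) → ∀ j ∈ J, g ^ i * j = j * g ^ i
  g_third : ∀ (i : ℕ) (U : Sylow 2 G), (S : Subgroup G) ⊓ (T : Subgroup G) ≤ (U : Subgroup G) → U ≠ S → U ≠ T →
    g ^ i • U = U → ∀ j ∈ J, g ^ i * j = j * g ^ i

/-- Lines meet in at most one point, and every line has data. -/
structure Lined (G : Type u) [Group G] [Finite G] : Prop where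
  meet : ∀ S T U : Sylow 2 G, S ≠ T → ∀ x ∈ (S : Subgroup G), x ∈ (T : Subgroup G) → x ∈ (U : Subgroup G) →
    x ∉ Cfsg.pCore 2 G → (S : Subgroup G) ⊓ (T : Subgroup G) ≤ (U : Subgroup G)
  data : ∀ z ∈ Cfsg.pCore 2 G, orderOf z = 2 → ∀ S T : Sylow 2 G, T ≠ S →
    (S : Subgroup G) ⊓ (T : Subgroup G) ≠ Cfsg.pCore 2 G →
    ∃ q g J, (∃ n, 2 ≤ n ∧ q = 2 ^ n) ∧ LineData z q S T g J

end CfsgLib.RankOneInter
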