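import Cfsg.Agent.Lib.Invol.RankOneInter.Central.X
import Cfsg.Agent.Lib.Invol.RankOneInter.Central.LineDefs
import Cfsg.Agent.Lib.Invol.RankOneInter.Final.TI

/-!
Owner: helper5. The image of a line in the quotient by the core.

* `quaternion_facts`: a noncyclic 2-group with one involution is generated by elements of order four, and has order
  eight if it is nilpotent of class two.
* `card_map_pr`: the order of an image.
* `Beta G z`: every element of the `J` of a line is of the first kind; then `pr J` is `Ee S`.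
* `line_abel`, `line_gen`: the image of a kernel.
-/

set_option autoImplicit false
set_option linter.style.haveILetI false
set_option linter.unusedSectionVars false

namespace CfsgLib.RankOneInter

open Subgroup
open CfsgLib.Signalizer (involution_sq involution_inv orderOf_eq_two_of involution_ne_one orderOf_conj)

universe u

/-- A noncyclic 2-group with one involution. -/
theorem quaternion_facts {P : Type u} [Group P] [Finite P] (hP : IsPGroup 2 P) (hnc : ¬ IsCyclic P)
    (hu : ∀ x y : P, orderOf x = 2 → orderOf y = 2 → x = y) :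
    closure {x : P | orderOf (x * x) = 2} = ⊤ ∧
      ((∀ a b c : P, c * (a * b * a⁻¹ * b⁻¹) = a * b * a⁻¹ * b⁻¹ * c) → Nat.card P = 8) ∧
      ∀ w : P, (∀ v, v * w = w * v) → w * w = 1 := by
  obtain ⟨n, ⟨e⟩⟩ := Final.quaternion_of_unique hP hnc hu
  obtain ⟨m, hm⟩ : ∃ m, m = 2 ^ (n + 1) := ⟨_, rfl⟩
  obtain ⟨e⟩ : Nonempty (P ≃* QuaternionGroup m) := ⟨hm ▸ e⟩
  have hm2 : 2 ≤ m := hm ▸ Nat.le_self_pow (by omega) 2
  haveI : NeZero m := ⟨by omega⟩
  have hmm : (m : ZMod (2 * m)) + (m : ZMod (2 * m)) = 0 := by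
    rw [← Nat.cast_add, ← two_mul, ZMod.natCast_self]
  have hm0 : (m : ZMod (2 * m)) ≠ 0 := by
    rw [Ne, ZMod.natCast_eq_zero_iff]
    intro h; have := Nat.le_of_dvd (by omega) h; omega
  have ham : orderOf (QuaternionGroup.a (m : ZMod (2 * m))) = 2 := by
    refine orderOf_eq_two_of ?_ ?_
    · rw [QuaternionGroup.one_def, Ne, QuaternionGroup.a.injEq]; exact hm0
    · rw [QuaternionGroup.a_mul_a, hmm, QuaternionGroup.one_def]
  have hxa : ∀ i : ZMod (2 * m), e.symm (QuaternionGroup.xa i) ∈ {x : P | orderOf (x * x) = 2} := by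
    intro i
    show orderOf (e.symm (QuaternionGroup.xa i) * e.symm (QuaternionGroup.xa i)) = 2
    rw [← map_mul, MulEquiv.orderOf_eq, QuaternionGroup.xa_mul_xa, add_sub_cancel_right]
    exact ham
  refine ⟨eq_top_iff.2 fun x _ => ?_, fun h => ?_, fun w hw => ?_⟩
  · rw [← e.symm_apply_apply x]
    cases e x with
    | xa i => exact subset_closure (hxa i)
    | a i =>
      have : QuaternionGroup.a i = QuaternionGroup.xa 0 * QuaternionGroup.xa (i - (m : ZMod (2 * m))) := by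
        rw [QuaternionGroup.xa_mul_xa]; congr 1; abel
      rw [this, map_mul]
      exact mul_mem (subset_closure (hxa _)) (subset_closure (hxa _))
  · have h1 := congrArg e (h (e.symm (.a 1)) (e.symm (.xa 0)) (e.symm (.xa 0)))
    simp only [map_mul, map_inv, e.apply_symm_apply] at h1
    have h2 : QuaternionGroup.a (1 : ZMod (2 * m)) * QuaternionGroup.xa 0 * (QuaternionGroup.a 1)⁻¹ *
        (QuaternionGroup.xa 0)⁻¹ = QuaternionGroup.a 2 := by
      rw [mul_inv_eq_iff_eq_mul, mul_inv_eq_iff_eq_mul, QuaternionGroup.a_mul_xa, QuaternionGroup.a_mul_xa,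
        QuaternionGroup.xa_mul_a]
      congr 1; ring
    rw [h2, QuaternionGroup.xa_mul_a, QuaternionGroup.a_mul_xa, QuaternionGroup.xa.injEq] at h1
    have h4 : ((4 : ℕ) : ZMod (2 * m)) = 0 := by push_cast; linear_combination h1
    rw [ZMod.natCast_eq_zero_iff] at h4
    have h5 := Nat.le_of_dvd (by norm_num) h4
    rw [Nat.card_congr e.toEquiv, Nat.card_eq_fintype_card, QuaternionGroup.card]
    omega
  · have hc : ∀ v : QuaternionGroup m, v * e w = e w * v := fun v => by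
      have h1 := congrArg e (hw (e.symm v))
      rwa [map_mul, map_mul, e.apply_symm_apply] at h1
    refine e.injective ?_
    rw [map_mul, map_one]
    cases hw' : e w with
    | a i =>
      have h1 := hc (.xa 0)
      rw [hw', QuaternionGroup.xa_mul_a, QuaternionGroup.a_mul_xa, QuaternionGroup.xa.injEq] at h1
      rw [QuaternionGroup.a_mul_a, QuaternionGroup.one_def, QuaternionGroup.a.injEq]
      linear_combination h1
    | xa i =>
      have h1 := hc (.a 1)
      rw [hw', QuaternionGroup.a_mul_xa, QuaternionGroup.xa_mul_a, QuaternionGroup.xa.injEq] at h1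
      have h2 : ((2 : ℕ) : ZMod (2 * m)) = 0 := by push_cast; linear_combination -h1
      rw [ZMod.natCast_eq_zero_iff] at h2
      have := Nat.le_of_dvd two_pos h2
      omega

variable {G : Type u} [Group G] [Finite G]

theorem card_map_pr {H : Subgroup G} (hH : Cfsg.pCore 2 G ≤ H) :
    Nat.card (H.map pr) * Nat.card ↥(Cfsg.pCore 2 G) = Nat.card H := by
  have h2 : ((pr : G →* Q G).subgroupMap H).ker = (Cfsg.pCore 2 G).subgroupOf H := by
    ext ⟨x, hx⟩
    rw [MonoidHom.mem_ker, mem_subgroupOf, Subtype.ext_iff]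
    exact pr_eq_one_iff
  have h3 := ((pr : G →* Q G).subgroupMap H).ker.card_mul_index
  rw [Subgroup.index_ker, MonoidHom.range_eq_top.2 (MonoidHom.subgroupMap_surjective _ _), card_top, h2,
    Nat.card_congr (subgroupOfEquivOfLe hH).toEquiv, mul_comm] at h3
  exact h3

theorem core_le_meet (S T : Sylow 2 G) : Cfsg.pCore 2 G ≤ (S : Subgroup G) ⊓ (T : Subgroup G) :=
  le_inf (HallGen.pCore_le_sylow S) (HallGen.pCore_le_sylow T)

theorem map_meet (S T : Sylow 2 G) :
    ((S : Subgroup G) ⊓ (T : Subgroup G)).map pr = Spt S ⊓ Spt T := by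
  refine le_antisymm (map_inf_le _ _ _) ?_
  rintro x ⟨hS, hT⟩
  obtain ⟨a, rfl⟩ := pr_surjective x
  exact ⟨a, ⟨mem_Spt.1 hS, mem_Spt.1 hT⟩, rfl⟩

/-- Every element of the `J` of a line is of the first kind. -/
def Beta (G : Type u) [Group G] [Finite G] (z : G) : Prop :=
  ∀ (q : ℕ) (S T : Sylow 2 G) (g : G) (J : Subgroup G), T ≠ S →
    (S : Subgroup G) ⊓ (T : Subgroup G) ≠ Cfsg.pCore 2 G → LineData z q S T g J →
    ∀ j ∈ J, j ∉ (S : Subgroup G) ⊓ (T : Subgroup G) → IsI (pr j)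

namespace Central

variable (hC : Central G) {S T : Sylow 2 G} {z g : G} {J : Subgroup G} {q : ℕ}
include hC

/-- A kernel has one involution. -/
theorem kernel_invol (hne : T ≠ S) (hz : z ∈ Cfsg.pCore 2 G) (hz2 : orderOf z = 2) {a : G}
    (ha : a ∈ (S : Subgroup G) ⊓ (T : Subgroup G)) (h : a * a = 1) : a = 1 ∨ a = z := by
  by_contra hno
  push Not at hno
  exact hne.symm (hC.small S T z a hz2 (orderOf_eq_two_of hno.1 h) hno.2.symm (hC.comm_core hz a).symm
    (HallGen.pCore_le_sylow S hz) ha.1 (HallGen.pCore_le_sylow T hz) ha.2)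

/-- A kernel is cyclic, or generated by elements squaring into the core, and small if its image is abelian. -/
theorem kernel_facts (hne : T ≠ S) (hz : z ∈ Cfsg.pCore 2 G) (hz2 : orderOf z = 2)
    (hnc : ¬ IsCyclic ↥((S : Subgroup G) ⊓ (T : Subgroup G))) :
    ((S : Subgroup G) ⊓ (T : Subgroup G) =
        closure {a | a ∈ (S : Subgroup G) ⊓ (T : Subgroup G) ∧ a * a ∈ Cfsg.pCore 2 G}) ∧
      ((∀ a ∈ (S : Subgroup G) ⊓ (T : Subgroup G), ∀ b ∈ (S : Subgroup G) ⊓ (T : Subgroup G),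
          a * b * a⁻¹ * b⁻¹ ∈ Cfsg.pCore 2 G) →
        Nat.card ↥((S : Subgroup G) ⊓ (T : Subgroup G)) = 8 ∧ Nat.card ↥(Cfsg.pCore 2 G) = 2) := by
  classical
  set D := (S : Subgroup G) ⊓ (T : Subgroup G) with hDdef
  have hP := core_le_meet S T
  have hu : ∀ x y : D, orderOf x = 2 → orderOf y = 2 → x = y := by
    intro x y hx hy
    have key : ∀ w : D, orderOf w = 2 → (w : G) = z := fun w hw =>
      (hC.kernel_invol hne hz hz2 w.2 (congrArg Subtype.val (involution_sq hw))).resolve_left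
        fun e => involution_ne_one hw (Subtype.ext e)
    exact Subtype.ext ((key x hx).trans (key y hy).symm)
  obtain ⟨hgen, hcard, hcen⟩ := quaternion_facts (S.isPGroup'.to_le inf_le_left) hnc hu
  refine ⟨le_antisymm (fun a ha => ?_) ((closure_le _).2 fun a ha => ha.1), fun h => ⟨hcard fun a b c => ?_, ?_⟩⟩
  · have h1 : (closure {x : D | orderOf (x * x) = 2}).map D.subtype ≤
        closure {a | a ∈ D ∧ a * a ∈ Cfsg.pCore 2 G} := by
      rw [MonoidHom.map_closure, closure_le]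
      rintro _ ⟨x, hx, rfl⟩
      refine subset_closure ⟨x.2, ?_⟩
      rcases hC.kernel_invol hne hz hz2 (x * x).2 (congrArg Subtype.val (involution_sq hx)) with e | e
      · exact absurd (Subtype.ext e) (involution_ne_one hx)
      · exact (show ((x : G) * x) = z from e) ▸ hz
    rw [hgen] at h1
    exact h1 ⟨⟨a, ha⟩, mem_top _, rfl⟩
  · exact Subtype.ext (hC.comm_core (h a a.2 b b.2) c)
  · rw [Nat.card_eq_two_iff]
    refine ⟨⟨1, one_mem _⟩, ⟨z, hz⟩, fun e => involution_ne_one hz2 (congrArg Subtype.val e).symm,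
      Set.eq_univ_of_forall fun p => ?_⟩
    have h1 : (⟨(p : G), hP p.2⟩ : D) * ⟨(p : G), hP p.2⟩ = 1 :=
      hcen _ fun v => Subtype.ext (hC.comm_core p.2 v)
    rcases hC.core_sq_one hz hz2 p.2 (congrArg Subtype.val h1) with e | e
    · exact Or.inl (Subtype.ext e)
    · exact Or.inr (Subtype.ext e)

theorem line_gen (hne : T ≠ S) (hz : z ∈ Cfsg.pCore 2 G) (hz2 : orderOf z = 2)
    (hab : ∃ d ∈ Spt S ⊓ Spt T, ∃ e ∈ Spt S ⊓ Spt T, d * e ≠ e * d) :
    Spt S ⊓ Spt T = closure {c | c ∈ Spt S ⊓ Spt T ∧ c * c = 1} := by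
  have hnc : ¬ IsCyclic ↥((S : Subgroup G) ⊓ (T : Subgroup G)) := by
    intro hc
    obtain ⟨d, hd, e, he, hde⟩ := hab
    rw [← map_meet] at hd he
    obtain ⟨a, ha, rfl⟩ := hd
    obtain ⟨b, hb, rfl⟩ := he
    obtain ⟨⟨γ, hγ⟩, hgen⟩ := hc.exists_generator
    obtain ⟨k, hk⟩ := hgen ⟨a, ha⟩
    obtain ⟨l, hl⟩ := hgen ⟨b, hb⟩
    refine hde ?_
    rw [← map_mul, ← map_mul, show a = γ ^ k from (congrArg Subtype.val hk).symm,
      show b = γ ^ l from (congrArg Subtype.val hl).symm, ← zpow_add, ← zpow_add, add_comm]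
  refine le_antisymm ?_ ((closure_le _).2 fun c hc => hc.1)
  conv_lhs => rw [← map_meet, (hC.kernel_facts hne hz hz2 hnc).1]
  rw [MonoidHom.map_closure, closure_le]
  rintro _ ⟨a, ⟨ha, hsq⟩, rfl⟩
  exact subset_closure ⟨⟨mem_Spt.2 ha.1, mem_Spt.2 ha.2⟩, by rw [← map_mul]; exact pr_eq_one_iff.2 hsq⟩

theorem line_abel (hne : T ≠ S) (hz : z ∈ Cfsg.pCore 2 G) (hz2 : orderOf z = 2)
    (hab : ∀ d ∈ Spt S ⊓ Spt T, ∀ e ∈ Spt S ⊓ Spt T, d * e = e * d) :
    IsCyclic ↥(Spt S ⊓ Spt T) ∨ Nat.card ↥(Spt S ⊓ Spt T) = 4 := by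
  by_cases hc : IsCyclic ↥((S : Subgroup G) ⊓ (T : Subgroup G))
  · refine Or.inl ?_
    rw [← map_meet]
    haveI := hc
    exact isCyclic_of_surjective ((pr : G →* Q G).subgroupMap _) (MonoidHom.subgroupMap_surjective _ _)
  · refine Or.inr ?_
    obtain ⟨h8, h2⟩ := (hC.kernel_facts hne hz hz2 hc).2 fun a ha b hb => pr_eq_one_iff.1 (by
      rw [map_mul, map_mul, map_mul, map_inv, map_inv,
        hab _ ⟨mem_Spt.2 ha.1, mem_Spt.2 ha.2⟩ _ ⟨mem_Spt.2 hb.1, mem_Spt.2 hb.2⟩]
      group)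
    have h := card_map_pr (core_le_meet S T)
    rw [map_meet, h8, h2] at h
    omega

/-- A lift of an element of the first kind in the centre of `S` fixes every line at `S`. -/
theorem mem_Rk_of_central {a : G} (ha : a ∈ (S : Subgroup G)) (hc : ∀ s ∈ Spt S, s * pr a = pr a * s) :
    a ∈ Rk S T := by
  refine ⟨ha, Bender.mem_normalizer_of_map_conj_eq (eq_of_le_of_card_ge ?_
    (by rw [card_map_of_injective (MulAut.conj a).injective]))⟩
  rintro _ ⟨d, hd, rfl⟩
  show a * d * a⁻¹ ∈ (S : Subgroup G) ⊓ (T : Subgroup G)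
  have h : d⁻¹ * (a * d * a⁻¹) ∈ Cfsg.pCore 2 G := pr_eq_iff.1 (by
    rw [map_mul, map_mul, map_inv, ← hc _ (mem_Spt.2 hd.1), mul_inv_cancel_right])
  simpa using mul_mem hd (core_le_meet S T h)

/-- Without elements of the second kind the elements of the first kind in the centre of `S` are the images of `J`. -/
theorem X1_lift (hz : z ∈ Cfsg.pCore 2 G) (hz2 : orderOf z = 2) (hβ : Beta G z) (hne : T ≠ S)
    (hnt : (S : Subgroup G) ⊓ (T : Subgroup G) ≠ Cfsg.pCore 2 G) (h : LineData z q S T g J) {x : Q G}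
    (hx : x ∈ X1 S) : ∃ j ∈ J, j ∉ (S : Subgroup G) ⊓ (T : Subgroup G) ∧ pr j = x := by
  obtain ⟨a, ha2, rfl, hx1⟩ := id hx.1
  have haS := mem_Spt.1 hx.2.1
  have hP := core_le_meet S T
  obtain ⟨j, hj, d, hd, rfl⟩ := (h.sq_iff a (hC.mem_Rk_of_central haS hx.2.2)).1
    (by rw [involution_sq ha2]; exact one_mem _)
  have haD : j * d ∉ (S : Subgroup G) ⊓ (T : Subgroup G) := fun h' =>
    hne (hC.single hx.1 (mem_Spt.2 h'.2) hx.2.1)
  have hjD : j ∉ (S : Subgroup G) ⊓ (T : Subgroup G) := fun h' => haD (mul_mem h' hd)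
  refine ⟨j, hj, hjD, ?_⟩
  suffices hdP : d ∈ Cfsg.pCore 2 G by rw [map_mul, pr_eq_one_iff.2 hdP, mul_one]
  have hjd : j * j * (d * d) = 1 := by
    calc j * j * (d * d) = j * (j * d) * d := by group
      _ = j * (d * j) * d := by rw [h.cent j hj d hd]
      _ = j * d * (j * d) := by group
      _ = 1 := involution_sq ha2
  -- a lift of square one
  obtain ⟨p, hp, hpd⟩ : ∃ p ∈ Cfsg.pCore 2 G, d * p * (d * p) = 1 := by
    rcases h.kind with ⟨hsq, -, -⟩ | ⟨-, -, hsq⟩
    · refine ⟨1, one_mem _, ?_⟩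
      rw [hsq j hj, one_mul] at hjd
      rwa [mul_one]
    · obtain ⟨b, hb2, hb, -⟩ := hβ q S T g J hne hnt h j hj hjD
      obtain ⟨p, hp, rfl⟩ : ∃ p ∈ Cfsg.pCore 2 G, b = j * p := ⟨_, pr_eq_iff.1 hb.symm, by rw [mul_inv_cancel_left]⟩
      refine ⟨p, hp, ?_⟩
      have hpp : j * j * (p * p) = 1 := by
        calc j * j * (p * p) = j * (j * p) * p := by group
          _ = j * (p * j) * p := by rw [hC.comm_core hp j]
          _ = j * p * (j * p) := by group
          _ = 1 := involution_sq hb2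
      have hzz := involution_sq hz2
      rw [hsq j hj (fun e => hjD (e ▸ one_mem _)) (fun e => hjD (e ▸ hP hz))] at hjd hpp
      have e1 : d * d = z := by rw [eq_inv_of_mul_eq_one_right hjd, involution_inv hz2]
      have e2 : p * p = z := by rw [eq_inv_of_mul_eq_one_right hpp, involution_inv hz2]
      calc d * p * (d * p) = d * (p * d) * p := by group
        _ = d * d * (p * p) := by rw [← hC.comm_core hp d]; group
        _ = 1 := by rw [e1, e2, hzz]
  rcases hC.kernel_invol hne hz hz2 (mul_mem hd (hP hp)) hpd with e | e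
  · rw [eq_inv_of_mul_eq_one_left e]; exact inv_mem hp
  · rw [eq_mul_inv_of_mul_eq e]; exact mul_mem hz (inv_mem hp)

/-- Every element of `J` outside the kernel is such an element. -/
theorem J_mem_X1 (hz : z ∈ Cfsg.pCore 2 G) (hz2 : orderOf z = 2) (hβ : Beta G z) (hne : T ≠ S)
    (hnt : (S : Subgroup G) ⊓ (T : Subgroup G) ≠ Cfsg.pCore 2 G) (h : LineData z q S T g J) {j : G}
    (hj : j ∈ J) (hjD : j ∉ (S : Subgroup G) ⊓ (T : Subgroup G)) : pr j ∈ X1 S := by
  have hbot : Spt S ⊓ Spt T ≠ ⊥ := fun e => hnt (le_antisymm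
    (fun d hd => pr_eq_one_iff.1 (mem_bot.1 (e ▸ ⟨mem_Spt.2 hd.1, mem_Spt.2 hd.2⟩))) (core_le_meet S T))
  obtain ⟨x, hx⟩ := hC.exists_X1 ⟨S, T, hne.symm, hbot⟩ S
  obtain ⟨j₀, hj₀, hj₀D, rfl⟩ := hC.X1_lift hz hz2 hβ hne hnt h hx
  obtain ⟨i, hi⟩ := h.g_trans j₀ hj₀ j hj hj₀D hjD
  have hgi : ∀ n : ℕ, g ^ n • S = S := fun n => by
    induction n with
    | zero => rw [pow_zero, one_smul]
    | succ n ih => rw [pow_succ, mul_smul, h.fix_S, ih]
  have hmem : g ^ i * j₀ * (g ^ i)⁻¹ ∈ J := by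
    clear hi
    induction i with
    | zero => simpa using hj₀
    | succ n ih =>
      have := h.g_J _ ih
      rwa [show g * (g ^ n * j₀ * (g ^ n)⁻¹) * g⁻¹ = g ^ (n + 1) * j₀ * (g ^ (n + 1))⁻¹ by
        rw [pow_succ']; group] at this
  have hP' : (g ^ i * j₀ * (g ^ i)⁻¹)⁻¹ * j ∈ Cfsg.pCore 2 G := by
    rcases h.z_mem _ (mul_mem (inv_mem hmem) hj) hi with e | e <;> rw [e]
    · exact one_mem _
    · exact hz
  rw [← pr_eq_iff.2 hP', map_mul, map_mul, map_inv]
  exact X1_conj (hgi i) hx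

theorem pr_J_eq (hz : z ∈ Cfsg.pCore 2 G) (hz2 : orderOf z = 2) (hβ : Beta G z) (hne : T ≠ S)
    (hnt : (S : Subgroup G) ⊓ (T : Subgroup G) ≠ Cfsg.pCore 2 G) (h : LineData z q S T g J) :
    Ee S = J.map pr := by
  refine le_antisymm ((closure_le _).2 fun x hx => ?_) ?_
  · obtain ⟨j, hj, -, rfl⟩ := hC.X1_lift hz hz2 hβ hne hnt h hx
    exact ⟨j, hj, rfl⟩
  · rintro _ ⟨j, hj, rfl⟩
    by_cases hjD : j ∈ (S : Subgroup G) ⊓ (T : Subgroup G)
    · rcases h.z_mem j hj hjD with rfl | rfl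
      · rw [map_one]; exact one_mem _
      · rw [pr_eq_one_iff.2 hz]; exact one_mem _
    · exact subset_closure (hC.J_mem_X1 hz hz2 hβ hne hnt h hj hjD)

theorem card_Ee (hz : z ∈ Cfsg.pCore 2 G) (hz2 : orderOf z = 2) (hβ : Beta G z) (hne : T ≠ S)
    (hnt : (S : Subgroup G) ⊓ (T : Subgroup G) ≠ Cfsg.pCore 2 G) (h : LineData z q S T g J) :
    Nat.card (Ee S) = q := by
  have h3 := ((pr : G →* Q G).subgroupMap J).ker.card_mul_index
  rw [Subgroup.index_ker, MonoidHom.range_eq_top.2 (MonoidHom.subgroupMap_surjective _ _), card_top] at h3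
  rw [hC.pr_J_eq hz hz2 hβ hne hnt h]
  have hker : ∀ x : J, x ∈ ((pr : G →* Q G).subgroupMap J).ker → (x : G) = 1 ∨ (x : G) = z := fun x hx =>
    h.z_mem x x.2 (core_le_meet S T (pr_eq_one_iff.1 (congrArg Subtype.val hx)))
  rcases h.kind with ⟨hsq, hcard, hinf⟩ | ⟨rfl, hcard, hsq⟩
  · have h1 : Nat.card ((pr : G →* Q G).subgroupMap J).ker = 1 := by
      rw [card_eq_one, eq_bot_iff_forall]
      refine fun x hx => (hker x hx).elim (fun e => Subtype.ext e) fun e => ?_
      have : (x : G) ∈ J ⊓ ((S : Subgroup G) ⊓ (T : Subgroup G)) := ⟨x.2, e ▸ core_le_meet S T hz⟩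
      rw [hinf, mem_bot] at this
      exact Subtype.ext this
    rwa [h1, one_mul, hcard] at h3
  · have hzJ : z ∈ J := by
      by_contra hzJ
      haveI : Nontrivial J := Finite.one_lt_card_iff_nontrivial.1 (by omega)
      obtain ⟨⟨j, hj⟩, hj1⟩ := exists_ne (1 : J)
      exact hzJ (hsq j hj (fun e => hj1 (Subtype.ext e)) (fun e => hzJ (e ▸ hj)) ▸ mul_mem hj hj)
    have h1 : Nat.card ((pr : G →* Q G).subgroupMap J).ker = 2 := by
      rw [Nat.card_eq_two_iff]
      refine ⟨⟨1, one_mem _⟩, ⟨⟨z, hzJ⟩, Subtype.ext (pr_eq_one_iff.2 hz)⟩,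
        fun e => involution_ne_one hz2 (congrArg (fun w => ((w.1 : J) : G)) e).symm, Set.eq_univ_of_forall fun w => ?_⟩
      exact (hker w.1 w.2).imp (fun e => Subtype.ext (Subtype.ext e)) fun e => Subtype.ext (Subtype.ext e)
    rw [h1, hcard] at h3
    omega

end Central

end CfsgLib.RankOneInter
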