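import Cfsg.Agent.Lib.Invol.RankOneInter.Central.Bridge

/-!
Owner: helper5. Induction in the centraliser of a multi involution.

* `phi_core`: the lifts of `c` and `O₂(G)` go to `O₂` of the local quotient.
* `ti_L`: two Sylow subgroups of the quotient meet in its 2-core.
* `X1_not_core`, `four_L`: the elements of the first kind of a point survive modulo that core.
* `exists_data`: the local data.
-/

set_option autoImplicit false
set_option linter.style.haveILetI false
set_option linter.unusedSectionVars false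

namespace CfsgLib.RankOneInter

open Subgroup
open CfsgLib.Signalizer (involution_sq involution_inv orderOf_eq_two_of involution_ne_one orderOf_conj)

universe u

variable {G : Type u} [Group G] [Finite G]

theorem oddCore_Lc (c : Q G) : Cfsg.oddCore (Lc c) = ⊥ :=
  CfsgLib.Core.pPrimeCore_quotient_pPrimeCore 2 (Hc c)

namespace Central

variable (hC : Central G) {S T U : Sylow 2 G} {c : Q G} {z : G}
include hC

theorem small_L (c : Q G) : SmallMeet (Lc c) :=
  (hC.small.subgroup (Hc c)).quotient (Cfsg.oddCore ↥(Hc c)) (CfsgLib.ZStar.odd_card_oddCore _)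

theorem card_L_lt (hc : c ≠ 1) (hS : c ∈ Spt S) : Nat.card (Lc c) < Nat.card G := by
  refine lt_of_le_of_lt (Nat.card_le_card_of_surjective (phi c) (QuotientGroup.mk'_surjective _)) ?_
  refine lt_of_le_of_ne (card_le_card_group (Hc c)) fun e => hc ?_
  have htop : Hc c = ⊤ := (Subgroup.card_eq_iff_eq_top _).1 e
  refine core_eq_one fun T => ?_
  obtain ⟨g, rfl⟩ := MulAction.exists_smul_eq G S T
  exact hC.mem_Spt_conj (c := c) (htop ▸ mem_top g) hS

theorem zH_mem (c : Q G) (hz : z ∈ Cfsg.pCore 2 G) : z ∈ Hc c := pCore_le_Hc c hz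

theorem phi_central (c : Q G) {p : Hc c} (hp : (p : G) ∈ Cfsg.pCore 2 G) (y : Lc c) :
    y * phi c p = phi c p * y := by
  obtain ⟨h, rfl⟩ := QuotientGroup.mk'_surjective _ y
  rw [← map_mul, ← map_mul]
  exact congrArg _ (Subtype.ext (hC.comm_core hp (h : G)))

variable (hD : ∃ S T : Sylow 2 G, S ≠ T ∧ Spt S ⊓ Spt T ≠ ⊥)
include hD

theorem phi_z (hS : c ∈ Spt S) (hz : z ∈ Cfsg.pCore 2 G) (hz2 : orderOf z = 2) :
    orderOf (phi c ⟨z, pCore_le_Hc c hz⟩) = 2 := by
  have h : orderOf (⟨z, pCore_le_Hc c hz⟩ : Hc c) = 2 := by rw [← Subgroup.orderOf_coe]; exact hz2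
  refine orderOf_eq_two_of (fun e => involution_ne_one h (hC.phi_injOn hD (S := S) ?_ e))
    (by rw [← map_mul, involution_sq h, map_one])
  exact HallGen.pCore_le_sylow S hz

/-- The lifts of `1` and `c` go to the 2-core. -/
theorem phi_core (hS : c ∈ Spt S) {d : Hc c} (hd : pr (d : G) = c ∨ pr (d : G) = 1) :
    phi c d ∈ Cfsg.pCore 2 (Lc c) := by
  haveI := Fact.mk Nat.prime_two
  set K := (zpowers c).comap (pr.comp (Hc c).subtype) with hK
  have hmem : d ∈ K := by
    show pr (d : G) ∈ zpowers c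
    rcases hd with h | h
    · rw [h]; exact mem_zpowers c
    · rw [h]; exact one_mem _
  haveI hKn : K.Normal := ⟨fun k hk g => by
    show pr ((g * k * g⁻¹ : Hc c) : G) ∈ zpowers c
    obtain ⟨i, hi⟩ := (show pr (k : G) ∈ zpowers c from hk)
    have hi' : c ^ i = pr (k : G) := hi
    simp only [Subgroup.coe_mul, InvMemClass.coe_inv, map_mul, map_inv, ← hi']
    rw [((show Commute (pr (g : G)) c from mem_Hc.1 g.2).zpow_right i).eq, mul_inv_cancel_right]
    exact ⟨i, rfl⟩⟩
  have hKp : IsPGroup 2 K := by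
    intro k
    have hkS : ((k : Hc c) : G) ∈ (S : Subgroup G) := mem_Spt.1 (zpowers_le.2 hS k.2)
    obtain ⟨i, hi⟩ := S.isPGroup' ⟨_, hkS⟩
    exact ⟨i, Subtype.ext (Subtype.ext (congrArg Subtype.val hi :))⟩
  haveI : (K.map (phi c)).Normal := hKn.map _ (QuotientGroup.mk'_surjective _)
  exact CfsgLib.Core.le_pCore (hKp.map (phi c)) (mem_map_of_mem _ hmem)

/-- Two Sylow subgroups of the quotient meet in its 2-core. -/
theorem ti_L (hc : c ≠ 1) (hS : c ∈ Spt S) : TIMod (Lc c) := by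
  haveI := Fact.mk Nat.prime_two
  obtain ⟨z, hz, hz2⟩ := hC.exists_z
  have hz' := hC.phi_z hD hS hz hz2
  have hzc : ∀ y : Lc c, y * phi c ⟨z, pCore_le_Hc c hz⟩ = phi c ⟨z, pCore_le_Hc c hz⟩ * y :=
    hC.phi_central c hz
  obtain ⟨x, hx⟩ := hC.exists_X1 hD S
  obtain ⟨a, ha, rfl, ha1⟩ := id hx.1
  obtain ⟨haH, haS⟩ := hC.lift_facts hD hS hx
  have ha2 : orderOf (phi c ⟨a, haH⟩) = 2 := by
    have h : orderOf (⟨a, haH⟩ : Hc c) = 2 := by rw [← Subgroup.orderOf_coe]; exact ha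
    exact orderOf_eq_two_of (fun e => involution_ne_one h (hC.phi_injOn hD (S := S) haS e))
      (by rw [← map_mul, involution_sq h, map_one])
  have hne : phi c ⟨a, haH⟩ ≠ phi c ⟨z, pCore_le_Hc c hz⟩ := fun e => ha1 (pr_eq_one_iff.2 (by
    rw [show a = z from congrArg Subtype.val
      (hC.phi_inj hD (S := S) haS (HallGen.pCore_le_sylow S hz) e)]
    exact hz))
  refine (hC.below (Lc c) (hC.card_L_lt hc hS) (hC.small_L c) (oddCore_Lc c) _ hz' hzc
    ⟨_, ha2, hne⟩).resolve_right fun hg => ?_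
  have hle := not_grid_of_four_le_core (hC.small_L c) hz' hzc hg
  obtain ⟨d, hd⟩ := pr_surjective c
  have hdH : d ∈ Hc c := mem_Hc.2 (by rw [hd])
  have hdS : d ∈ (S : Subgroup G) := mem_Spt.1 (hd ▸ hS)
  have hcore : ∀ {e : Hc c}, pr (e : G) = c ∨ pr (e : G) = 1 → phi c e ∈ Cfsg.pCore 2 (Lc c) :=
    fun he => hC.phi_core hD hS he
  have hd1 : phi c ⟨d, hdH⟩ ≠ 1 := fun e => hc (by
    rw [← hd, show d = 1 from congrArg Subtype.val (hC.phi_injOn hD (S := S) hdS e), map_one])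
  have hdz : phi c ⟨d, hdH⟩ ≠ phi c ⟨z, pCore_le_Hc c hz⟩ := fun e => hc (by
    rw [← hd, show d = z from congrArg Subtype.val (hC.phi_inj hD (S := S) hdS (HallGen.pCore_le_sylow S hz) e)]
    exact pr_eq_one_iff.2 hz)
  classical
  haveI := Fintype.ofFinite ↥(Cfsg.pCore 2 (Lc c))
  have h3 : ({⟨1, one_mem _⟩, ⟨_, hcore (Or.inl hd : pr ((⟨d, hdH⟩ : Hc c) : G) = c ∨ _)⟩,
      ⟨_, hcore (Or.inr (pr_eq_one_iff.2 hz) : pr ((⟨z, pCore_le_Hc c hz⟩ : Hc c) : G) = c ∨ _)⟩} :
      Finset ↥(Cfsg.pCore 2 (Lc c))).card = 3 := by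
    rw [Finset.card_insert_of_notMem, Finset.card_pair]
    · exact fun e => hdz (congrArg Subtype.val e)
    · simp only [Finset.mem_insert, Finset.mem_singleton, not_or]
      exact ⟨fun e => hd1 (congrArg Subtype.val e).symm,
        fun e => involution_ne_one hz' (congrArg Subtype.val e).symm⟩
  have := Finset.card_le_univ ({⟨1, one_mem _⟩, ⟨_, hcore (Or.inl hd : pr ((⟨d, hdH⟩ : Hc c) : G) = c ∨ _)⟩,
      ⟨_, hcore (Or.inr (pr_eq_one_iff.2 hz) : pr ((⟨z, pCore_le_Hc c hz⟩ : Hc c) : G) = c ∨ _)⟩} :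
      Finset ↥(Cfsg.pCore 2 (Lc c)))
  rw [h3, ← Nat.card_eq_fintype_card] at this
  omega

/-- An element of the first kind of a point is outside the 2-core, if two images differ. -/
theorem X1_not_core (hS : c ∈ Spt S) (hT : c ∈ Spt T) (hne : hC.img hT hD ≠ hC.img hS hD) {a : Hc c}
    (ha : pr (a : G) ∈ X1 S) : phi c a ∉ Cfsg.pCore 2 (Lc c) := fun h => by
  obtain ⟨o, ho, e⟩ := hC.img_eq_of_mem hD hS hT ha (HallGen.pCore_le_sylow _ h)
  exact hne (hC.img_smul_Oc hD hT ho hS e).symm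

theorem core_unique (hS : c ∈ Spt S) (hT : c ∈ Spt T) (hne : hC.img hT hD ≠ hC.img hS hD)
    (hz : z ∈ Cfsg.pCore 2 G) (hz2 : orderOf z = 2) {e : Lc c} (he : e ∈ Cfsg.pCore 2 (Lc c))
    (h : e * e = 1) : e = 1 ∨ e = phi c ⟨z, pCore_le_Hc c hz⟩ := by
  by_cases he1 : e = 1
  · exact Or.inl he1
  · exact Or.inr (Final.unique_involution_core (hC.small_L c) hne he
      (hC.phi_core hD hS (Or.inr (pr_eq_one_iff.2 hz))) (orderOf_eq_two_of he1 h) (hC.phi_z hD hS hz hz2))

/-- An element commuting modulo `O₂(G)` with one of order four commutes up to `z`. -/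
theorem comm_four (hz : z ∈ Cfsg.pCore 2 G) (hz2 : orderOf z = 2) {u r : G} (hu : u * u = z)
    (h : pr r * pr u = pr u * pr r) : r * u = u * r ∨ r * u = u * r * z := by
  obtain ⟨p, hp, hru⟩ : ∃ p ∈ Cfsg.pCore 2 G, r * u = u * r * p :=
    ⟨(u * r)⁻¹ * (r * u), pr_eq_iff.1 (by rw [map_mul, map_mul, h]), by group⟩
  have hpp : p * p = 1 := by
    have h2 : r * (u * u) = u * u * r * (p * p) := by
      calc r * (u * u) = r * u * u := by group
        _ = u * r * (p * u) := by rw [hru]; group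
        _ = u * (r * u) * p := by rw [← hC.comm_core hp u]; group
        _ = _ := by rw [hru]; group
    rw [hu, hC.comm_core hz r] at h2
    exact (mul_left_cancel ((mul_one (z * r)).trans h2)).symm
  rcases hC.core_sq_one hz hz2 hp hpp with rfl | rfl
  · exact Or.inl (hru.trans (mul_one _))
  · exact Or.inr hru

/-- If two images differ, the quotient modulo its 2-core has a four group in a Sylow subgroup. -/
theorem four_L (hc : c ≠ 1) (hS : c ∈ Spt S) (hT : c ∈ Spt T) (hne : hC.img hT hD ≠ hC.img hS hD) :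
    ∃ A : Sylow 2 (Lc c), Four ((A : Subgroup (Lc c)).map (QuotientGroup.mk' (Cfsg.pCore 2 (Lc c)))) := by
  haveI := Fact.mk Nat.prime_two
  obtain ⟨z, hz, hz2⟩ := hC.exists_z
  set π := QuotientGroup.mk' (Cfsg.pCore 2 (Lc c)) with hπ
  have hπ1 : ∀ {y : Lc c}, π y = 1 ↔ y ∈ Cfsg.pCore 2 (Lc c) := fun {y} => QuotientGroup.eq_one_iff y
  have hcorepr : ∀ {s : Hc c}, pr (s : G) = 1 → π (phi c s) = 1 := fun hs => hπ1.2 (hC.phi_core hD hS (Or.inr hs))
  -- elements of `S` commute with those of the first kind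
  have hcentral : ∀ {a : Hc c}, pr (a : G) ∈ X1 S → ∀ y ∈ (hC.img hS hD : Subgroup (Lc c)),
      π y * π (phi c a) = π (phi c a) * π y := by
    intro a ha y hy
    obtain ⟨s, hs, rfl⟩ := (hC.mem_img_iff hD hS).1 hy
    have h1 : pr ((s * a * (a * s)⁻¹ : Hc c) : G) = 1 := by
      simp only [Subgroup.coe_mul, InvMemClass.coe_inv, map_mul, map_inv, ha.2.2 _ (mem_Spt.2 hs)]
      group
    have := hcorepr h1
    rw [map_mul, map_mul, map_inv, map_mul, map_inv, map_mul, map_mul, map_mul, mul_inv_eq_one] at this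
    exact this
  have hsq : ∀ {a : Hc c}, pr (a : G) ∈ X1 S → π (phi c a) * π (phi c a) = 1 := fun {a} ha => by
    rw [← map_mul, ← map_mul]
    exact hcorepr (by rw [Subgroup.coe_mul, map_mul, ha.1.sq])
  have hmem : ∀ {a : Hc c}, pr (a : G) ∈ X1 S → π (phi c a) ∈ (hC.img hS hD : Subgroup (Lc c)).map π :=
    fun ha => mem_map_of_mem π (hC.phi_mem_img hD hS (mem_Spt.1 ha.2.1))
  have hne1 : ∀ {a : Hc c}, pr (a : G) ∈ X1 S → π (phi c a) ≠ 1 :=
    fun ha h => hC.X1_not_core hD hS hT hne ha (hπ1.1 h)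
  by_cases hsep : ∃ a b : Hc c, pr (a : G) ∈ X1 S ∧ pr (b : G) ∈ X1 S ∧ π (phi c a) ≠ π (phi c b)
  · obtain ⟨a, b, ha, hb, hab⟩ := hsep
    exact ⟨hC.img hS hD, _, hmem ha, _, hmem hb, orderOf_eq_two_of (hne1 ha) (hsq ha),
      orderOf_eq_two_of (hne1 hb) (hsq hb), hab,
      hcentral hb _ (hC.phi_mem_img hD hS (mem_Spt.1 ha.2.1))⟩
  push Not at hsep
  -- three elements of the first kind congruent modulo the core
  obtain ⟨x, hx⟩ := hC.exists_X1 hD S
  obtain ⟨y, hy, hyx, -⟩ := hC.X1_three hD S hx x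
  obtain ⟨w, hw, hwx, hwy⟩ := hC.X1_three hD S hx y
  obtain ⟨a, ha, rfl, -⟩ := id hx.1
  obtain ⟨b, hb, rfl, -⟩ := id hy.1
  obtain ⟨d, hd, rfl, -⟩ := id hw.1
  obtain ⟨haH, haS⟩ := hC.lift_facts hD hS hx
  obtain ⟨hbH, hbS⟩ := hC.lift_facts hD hS hy
  obtain ⟨hdH, hdS⟩ := hC.lift_facts hD hS hw
  have hanti : ∀ {p q : G} (hp : p ∈ Hc c) (hq : q ∈ Hc c), orderOf p = 2 → orderOf q = 2 → p ∈ (S : Subgroup G) →
      q ∈ (S : Subgroup G) → pr p ≠ pr q → pr p ∈ X1 S → pr q ∈ X1 S → q * p = p * q * z := by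
    intro p q hp hq hp2 hq2 hpS hqS hpq hpX hqX
    refine (hC.comm_cases hz hz2 hp2 (X1_mul_comm hpX hqX)).resolve_left fun hcm => ?_
    have hmemc : phi c (⟨p, hp⟩ * ⟨q, hq⟩) ∈ Cfsg.pCore 2 (Lc c) := hπ1.1 (by
      rw [map_mul, map_mul, hsep ⟨p, hp⟩ ⟨q, hq⟩ hpX hqX, hsq (a := ⟨q, hq⟩) hqX])
    have hpqS : p * q ∈ (S : Subgroup G) := mul_mem hpS hqS
    rcases hC.core_unique hD hS hT hne hz hz2 hmemc (by
      rw [← map_mul]
      convert map_one (phi c)
      refine Subtype.ext ?_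
      show p * q * (p * q) = 1
      calc p * q * (p * q) = p * (q * p) * q := by group
        _ = p * p * (q * q) := by rw [hcm]; group
        _ = 1 := by rw [involution_sq hp2, involution_sq hq2, mul_one]) with h | h
    · have := congrArg Subtype.val (hC.phi_injOn hD (S := S) (s := ⟨p, hp⟩ * ⟨q, hq⟩) hpqS h)
      exact hpq (congrArg pr ((eq_inv_of_mul_eq_one_left this).trans (involution_inv hq2)))
    · have := congrArg (fun t : Hc c => pr (t : G))
        (hC.phi_inj hD (S := S) (s := ⟨p, hp⟩ * ⟨q, hq⟩) hpqS (HallGen.pCore_le_sylow S hz) h)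
      simp only [Subgroup.coe_mul, map_mul, pr_eq_one_iff.2 hz] at this
      exact hpq ((eq_inv_of_mul_eq_one_left this).trans (by rw [← map_inv, involution_inv hq2]))
  have hba := hanti haH hbH ha hb haS hbS hyx.symm hx hy
  have hda := hanti haH hdH ha hd haS hdS hwx.symm hx hw
  have hdb := hanti hbH hdH hb hd hbS hdS hwy.symm hy hw
  have hzc := fun g : G => hC.comm_core hz g
  have mv : ∀ (g h : G), g * (z * h) = z * (g * h) := fun g h => by rw [← mul_assoc, hzc g, mul_assoc]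
  have swap : ∀ {g k : G}, k * g = g * k * z → ∀ h, k * (g * h) = z * (g * (k * h)) := fun {g k} e h => by
    rw [← mul_assoc, e, hzc (g * k)]; group
  have sq : ∀ {g : G}, orderOf g = 2 → ∀ h, g * (g * h) = h := fun e h => by
    rw [← mul_assoc, involution_sq e, one_mul]
  have sab := swap hba
  have sad := swap hda
  have sbd := swap hdb
  have ma := mv a
  have mb := mv b
  have md := mv d
  have qa := sq ha
  have qb := sq hb
  have qd := sq hd
  have qz := sq hz2
  have sortd : ∀ {l r : G}, l * 1 = r * 1 → l = r := fun h => by rwa [mul_one, mul_one] at h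
  -- in the group
  have huu : a * b * (a * b) = z := sortd (by simp only [mul_assoc, sab, ma, mb, qa, qb])
  have hvu : a * d * (a * b) = a * b * (a * d) * z := sortd (by
    simp only [mul_assoc, sab, sad, sbd, ma, mb, md, qa, qb, qd, qz])
  have hvv : a * d * (a * d) = z := sortd (by simp only [mul_assoc, sad, ma, md, qa, qd])
  have heu : a * (a * b * (a * d)) * (a * b) = a * b * (a * (a * b * (a * d))) := sortd (by
    simp only [mul_assoc, sab, sad, sbd, ma, mb, md, qa, qb, qd, qz])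
  have hev : a * (a * b * (a * d)) * (a * d) = a * d * (a * (a * b * (a * d))) := sortd (by
    simp only [mul_assoc, sab, sad, sbd, ma, mb, md, qa, qb, qd, qz])
  -- in the quotient
  set A : Hc c := ⟨a, haH⟩ with hA
  set u : Hc c := ⟨a, haH⟩ * ⟨b, hbH⟩ with hu
  set v : Hc c := ⟨a, haH⟩ * ⟨d, hdH⟩ with hv
  have huM : phi c u ∈ Cfsg.pCore 2 (Lc c) := hπ1.1 (by
    rw [hu, map_mul, map_mul, ← hsep ⟨a, haH⟩ ⟨b, hbH⟩ hx hy, hsq (a := ⟨a, haH⟩) hx])
  have hvM : phi c v ∈ Cfsg.pCore 2 (Lc c) := hπ1.1 (by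
    rw [hv, map_mul, map_mul, ← hsep ⟨a, haH⟩ ⟨d, hdH⟩ hx hw, hsq (a := ⟨a, haH⟩) hx])
  set zL := phi c ⟨z, pCore_le_Hc c hz⟩ with hzL
  set e := phi c (A * (u * v)) with he
  have hecent : ∀ s ∈ Cfsg.pCore 2 (Lc c), s * e = e * s := by
    intro s hs
    obtain ⟨r, hr, rfl⟩ := (hC.mem_img_iff hD hS).1 (HallGen.pCore_le_sylow (hC.img hS hD) hs)
    have hcm : ∀ (t : Hc c), (t : G) * t = z → (∀ q ∈ Spt S, q * pr (t : G) = pr (t : G) * q) →
        phi c r * phi c t = phi c t * phi c r ∨ phi c r * phi c t = phi c t * phi c r * zL := by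
      intro t ht hq
      rw [hzL, ← map_mul, ← map_mul, ← map_mul]
      rcases hC.comm_four hD hz hz2 ht (hq _ (mem_Spt.2 hr)) with h | h
      · exact Or.inl (congrArg _ (Subtype.ext h))
      · exact Or.inr (congrArg _ (Subtype.ext h))
    obtain ⟨ε, hε, hs'⟩ := mem_of_quaternion_pair (HallGen.isPGroup_pCore (G := Lc c) 2)
      (z := zL) (u := phi c u) (v := phi c v)
      (involution_sq (hC.phi_z hD hS hz hz2)) (hC.phi_central c hz) huM hvM
      (by rw [hzL, ← map_mul]; exact congrArg _ (Subtype.ext huu))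
      (by rw [hzL, ← map_mul, ← map_mul, ← map_mul]; exact congrArg _ (Subtype.ext hvu))
      (fun y hy h => hC.core_unique hD hS hT hne hz hz2 hy h) hs
      (hcm u huu fun q hq => by
        rw [hu, Subgroup.coe_mul, map_mul, ← mul_assoc, hx.2.2 q hq, mul_assoc, hy.2.2 q hq, mul_assoc])
      (hcm v hvv fun q hq => by
        rw [hv, Subgroup.coe_mul, map_mul, ← mul_assoc, hx.2.2 q hq, mul_assoc, hw.2.2 q hq, mul_assoc])
    have cu : Commute e (phi c u) := by
      rw [he]; show _ * _ = _ * _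
      rw [← map_mul, ← map_mul]; exact congrArg _ (Subtype.ext heu)
    have cv : Commute e (phi c v) := by
      rw [he]; show _ * _ = _ * _
      rw [← map_mul, ← map_mul]; exact congrArg _ (Subtype.ext hev)
    have cε : Commute e ε := by
      rcases hε with rfl | rfl
      · exact Commute.one_right e
      · exact hC.phi_central c hz e
    rcases hs' with h | h | h | h <;> rw [h]
    exacts [cε.symm.eq, (cu.mul_right cε).symm.eq, (cv.mul_right cε).symm.eq,
      ((cu.mul_right cv).mul_right cε).symm.eq]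
  have heπ : π e = π (phi c A) := by
    rw [he, map_mul, map_mul, hπ1.2 (show phi c (u * v) ∈ _ from by rw [map_mul]; exact mul_mem huM hvM), mul_one]
  -- a four group, or `A` is isolated
  by_contra hno
  push Not at hno
  set R := (hC.img hS hD).mapSurjective (f := π) (QuotientGroup.mk'_surjective _) with hR
  have hRc : ((R : Sylow 2 _) : Subgroup (Lc c ⧸ Cfsg.pCore 2 (Lc c))) = (hC.img hS hD : Subgroup (Lc c)).map π :=
    Sylow.coe_mapSurjective _ _
  have hAinv : orderOf (π (phi c A)) = 2 := orderOf_eq_two_of (hne1 (a := A) hx) (hsq (a := A) hx)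
  have hzs := CfsgLib.ZStar.mem_oddCore_of_unique R hAinv (hRc.ge (hmem (a := A) hx)) fun t ht ht2 => by
    by_contra htA
    have ht' : t ∈ (hC.img hS hD : Subgroup (Lc c)).map π := hRc.le ht
    obtain ⟨t₀, ht₀, rfl⟩ := ht'
    exact hno (hC.img hS hD) ⟨_, mem_map_of_mem π ht₀, _, hmem (a := A) hx, ht2, hAinv, htA,
      hcentral (a := A) hx t₀ ht₀⟩
  -- hence it lies in every image
  set N := (Cfsg.oddCore (Lc c ⧸ Cfsg.pCore 2 (Lc c))).comap π ⊓ centralizer (Cfsg.pCore 2 (Lc c) : Set (Lc c))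
    with hN
  haveI : (centralizer (Cfsg.pCore 2 (Lc c) : Set (Lc c))).Normal := Subgroup.normal_centralizer
  haveI : ((Cfsg.oddCore (Lc c ⧸ Cfsg.pCore 2 (Lc c))).comap π).Normal :=
    (inferInstance : (Cfsg.oddCore (Lc c ⧸ Cfsg.pCore 2 (Lc c))).Normal).comap π
  haveI : N.Normal := Subgroup.normal_inf_normal _ _
  have hNle : N ≤ Cfsg.pCore 2 (Lc c) := by
    refine le_trans (le_of_central_two (oddCore_Lc c) (A := N ⊓ Cfsg.pCore 2 (Lc c)) inf_le_left
      ((HallGen.isPGroup_pCore (G := Lc c) 2).to_le inf_le_right)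
      (fun k hk n hn => (mem_centralizer_iff.1 hn.2 k hk.2).symm) ?_) inf_le_right
    rw [relIndex, show (N ⊓ Cfsg.pCore 2 (Lc c)).subgroupOf N = (π.comp N.subtype).ker from
      Subgroup.ext fun n => by
        rw [mem_subgroupOf, MonoidHom.mem_ker, MonoidHom.comp_apply, Subgroup.coe_subtype, hπ1]
        exact ⟨fun h => h.2, fun h => ⟨n.2, h⟩⟩,
      Subgroup.index_ker]
    refine (CfsgLib.ZStar.odd_card_oddCore _).of_dvd_nat (card_dvd_of_le ?_)
    rintro _ ⟨n, rfl⟩
    exact n.2.1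
  have hAc : ∀ y, π (phi c A) * y = y * π (phi c A) := by
    intro y
    obtain ⟨l, rfl⟩ := QuotientGroup.mk'_surjective _ y
    have hm : e * l * e⁻¹ * l⁻¹ ∈ N := by
      refine mem_inf.2 ⟨mem_comap.2 ?_, ?_⟩
      · have h := hzs (π l)
        rw [← heπ] at h
        simpa only [map_mul, map_inv] using h
      · have hel : e ∈ centralizer (Cfsg.pCore 2 (Lc c) : Set (Lc c)) :=
          mem_centralizer_iff.2 fun s hs => hecent s hs
        have h1 := (inferInstance : (centralizer (Cfsg.pCore 2 (Lc c) : Set (Lc c))).Normal).conj_mem _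
          (inv_mem hel) l
        have h2 := mul_mem hel h1
        simpa [mul_assoc] using h2
    have h := hπ1.2 (hNle hm)
    rw [map_mul, map_mul, map_mul, map_inv, map_inv, mul_inv_eq_one, mul_inv_eq_iff_eq_mul, heπ] at h
    exact h
  obtain ⟨g, hg⟩ := MulAction.exists_smul_eq (Lc c) (hC.img hS hD) (hC.img hT hD)
  refine hne ?_
  obtain ⟨o, ho, eo⟩ := hC.img_eq_of_mem hD hS hT (a := A) hx (by
    have hxx : phi c A ∈ (hC.img hS hD : Subgroup (Lc c)) := hC.phi_mem_img hD hS haS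
    have h1 := conj_mem_smul (g := g) hxx
    rw [hg] at h1
    have h2 : (g * phi c A * g⁻¹)⁻¹ * phi c A ∈ Cfsg.pCore 2 (Lc c) := hπ1.1 (by
      rw [map_mul, map_inv, map_mul, map_mul, map_inv, ← hAc (π g), mul_inv_cancel_right, inv_mul_cancel])
    have := mul_mem h1 (HallGen.pCore_le_sylow (hC.img hT hD) h2)
    rwa [mul_inv_cancel_left] at this)
  exact (hC.img_smul_Oc hD hT ho hS eo).symm

/-- The local data at two points with different images. -/
theorem exists_data (hc : c ≠ 1) (hS : c ∈ Spt S) (hT : c ∈ Spt T) (hne : hC.img hT hD ≠ hC.img hS hD)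
    (hz : z ∈ Cfsg.pCore 2 G) (hz2 : orderOf z = 2) :
    ∃ q, (∃ n, 2 ≤ n ∧ q = 2 ^ n) ∧ ∀ A B : Sylow 2 (Lc c), B ≠ A →
      ∃ g J, LocalData (phi c ⟨z, pCore_le_Hc c hz⟩) q A B g J :=
  exists_localData (hC.small_L c) (oddCore_Lc c) (hC.phi_z hD hS hz hz2) (hC.phi_central c hz)
    (hC.ti_L hD hc hS) ⟨_, _, hne⟩ (hC.four_L hD hc hS hT hne)

end Central

end CfsgLib.RankOneInter
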