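import Cfsg.Agent.S0519
import Cfsg.Agent.Lib.Core.UniqueOrderP
import Cfsg.Agent.Lib.PGroups.Basic
import Cfsg.Agent.Lib.Signalizer.Involutions
import Cfsg.Agent.Lib.ZStar.QuatSylow

/-!
Owner: helper5. A 2-group with a central involution `z` and another involution either has an involution outside
`⟨z⟩` central modulo `⟨z⟩`, or an involution with centraliser of order four.
-/

set_option autoImplicit false
set_option linter.style.haveILetI false
set_option linter.unusedSectionVars false

namespace CfsgLib.RankOneInter

open Subgroup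
open CfsgLib.Signalizer (involution_sq involution_inv orderOf_eq_two_of involution_ne_one)

theorem exists_central_mod_or_short {P : Type*} [Group P] [Finite P] (hP : IsPGroup 2 P) {z : P}
    (hz : orderOf z = 2) (hzc : ∀ s : P, s * z = z * s) (hx : ∃ x : P, orderOf x = 2 ∧ x ≠ z) :
    (∃ a : P, orderOf a = 2 ∧ a ≠ z ∧ ∀ s : P, s * a * s⁻¹ * a⁻¹ = 1 ∨ s * a * s⁻¹ * a⁻¹ = z) ∨
    ∃ x : P, orderOf x = 2 ∧ x ≠ z ∧ ∀ s : P, s * x = x * s → s = 1 ∨ s = z ∨ s = x ∨ s = z * x := by
  classical
  haveI := Fact.mk Nat.prime_two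
  have hz1 := involution_ne_one hz
  by_cases hA : ∀ A : Subgroup P, A.Normal → IsMulCommutative A → IsCyclic A
  · right
    obtain ⟨x, hx2, hxz⟩ := hx
    have hB : ∃ B : Subgroup P, IsMulCommutative B ∧ ¬ IsCyclic B := by
      refine ⟨closure {z, x}, Subgroup.isMulCommutative_closure ?_, fun hc => hxz ?_⟩
      · rintro u (rfl | rfl) v (rfl | rfl)
        exacts [rfl, (hzc _).symm, hzc _, rfl]
      · haveI := hc
        obtain ⟨g, hg⟩ := IsCyclic.exists_generator (α := closure {z, x})
        have h1 : ∀ u : closure ({z, x} : Set P), orderOf u = 2 →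
            (u : P) = ((g ^ (orderOf g / 2) : closure ({z, x} : Set P)) : P) := by
          intro u hu
          obtain ⟨k, hk⟩ := (mem_powers_iff_mem_zpowers.2 (hg u))
          have hu2 : g ^ (k * 2) = 1 := by
            rw [pow_mul, show g ^ k = u from hk, ← hu, pow_orderOf_eq_one]
          have hd := orderOf_dvd_of_pow_eq_one hu2
          have hne : ¬ orderOf g ∣ k := fun h => by
            rw [show u = 1 from (show g ^ k = u from hk) ▸ orderOf_dvd_iff_pow_eq_one.1 h, orderOf_one] at hu
            omega
          have h2 : 2 ∣ orderOf g := hu ▸ orderOf_dvd_of_mem_zpowers (hg u)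
          obtain ⟨m, hm⟩ := h2
          rw [hm] at hd hne
          have hd' : m ∣ k := Nat.dvd_of_mul_dvd_mul_left two_pos (by rwa [mul_comm k] at hd)
          obtain ⟨c, rfl⟩ := hd'
          have hc : c % 2 = 1 := by
            by_contra h
            exact hne ⟨c / 2, by
              have e : c = 2 * (c / 2) := by omega
              calc m * c = m * (2 * (c / 2)) := by rw [← e]
                _ = 2 * m * (c / 2) := by ring⟩
          rw [← show g ^ (m * c) = u from hk, hm, Nat.mul_div_cancel_left m two_pos]
          congr 1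
          have e : m * c = orderOf g * (c / 2) + m := by
            rw [hm]
            calc m * c = m * (2 * (c / 2) + 1) := by rw [show 2 * (c / 2) + 1 = c by omega]
              _ = _ := by ring
          rw [e, pow_add, pow_mul, pow_orderOf_eq_one, one_pow, one_mul]
        exact (h1 ⟨x, subset_closure (by simp)⟩ (by rw [← Subgroup.orderOf_coe]; exact hx2)).trans
          (h1 ⟨z, subset_closure (by simp)⟩ (by rw [← Subgroup.orderOf_coe]; exact hz)).symm
    obtain ⟨-, h⟩ := Cfsg.Agent.S0519.result 2 hP hA hB
    rcases h with ⟨n, ⟨e⟩⟩ | ⟨n, hn, ⟨e⟩⟩ | hqd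
    · exfalso
      rcases n with _ | n
      · haveI : Finite (QuaternionGroup 0) := Finite.of_equiv P e.toEquiv
        haveI : Finite (ZMod (2 * 0)) := Finite.of_injective (fun a => (QuaternionGroup.a a : QuaternionGroup 0))
          fun a b h => by simpa using h
        exact (inferInstance : Infinite ℤ).not_finite ‹Finite (ZMod (2 * 0))›
      · exact hxz (e.injective (CfsgLib.ZStar.quaternion_unique_involution
          ((e.orderOf_eq x).trans hx2) ((e.orderOf_eq z).trans hz)))
    · haveI : NeZero n := ⟨by omega⟩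
      have huniq : ∀ a b : ZMod n, a + a = 0 → b + b = 0 → a ≠ 0 → b ≠ 0 → a = b := by
        intro a b ha hb ha0 hb0
        have key : ∀ c : ZMod n, c + c = 0 → c ≠ 0 → 2 * c.val = n := by
          intro c hc hc0
          have h1 : (c.val + c.val) % n = 0 := by rw [← ZMod.val_add, hc, ZMod.val_zero]
          have h2 := ZMod.val_lt c
          have h3 : c.val ≠ 0 := fun h => hc0 ((ZMod.val_eq_zero c).1 h)
          obtain ⟨k, hk⟩ := Nat.dvd_of_mod_eq_zero h1
          rcases k with _ | _ | k
          · omega
          · omega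
          · have : n * 2 ≤ n * (k + 1 + 1) := Nat.mul_le_mul_left n (by omega)
            omega
        have := key a ha ha0
        have := key b hb hb0
        exact ZMod.val_injective n (by omega)
      have h2ne : ∀ i : ZMod n, ∃ j : ZMod n, j + j ≠ i + i := by
        intro i
        refine ⟨i + 1, fun h => ?_⟩
        have h1 : ((2 : ℕ) : ZMod n) = 0 := by
          push_cast
          calc (2 : ZMod n) = i + 1 + (i + 1) - (i + i) := by ring
            _ = 0 := by rw [h, sub_self]
        rw [ZMod.natCast_eq_zero_iff] at h1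
        have := Nat.le_of_dvd two_pos h1
        omega
      obtain ⟨c, hzr⟩ : ∃ c, e z = DihedralGroup.r c := by
        cases hc : e z with
        | r c => exact ⟨c, rfl⟩
        | sr c =>
          exfalso
          obtain ⟨j, hj⟩ := h2ne 0
          have h := congrArg e (hzc (e.symm (DihedralGroup.r j)))
          rw [map_mul, map_mul, e.apply_symm_apply, hc, DihedralGroup.r_mul_sr, DihedralGroup.sr_mul_r,
            DihedralGroup.sr.injEq] at h
          exact hj (by linear_combination -h)
      have hc0 : c ≠ 0 := fun h => hz1 (e.injective (by rw [hzr, h, map_one, DihedralGroup.one_def]))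
      have hcc : c + c = 0 := by
        have h := congrArg e (involution_sq hz)
        rw [map_mul, map_one, hzr, DihedralGroup.r_mul_r, DihedralGroup.one_def, DihedralGroup.r.injEq] at h
        exact h
      refine ⟨e.symm (DihedralGroup.sr 0), by rw [e.symm.orderOf_eq, DihedralGroup.orderOf_sr], fun h => ?_,
        fun s hs => ?_⟩
      · rw [← h, e.apply_symm_apply] at hzr
        cases hzr
      · have h := congrArg e hs
        rw [map_mul, map_mul, e.apply_symm_apply] at h
        cases hs' : e s with
        | r j =>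
          rw [hs', DihedralGroup.r_mul_sr, DihedralGroup.sr_mul_r, DihedralGroup.sr.injEq] at h
          by_cases hj : j = 0
          · exact Or.inl (e.injective (by rw [hs', hj, map_one, DihedralGroup.one_def]))
          · refine Or.inr (Or.inl (e.injective ?_))
            rw [hs', hzr, huniq j c (by linear_combination -h) hcc hj hc0]
        | sr j =>
          rw [hs', DihedralGroup.sr_mul_sr, DihedralGroup.sr_mul_sr, DihedralGroup.r.injEq] at h
          by_cases hj : j = 0
          · exact Or.inr (Or.inr (Or.inl (e.injective (by rw [hs', hj, e.apply_symm_apply]))))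
          · refine Or.inr (Or.inr (Or.inr (e.injective ?_)))
            have hjc : j = c := huniq j c (by linear_combination -h) hcc hj hc0
            rw [map_mul, hs', hzr, e.apply_symm_apply, DihedralGroup.r_mul_sr, hjc]
            congr 1
            linear_combination hcc
    · obtain ⟨n, hn, hcard, X, Y, hX, hY, hYX⟩ := hqd
      obtain ⟨m, rfl⟩ : ∃ m, n = m + 3 := ⟨n - 3, by omega⟩
      set k := 2 ^ (m + 3 - 1) - 1 with hk
      have hk2 : ∃ o, Odd o ∧ k = 2 * o + 1 := by
        refine ⟨2 ^ (m + 1) - 1, Nat.Even.sub_odd Nat.one_le_two_pow (Nat.even_pow.2 ⟨even_two, by omega⟩) odd_one, ?_⟩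
        have e : (2 : ℕ) ^ (m + 3 - 1) = 2 * 2 ^ (m + 1) := by
          rw [show m + 3 - 1 = m + 1 + 1 by omega, pow_succ']
        have := Nat.one_le_two_pow (n := m + 1)
        omega
      obtain ⟨o, ho, hko⟩ := hk2
      have hfix : ∀ i : ℕ, Y * X ^ i * Y⁻¹ = X ^ i → X ^ i * X ^ i = 1 := by
        intro i h
        have e : Y * X ^ i * Y⁻¹ = (X ^ i) ^ k := by rw [← conj_pow, hYX, ← pow_mul, ← pow_mul, mul_comm]
        rw [h, hko, pow_succ, eq_comm] at e
        have h1 : ((X ^ i) ^ 2) ^ o = 1 := by rw [← pow_mul]; exact mul_eq_right.1 e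
        have h2 : orderOf ((X ^ i) ^ 2) ∣ o := orderOf_dvd_of_pow_eq_one h1
        obtain ⟨l, hl⟩ := hP ((X ^ i) ^ 2)
        rw [← pow_two]
        exact orderOf_eq_one_iff.1 (Nat.eq_one_of_dvd_coprimes ((Nat.coprime_two_left.2 ho).pow_left l)
          (orderOf_dvd_of_pow_eq_one hl) h2)
      have hnc : Y * X * Y⁻¹ ≠ X := fun h => by
        have h1 := hfix 1 (by rwa [pow_one])
        rw [pow_one, ← pow_two] at h1
        have h2 := Nat.le_of_dvd two_pos (hX ▸ orderOf_dvd_of_pow_eq_one h1)
        have h3 : 2 ^ 3 ≤ 2 ^ (m + 3) := Nat.pow_le_pow_right two_pos (by omega)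
        omega
      have hYnot : Y ∉ zpowers X := by
        rintro ⟨i, rfl⟩
        exact hnc (by group)
      have hind : (zpowers X).index = 2 := by
        have h := (zpowers X).card_mul_index
        rw [Nat.card_zpowers, hX, hcard] at h
        rw [pow_succ (2 : ℕ) (m + 3)] at h
        exact Nat.eq_of_mul_eq_mul_left (by positivity) h
      have hcases : ∀ s : P, (∃ i : ℕ, s = X ^ i) ∨ ∃ i : ℕ, s = X ^ i * Y := by
        intro s
        by_cases hs : s ∈ zpowers X
        · obtain ⟨i, hi⟩ := mem_powers_iff_mem_zpowers.2 hs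
          exact Or.inl ⟨i, hi.symm⟩
        · have h1 : s * Y ∈ zpowers X := (mul_mem_iff_of_index_two hind).2
            ⟨fun h => absurd h hs, fun h => absurd h hYnot⟩
          obtain ⟨i, hi⟩ := mem_powers_iff_mem_zpowers.2 h1
          exact Or.inr ⟨i, by rw [show X ^ i = s * Y from hi, mul_assoc, involution_sq hY, mul_one]⟩
      have hhalf : ∀ i : ℕ, X ^ i * X ^ i = 1 → X ^ i ≠ 1 → X ^ i = X ^ 2 ^ (m + 2) := by
        intro i h h1
        rw [← pow_add] at h
        have hd := hX ▸ orderOf_dvd_of_pow_eq_one h
        have hne : ¬ 2 ^ (m + 3) ∣ i := fun h2 => h1 (orderOf_dvd_iff_pow_eq_one.1 (hX.symm ▸ h2))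
        rw [show i + i = 2 * i by ring, pow_succ' 2 (m + 2)] at hd
        obtain ⟨c, rfl⟩ := Nat.dvd_of_mul_dvd_mul_left two_pos hd
        have hc : c % 2 = 1 := by
          by_contra h'
          exact hne ⟨c / 2, by
            rw [pow_succ (2 : ℕ) (m + 2), mul_assoc, show 2 * (c / 2) = c by omega]⟩
        rw [show 2 ^ (m + 2) * c = 2 ^ (m + 3) * (c / 2) + 2 ^ (m + 2) by
          rw [pow_succ (2 : ℕ) (m + 2), mul_assoc, ← mul_add_one, show 2 * (c / 2) + 1 = c by omega],
          pow_add, pow_mul, ← hX, pow_orderOf_eq_one, one_pow, one_mul]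
      obtain ⟨i₀, hzi⟩ : ∃ i : ℕ, z = X ^ i := by
        rcases hcases z with h | ⟨i, rfl⟩
        · exact h
        · exfalso
          refine hnc ?_
          have h := hzc X
          have e : X * Y = Y * X := by
            refine mul_left_cancel (a := X ^ i) ?_
            calc X ^ i * (X * Y) = X * (X ^ i * Y) := by rw [← mul_assoc, ← mul_assoc, ← pow_succ, ← pow_succ']
              _ = X ^ i * Y * X := h
              _ = _ := by group
          rw [← e, mul_inv_cancel_right]
      have hz' : z = X ^ 2 ^ (m + 2) :=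
        hzi.trans (hhalf i₀ (hzi ▸ involution_sq hz) (hzi ▸ hz1))
      refine ⟨Y, hY, fun h => hYnot (h.symm ▸ hz'.symm ▸ pow_mem (mem_zpowers X) _), fun s hs => ?_⟩
      have hside : ∀ i : ℕ, X ^ i * Y = Y * X ^ i → X ^ i = 1 ∨ X ^ i = z := fun i h => by
        by_cases h1 : X ^ i = 1
        · exact Or.inl h1
        · exact Or.inr ((hhalf i (hfix i (by rw [← h, mul_inv_cancel_right])) h1).trans hz'.symm)
      rcases hcases s with ⟨i, rfl⟩ | ⟨i, rfl⟩
      · rcases hside i hs with h | h
        · exact Or.inl h
        · exact Or.inr (Or.inl h)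
      · rcases hside i (mul_right_cancel (b := Y) (by rw [hs]; group)) with h | h
        · exact Or.inr (Or.inr (Or.inl (by rw [h, one_mul])))
        · exact Or.inr (Or.inr (Or.inr (by rw [h])))
  · left
    push Not at hA
    obtain ⟨A, hAn, hAc, hAnc⟩ := hA
    set V := closure {w : P | (w ∈ A ∧ w * w = 1) ∨ w = z} with hV
    set Z := zpowers z with hZ
    haveI hZn : Z.Normal := ⟨fun n hn g => by
      obtain ⟨i, rfl⟩ := hn
      have hc : Commute g (z ^ i) := Commute.zpow_right (hzc g) i
      rw [hc.eq, mul_inv_cancel_right]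
      exact ⟨i, rfl⟩⟩
    haveI hVn : V.Normal := ⟨fun n hn g => by
      have h : V.map (MulAut.conj g).toMonoidHom ≤ V := by
        rw [hV, MonoidHom.map_closure, closure_le]
        rintro _ ⟨w, hw | rfl, rfl⟩
        · refine subset_closure (Or.inl ⟨hAn.conj_mem w hw.1 g, ?_⟩)
          show g * w * g⁻¹ * (g * w * g⁻¹) = 1
          rw [show g * w * g⁻¹ * (g * w * g⁻¹) = g * (w * w) * g⁻¹ by group, hw.2, mul_one, mul_inv_cancel]
        · refine subset_closure (Or.inr ?_)
          show g * w * g⁻¹ = w
          rw [hzc, mul_inv_cancel_right]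
      exact h ⟨n, hn, rfl⟩⟩
    have hVsq : ∀ w ∈ V, w * w = 1 := by
      intro w hw
      have hcomm : ∀ a ∈ {w : P | (w ∈ A ∧ w * w = 1) ∨ w = z},
          ∀ b ∈ {w : P | (w ∈ A ∧ w * w = 1) ∨ w = z}, a * b = b * a := by
        rintro a (ha | rfl) b (hb | rfl)
        · exact congrArg Subtype.val (hAc.is_comm.comm ⟨a, ha.1⟩ ⟨b, hb.1⟩)
        · exact hzc a
        · exact (hzc b).symm
        · rfl
      haveI := Subgroup.isMulCommutative_closure hcomm
      induction hw using Subgroup.closure_induction with
      | mem w hw => rcases hw with hw | rfl; exacts [hw.2, involution_sq hz]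
      | one => exact one_mul 1
      | mul a b ha hb iha ihb =>
        have e : b * a = a * b := congrArg Subtype.val
          (mul_comm' (⟨b, hb⟩ : V) ⟨a, ha⟩)
        calc a * b * (a * b) = a * (b * a) * b := by group
          _ = a * a * (b * b) := by rw [e]; group
          _ = 1 := by rw [iha, ihb, mul_one]
      | inv a _ iha => rw [← mul_inv_rev, iha, inv_one]
    set π := QuotientGroup.mk' Z with hπ
    haveI : (V.map π).Normal := hVn.map π (QuotientGroup.mk'_surjective Z)
    have hne : V.map π ≠ ⊥ := by
      intro h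
      refine hAnc ?_
      have hsub : ∀ w ∈ A, w * w = 1 → w = 1 ∨ w = z := by
        intro w hw hww
        have h1 : π w ∈ V.map π := mem_map_of_mem π (subset_closure (Or.inl ⟨hw, hww⟩))
        rw [h, mem_bot] at h1
        obtain ⟨i, hi : z ^ i = w⟩ := (QuotientGroup.eq_one_iff w).1 h1
        rcases Int.even_or_odd i with ⟨j, rfl⟩ | ⟨j, rfl⟩
        · left
          rw [← hi, ← two_mul, zpow_mul, zpow_two, involution_sq hz, one_zpow]
        · right
          rw [← hi, zpow_add, zpow_mul, zpow_two, involution_sq hz, one_zpow, one_mul, zpow_one]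
      have huniq : ∀ B C : Subgroup A, Nat.card B = 2 → Nat.card C = 2 → B = C := by
        have key : ∀ B : Subgroup A, Nat.card B = 2 → ∃ b : A, (b : P) = z ∧ B = zpowers b := by
          intro B hB
          obtain ⟨⟨b, hb⟩, hb2⟩ := exists_prime_orderOf_dvd_card' 2 (hB ▸ dvd_rfl : 2 ∣ Nat.card B)
          rw [Subgroup.orderOf_mk] at hb2
          refine ⟨b, (hsub b b.2 ?_).resolve_left fun e => involution_ne_one hb2 (Subtype.ext e),
            (eq_of_le_of_card_ge (zpowers_le.2 hb) (by rw [Nat.card_zpowers, hb2, hB])).symm⟩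
          exact congrArg Subtype.val (involution_sq hb2)
        intro B C hB hC
        obtain ⟨b, hb, rfl⟩ := key B hB
        obtain ⟨c, hc, rfl⟩ := key C hC
        rw [show b = c from Subtype.ext (hb.trans hc.symm)]
      rcases CfsgLib.Core.UniqueOrderP.isCyclic_or_quaternion_of_unique (hP.to_subgroup A) huniq with
        h' | ⟨-, n, ⟨e⟩⟩
      · exact h'
      · rcases n with _ | n
        · exact e.isCyclic.2 QuaternionGroup.quaternionGroup_one_isCyclic
        · exfalso
          have hc := congrArg e (hAc.is_comm.comm (e.symm (QuaternionGroup.a 1)) (e.symm (QuaternionGroup.xa 0)))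
          rw [map_mul, map_mul, e.apply_symm_apply, e.apply_symm_apply, QuaternionGroup.a_mul_xa,
            QuaternionGroup.xa_mul_a, QuaternionGroup.xa.injEq] at hc
          have h2 : ((2 : ℕ) : ZMod (2 * 2 ^ (n + 1))) = 0 := by push_cast; linear_combination -hc
          rw [ZMod.natCast_eq_zero_iff] at h2
          have := Nat.le_of_dvd two_pos h2
          have := Nat.one_lt_two_pow (n := n + 1) (by omega)
          omega
    have hq : IsPGroup 2 (P ⧸ Z) := hP.to_quotient Z
    have hinf := CfsgLib.PGroups.inf_center_ne_bot hq hne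
    obtain ⟨⟨q, hq1⟩, hq2⟩ := ne_bot_iff_exists_ne_one.1 hinf
    obtain ⟨a, haV, rfl⟩ := hq1.1
    have ha1 : π a ≠ 1 := fun h => hq2 (Subtype.ext h)
    refine ⟨a, orderOf_eq_two_of (fun h => ha1 (by rw [h, map_one])) (hVsq a haV), fun h => ha1 ?_, fun s => ?_⟩
    · rw [h]; exact (QuotientGroup.eq_one_iff z).2 (mem_zpowers z)
    · have hc : π (s * a * s⁻¹ * a⁻¹) = 1 := by
        have h1 := mem_center_iff.1 hq1.2 (π s)
        rw [map_mul, map_mul, map_mul, map_inv, map_inv, h1]
        group
      obtain ⟨i, hi : z ^ i = _⟩ := (QuotientGroup.eq_one_iff _).1 hc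
      rcases Int.even_or_odd i with ⟨j, rfl⟩ | ⟨j, rfl⟩
      · left
        rw [← hi, ← two_mul, zpow_mul, zpow_two, involution_sq hz, one_zpow]
      · right
        rw [← hi, zpow_add, zpow_mul, zpow_two, involution_sq hz, one_zpow, one_mul, zpow_one]

end CfsgLib.RankOneInter
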