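import Cfsg.Agent.Lib.Invol.RankOneInter.Central.Basic
import Cfsg.Agent.Lib.Invol.RankOneInter.Central.ShortCentralizer

/-!
Owner: helper5. The central elements of the first kind of a point.

* `Multi c`: an involution of the quotient in two points.
* `exists_X1`, `X1_three`: there are such elements, and not only two.
* `Except S`: the exceptional configuration, and `hyperplane`: every hyperplane of `Ee S` meets `X1 S`, or `S` is
  exceptional and the hyperplane is `H0`.
-/

set_option autoImplicit false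
set_option linter.style.haveILetI false
set_option linter.unusedSectionVars false

namespace CfsgLib.RankOneInter

open Subgroup
open CfsgLib.Signalizer (involution_sq involution_inv orderOf_eq_two_of involution_ne_one orderOf_conj)

universe u

variable {G : Type u} [Group G] [Finite G]

/-- An involution of the quotient in two points. -/
def Multi (c : Q G) : Prop :=
  c * c = 1 ∧ c ≠ 1 ∧ ∃ S T : Sylow 2 G, S ≠ T ∧ c ∈ Spt S ∧ c ∈ Spt T

/-- The exceptional configuration: exactly three central elements of the first kind, whose lifts do not commute. -/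
structure Except (S : Sylow 2 G) (x y w : Q G) : Prop where
  hx : x ∈ X1 S
  hy : y ∈ X1 S
  hw : w ∈ X1 S
  xy : x ≠ y
  xw : x ≠ w
  yw : y ≠ w
  only : ∀ u ∈ X1 S, u = x ∨ u = y ∨ u = w
  not_xy : ¬ IsI (x * y)
  not_xw : ¬ IsI (x * w)
  not_yw : ¬ IsI (y * w)
  w0_ne : x * y * w ≠ 1

namespace Central

variable (hC : Central G) {S T : Sylow 2 G} {z : G}
include hC

theorem not_isI_of_multi {c : Q G} (hc : Multi c) : ¬ IsI c := fun h => by
  obtain ⟨-, -, S, T, hne, hS, hT⟩ := hc
  exact hne (hC.single h hS hT)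

theorem exists_multi (hD : ∃ S T : Sylow 2 G, S ≠ T ∧ Spt S ⊓ Spt T ≠ ⊥) : ∃ c : Q G, Multi c := by
  haveI := Fact.mk Nat.prime_two
  obtain ⟨S, T, hne, hb⟩ := hD
  obtain ⟨k, hk0, hk⟩ := ((S.isPGroup'.map pr).to_le (inf_le_left : Spt S ⊓ Spt T ≤ Spt S)).nontrivial_iff_card.1
    ((nontrivial_iff_ne_bot _).2 hb)
  obtain ⟨⟨c, hc⟩, hc2⟩ := exists_prime_orderOf_dvd_card' (G := (Spt S ⊓ Spt T : Subgroup (Q G))) 2
    (hk ▸ dvd_pow_self 2 hk0.ne')
  rw [Subgroup.orderOf_mk] at hc2
  exact ⟨c, involution_sq hc2, involution_ne_one hc2, S, T, hne, hc.1, hc.2⟩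

/-- Two involutions of different kinds commute with a third. -/
theorem exists_between {x c : Q G} (hx : IsI x) (hc : c * c = 1) (hc1 : c ≠ 1) (hcI : ¬ IsI c) :
    ∃ u : Q G, u * u = 1 ∧ u ≠ 1 ∧ u * x = x * u ∧ u * c = c * u := by
  have hx1 : x ≠ 1 := by obtain ⟨a, -, -, h⟩ := hx; exact h
  obtain ⟨u, hu, hux, huc⟩ := CfsgLib.Signalizer.exists_central_involution_of_not_conj
    (orderOf_eq_two_of hx1 hx.sq) (orderOf_eq_two_of hc1 hc) fun h => by
      obtain ⟨g, hg⟩ := isConj_iff.1 h
      exact hcI (hg ▸ hx.conj g)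
  exact ⟨u, involution_sq hu, involution_ne_one hu, hux, huc⟩

theorem mem_Spt_of_commute {x u : Q G} (hx : IsI x) (hS : x ∈ Spt S) (hu : u * u = 1) (h : u * x = x * u) :
    u ∈ Spt S := by
  haveI := Fact.mk Nat.prime_two
  obtain ⟨a, rfl⟩ := pr_surjective u
  have hfix := hC.smul_eq_of_commute hx hS h
  have hp : IsPGroup 2 (zpowers a) := by
    obtain ⟨k, hk⟩ := (HallGen.isPGroup_pCore (G := G) 2).exists_card_eq
    have hsq : a * a ∈ Cfsg.pCore 2 G := pr_eq_one_iff.1 (by rw [map_mul]; exact hu)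
    have h1 : orderOf a ∣ 2 ^ (k + 1) := by
      refine orderOf_dvd_of_pow_eq_one ?_
      rw [pow_succ', pow_mul, pow_two]
      exact orderOf_dvd_iff_pow_eq_one.1 (hk ▸ Subgroup.orderOf_dvd_natCard _ hsq)
    obtain ⟨i, -, hi⟩ := (Nat.dvd_prime_pow Nat.prime_two).1 h1
    exact IsPGroup.of_card (n := i) (by rw [Nat.card_zpowers, hi])
  have h' : a ∈ zpowers a ⊓ normalizer (S : Set G) := ⟨mem_zpowers a, Sylow.smul_eq_iff_mem_normalizer.1 hfix⟩
  rw [hp.inf_normalizer_sylow S] at h'
  exact mem_Spt.2 h'.2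

/-- A point with a short centraliser has an element of the first kind in its centre. -/
theorem not_short (hD : ∃ S T : Sylow 2 G, S ≠ T ∧ Spt S ⊓ Spt T ≠ ⊥) (S : Sylow 2 G) {z₀ : G}
    (hz : z₀ ∈ Cfsg.pCore 2 G) (hz2 : orderOf z₀ = 2) (hPz : ∀ q ∈ Cfsg.pCore 2 G, q = 1 ∨ q = z₀)
    {a : (S : Subgroup G)}
    (hshort : ∀ s : (S : Subgroup G), s * a = a * s →
      s = 1 ∨ s = ⟨z₀, HallGen.pCore_le_sylow S hz⟩ ∨ s = a ∨ s = ⟨z₀, HallGen.pCore_le_sylow S hz⟩ * a)
    (ha2 : orderOf (a : G) = 2) (haz' : (a : G) ≠ z₀) : ∃ x : Q G, x ∈ X1 S := by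
  haveI := Fact.mk Nat.prime_two
  -- no such element: a central involution commutes with all its conjugates
  by_contra hno
  push Not at hno
  set x : G := (a : G) with hxdef
  have hxS : x ∈ (S : Subgroup G) := a.2
  have hx2 : orderOf x = 2 := ha2
  have hxP : x ∉ Cfsg.pCore 2 G := fun h => (hPz x h).elim (involution_ne_one hx2) haz'
  have hshort' : ∀ s ∈ (S : Subgroup G), s * x = x * s → pr s = 1 ∨ pr s = pr x := by
    intro s hs h
    rcases hshort ⟨s, hs⟩ (Subtype.ext h) with e | e | e | e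
    · left; rw [show s = 1 from congrArg Subtype.val e, map_one]
    · left; rw [show s = z₀ from congrArg Subtype.val e]; exact pr_eq_one_iff.2 hz
    · right; rw [show s = x from congrArg Subtype.val e]
    · right; rw [show s = z₀ * x from congrArg Subtype.val e, map_mul, pr_eq_one_iff.2 hz, one_mul]
  -- the central involution
  have hSne : Nontrivial (Spt S) := (nontrivial_iff_ne_bot _).2 fun h => hxP
    (pr_eq_one_iff.1 (mem_bot.1 (h ▸ mem_Spt.2 hxS)))
  obtain ⟨v, hv, hv1, hvc, hvv⟩ : ∃ v ∈ Spt S, v ≠ 1 ∧ (∀ s ∈ Spt S, s * v = v * s) ∧ v * v = 1 := by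
    have hp : IsPGroup 2 (Spt S) := S.isPGroup'.map pr
    haveI := hSne
    haveI := hp.center_nontrivial
    obtain ⟨k, hk0, hk⟩ := (hp.to_subgroup (Subgroup.center (Spt S))).nontrivial_iff_card.1 ‹_›
    obtain ⟨c, hc⟩ := exists_prime_orderOf_dvd_card' (G := Subgroup.center (Spt S)) 2 (hk ▸ dvd_pow_self 2 hk0.ne')
    have hc' : orderOf ((c : Spt S) : Q G) = 2 := by rw [Subgroup.orderOf_coe, Subgroup.orderOf_coe, hc]
    exact ⟨((c : Spt S) : Q G), (c : Spt S).2, involution_ne_one hc',
      fun s hs => congrArg Subtype.val (mem_center_iff.1 c.2 ⟨s, hs⟩), involution_sq hc'⟩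
  have hvI : ¬ IsI v := fun h => hno v ⟨h, hv, hvc⟩
  obtain ⟨r, rfl⟩ := pr_surjective v
  have hrS := mem_Spt.1 hv
  have hrr : r * r = z₀ := by
    rcases hPz (r * r) (pr_eq_one_iff.1 (by rw [map_mul]; exact hvv)) with h | h
    · exact absurd (hC.isI_of_sq (one_mem _) hv1 (by rw [h, one_mul])) hvI
    · exact h
  have hxI : IsI (pr x) := ⟨x, hx2, rfl, fun h => hxP (pr_eq_one_iff.1 h)⟩
  have hprx : pr x ≠ pr r := fun h => hvI (h ▸ hxI)
  have hxr : r * x = x * r * z₀ := by
    rcases hC.comm_cases hz hz2 (b := r) hx2 (hvc (pr x) (mem_Spt.2 hxS)) with h | h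
    · rcases hshort' r hrS h with h1 | h1
      · exact absurd h1 hv1
      · exact absurd h1.symm hprx
    · exact h
  -- the elements commuting with `pr x`
  have hcent : ∀ u ∈ Spt S, u * u = 1 → u ≠ 1 → u * pr x = pr x * u → ¬ IsI u → u = pr r := by
    intro u hu _ hu1 hux huI
    obtain ⟨s, rfl⟩ := pr_surjective u
    have hsS := mem_Spt.1 hu
    rcases hC.comm_cases hz hz2 (b := s) hx2 hux.symm with h | h
    · rcases hshort' s hsS h with h1 | h1
      · exact absurd h1 hu1
      · exact absurd (h1 ▸ hxI) huI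
    · have hc : r⁻¹ * s * x = x * (r⁻¹ * s) := by
        have hr' : r⁻¹ * x = x * r⁻¹ * z₀⁻¹ := by
          calc r⁻¹ * x = r⁻¹ * (r * x) * z₀⁻¹ * r⁻¹ := by rw [hxr]; group
            _ = x * (z₀⁻¹ * r⁻¹) := by group
            _ = x * (r⁻¹ * z₀⁻¹) := by rw [hC.comm_core (inv_mem hz) r⁻¹]
            _ = _ := by group
        calc r⁻¹ * s * x = r⁻¹ * x * (s * z₀) := by rw [mul_assoc, h]; group
          _ = x * r⁻¹ * (z₀⁻¹ * (s * z₀)) := by rw [hr']; group
          _ = x * (r⁻¹ * s) := by rw [hC.comm_core hz s, inv_mul_cancel_left]; group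
      rcases hshort' _ (mul_mem (inv_mem hrS) hsS) hc with h1 | h1
      · rw [map_mul, map_inv, inv_mul_eq_one] at h1; exact h1.symm
      · refine absurd ?_ huI
        rw [map_mul, map_inv, inv_mul_eq_iff_eq_mul] at h1
        rw [h1, ← map_mul]
        refine hC.isI_of_sq (one_mem _) (by rw [map_mul]; exact h1 ▸ hu1) ?_
        have hxr' : x * r = r * x * z₀⁻¹ := by rw [hxr, mul_inv_cancel_right]
        calc r * x * (r * x) = r * (x * r) * x := by group
          _ = r * r * (x * (z₀⁻¹ * x)) := by rw [hxr']; group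
          _ = r * r * (x * (x * z₀⁻¹)) := by rw [hC.comm_core (inv_mem hz) x]
          _ = r * r * (x * x) * z₀⁻¹ := by group
          _ = 1 * 1 := by rw [hrr, involution_sq hx2, mul_one, mul_inv_cancel, one_mul]
  -- every multi involution commutes with it
  have hcomm : ∀ c : Q G, Multi c → pr r * c = c * pr r := by
    intro c hc
    by_cases hcS : c ∈ Spt S
    · exact (hvc c hcS).symm
    obtain ⟨u, huu, hu1, hux, huc⟩ := hC.exists_between hxI hc.1 hc.2.1 (hC.not_isI_of_multi hc)
    have huS := hC.mem_Spt_of_commute hxI (mem_Spt.2 hxS) huu hux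
    by_cases huI : IsI u
    · exact absurd (hC.mem_Spt_of_commute huI huS hc.1 huc.symm) hcS
    · exact hcent u huS huu hu1 hux huI ▸ huc
  obtain ⟨c₀, hc₀⟩ := hC.exists_multi hD
  set N := normalClosure {c₀} with hN
  have hNc : ∀ n ∈ N, pr r * n = n * pr r := by
    intro n hn
    have hle : N ≤ centralizer {pr r} := by
      refine (closure_le _).2 ?_
      intro y hy
      obtain ⟨b, hb0, hb⟩ := Group.mem_conjugatesOfSet_iff.1 hy
      rw [Set.mem_singleton_iff] at hb0
      rw [hb0] at hb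
      obtain ⟨g, rfl⟩ := isConj_iff.1 hb
      obtain ⟨h, rfl⟩ := pr_surjective g
      refine mem_centralizer_singleton_iff.2 (hcomm _ ⟨?_, fun e => hc₀.2.1 (conj_eq_one_iff.1 e), ?_⟩).symm
      · calc pr h * c₀ * (pr h)⁻¹ * (pr h * c₀ * (pr h)⁻¹) = pr h * (c₀ * c₀) * (pr h)⁻¹ := by group
          _ = 1 := by rw [hc₀.1, mul_one, mul_inv_cancel]
      · obtain ⟨-, -, U, V, hne, hU, hV⟩ := hc₀
        exact ⟨h • U, h • V, fun e => hne (MulAction.injective h e), pr_conj_mem_Spt hU, pr_conj_mem_Spt hV⟩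
    exact (mem_centralizer_singleton_iff.1 (hle hn)).symm
  -- it lies in that closure
  have hrN : pr r ∈ N := by
    obtain ⟨U, hU⟩ : ∃ U : Sylow 2 G, c₀ ∈ Spt U := by
      obtain ⟨-, -, U, V, -, hU, -⟩ := hc₀; exact ⟨U, hU⟩
    obtain ⟨g, rfl⟩ := MulAction.exists_smul_eq G U S
    have hmem : pr g * c₀ * (pr g)⁻¹ ∈ Spt (g • U) ∧ pr g * c₀ * (pr g)⁻¹ ∈ N :=
      ⟨pr_conj_mem_Spt hU,
        (normalClosure_normal (s := {c₀})).conj_mem c₀ (subset_normalClosure (Set.mem_singleton c₀)) (pr g)⟩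
    haveI : (N.subgroupOf (Spt (g • U))).Normal := inferInstance
    have hne : N.subgroupOf (Spt (g • U)) ≠ ⊥ := by
      intro h
      have h1 : (⟨_, hmem.1⟩ : Spt (g • U)) ∈ N.subgroupOf (Spt (g • U)) := mem_subgroupOf.2 hmem.2
      rw [h, mem_bot] at h1
      exact hc₀.2.1 (conj_eq_one_iff.1 (congrArg Subtype.val h1))
    have hp : IsPGroup 2 (Spt (g • U)) := (g • U).isPGroup'.map pr
    have hinf := CfsgLib.PGroups.inf_center_ne_bot hp hne
    obtain ⟨k, hk0, hk⟩ := (hp.to_subgroup (N.subgroupOf (Spt (g • U)) ⊓ Subgroup.center (Spt (g • U)))).nontrivial_iff_card.1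
      ((nontrivial_iff_ne_bot _).2 hinf)
    obtain ⟨u, hu⟩ := exists_prime_orderOf_dvd_card'
      (G := (N.subgroupOf (Spt (g • U)) ⊓ Subgroup.center (Spt (g • U)) : Subgroup _)) 2 (hk ▸ dvd_pow_self 2 hk0.ne')
    have hu' : orderOf ((u : Spt (g • U)) : Q G) = 2 := by rw [Subgroup.orderOf_coe, Subgroup.orderOf_coe, hu]
    have huc : ∀ s ∈ Spt (g • U), s * ((u : Spt (g • U)) : Q G) = ((u : Spt (g • U)) : Q G) * s := fun s hs =>
      congrArg Subtype.val (mem_center_iff.1 u.2.2 ⟨s, hs⟩)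
    have hnI : ¬ IsI ((u : Spt (g • U)) : Q G) := fun h => hno _ ⟨h, (u : Spt (g • U)).2, huc⟩
    have := hcent _ (u : Spt (g • U)).2 (involution_sq hu') (involution_ne_one hu')
      (huc _ (mem_Spt.2 hxS)).symm hnI
    exact this ▸ mem_subgroupOf.1 u.2.1
  -- hence its conjugates commute, so it lies in every point
  set V := normalClosure {pr r} with hVdef
  have hVN : V ≤ N := normalClosure_le_normal (Set.singleton_subset_iff.2 hrN)
  have hVc : V ≤ centralizer (N : Set (Q G)) :=
    normalClosure_le_normal (Set.singleton_subset_iff.2 (mem_centralizer_iff.2 fun n hn => (hNc n hn).symm))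
  have hVp : IsPGroup 2 V := by
    intro w
    refine ⟨1, Subtype.ext ?_⟩
    rw [pow_one, pow_two]
    have hsq : ∀ w ∈ V, w * w = 1 := by
      intro w hw
      rw [hVdef, normalClosure] at hw
      induction hw using Subgroup.closure_induction with
      | mem w hw =>
        obtain ⟨b, rfl, hb⟩ := Group.mem_conjugatesOfSet_iff.1 hw
        obtain ⟨g, rfl⟩ := isConj_iff.1 hb
        calc g * pr r * g⁻¹ * (g * pr r * g⁻¹) = g * (pr r * pr r) * g⁻¹ := by group
          _ = 1 := by rw [hvv, mul_one, mul_inv_cancel]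
      | one => exact one_mul 1
      | mul a b ha hb iha ihb =>
        have e : b * a = a * b := mem_centralizer_iff.1 (hVc ha) b (hVN hb)
        calc a * b * (a * b) = a * (b * a) * b := by group
          _ = a * a * (b * b) := by rw [e]; group
          _ = 1 := by rw [iha, ihb, mul_one]
      | inv a _ iha => rw [← mul_inv_rev, iha, inv_one]
    exact hsq w w.2
  haveI : V.Normal := normalClosure_normal
  refine hv1 (core_eq_one fun U => ?_)
  have h1 := HallGen.pCore_le_sylow (U.mapSurjective pr_surjective)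
    ((le_sSup ⟨‹V.Normal›, hVp⟩ : V ≤ Cfsg.pCore 2 (Q G)) (subset_normalClosure (Set.mem_singleton (pr r))))
  rwa [Sylow.coe_mapSurjective] at h1

/-- There is an element of the first kind in the centre of every point. -/
theorem exists_X1 (hD : ∃ S T : Sylow 2 G, S ≠ T ∧ Spt S ⊓ Spt T ≠ ⊥) (S : Sylow 2 G) :
    ∃ x : Q G, x ∈ X1 S := by
  haveI := Fact.mk Nat.prime_two
  obtain ⟨z₀, x₀, hz, hz2, hx₀2, hx₀z⟩ := hC.rank
  set P := Cfsg.pCore 2 G with hP
  have hPS : P ≤ (S : Subgroup G) := HallGen.pCore_le_sylow S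
  -- an involution of `S` outside the core
  obtain ⟨x₁, hx₁S, hx₁2, hx₁P⟩ : ∃ x ∈ (S : Subgroup G), orderOf x = 2 ∧ x ∉ P := by
    obtain ⟨U, hU⟩ := (IsPGroup.of_card (p := 2) (n := 1) (G := zpowers x₀)
      (by rw [Nat.card_zpowers, hx₀2, pow_one])).exists_le_sylow
    obtain ⟨g, rfl⟩ := MulAction.exists_smul_eq G U S
    refine ⟨g * x₀ * g⁻¹, conj_mem_smul (hU (mem_zpowers x₀)), (orderOf_conj g x₀).trans hx₀2, fun h => ?_⟩
    have h' : x₀ ∈ P := by
      have := (inferInstance : P.Normal).conj_mem _ h g⁻¹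
      rwa [inv_inv, show g⁻¹ * (g * x₀ * g⁻¹) * g = x₀ by group] at this
    rcases hC.core_sq_one hz hz2 h' (involution_sq hx₀2) with h1 | h1
    · exact involution_ne_one hx₀2 h1
    · exact hx₀z h1
  have hlift : ∀ (a : (S : Subgroup G)), orderOf a = 2 → (a : G) ∉ P →
      (∀ s : (S : Subgroup G), ((s * a * s⁻¹ * a⁻¹ : (S : Subgroup G)) : G) ∈ P) → ∃ x : Q G, x ∈ X1 S := by
    intro a ha haP hcm
    refine ⟨pr (a : G), ⟨a, by rw [Subgroup.orderOf_coe, ha], rfl, fun h => haP (pr_eq_one_iff.1 h)⟩,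
      mem_Spt.2 a.2, fun s hs => ?_⟩
    obtain ⟨b, rfl⟩ := pr_surjective s
    have h := hcm ⟨b, mem_Spt.1 hs⟩
    simp only [Subgroup.coe_mul, InvMemClass.coe_inv] at h
    have h1 := pr_eq_one_iff.2 h
    rw [map_mul, map_mul, map_mul, map_inv, map_inv, mul_inv_eq_one, mul_inv_eq_iff_eq_mul] at h1
    exact h1
  rcases hC.card_core_or hz hz2 with hcard | ⟨p, hp, hpz⟩
  swap
  · -- a large core
    set P' := P.subgroupOf (S : Subgroup G) with hP'
    haveI : P'.Normal := inferInstanceAs (P.subgroupOf (S : Subgroup G)).Normal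
    obtain ⟨a, ha, haP, hcm⟩ := CyclicInter.exists_involution_central_mod S.isPGroup' (Q := P')
      (fun q hq => mem_center_iff.2 fun s => Subtype.ext (hC.comm_core (mem_subgroupOf.1 hq) (s : G)))
      ((MulEquiv.isCyclic (subgroupOfEquivOfLe hPS)).2 hC.cyclic) (c := ⟨p, hPS hp⟩) (mem_subgroupOf.2 hp)
      (fun h => involution_ne_one hz2 (by
        have := congrArg Subtype.val h
        rw [pow_two] at this
        exact hpz.symm.trans this))
      ⟨⟨x₁, hx₁S⟩, by rw [← Subgroup.orderOf_coe]; exact hx₁2, fun h => hx₁P (mem_subgroupOf.1 h)⟩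
    exact hlift a ha (fun h => haP (mem_subgroupOf.2 h)) fun s => mem_subgroupOf.1 (hcm s)
  -- the core has order two
  have hPz : ∀ q ∈ P, q = 1 ∨ q = z₀ := by
    intro q hq
    refine hC.core_sq_one hz hz2 hq ?_
    rw [← pow_two, ← orderOf_dvd_iff_pow_eq_one, ← hcard]
    exact Subgroup.orderOf_dvd_natCard P hq
  rcases exists_central_mod_or_short S.isPGroup' (z := ⟨z₀, hPS hz⟩)
      (by rw [← Subgroup.orderOf_coe]; exact hz2)
      (fun s => Subtype.ext (hC.comm_core hz (s : G)))
      ⟨⟨x₁, hx₁S⟩, by rw [← Subgroup.orderOf_coe]; exact hx₁2,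
        fun h => hx₁P (by rw [show x₁ = z₀ from congrArg Subtype.val h]; exact hz)⟩ with
    ⟨a, ha, haz, hcm⟩ | ⟨a, ha, haz, hshort⟩
  · refine hlift a ha (fun h => ?_) fun s => ?_
    · rcases hPz a h with h1 | h1
      · exact involution_ne_one ha (Subtype.ext h1)
      · exact haz (Subtype.ext h1)
    · rcases hcm s with h | h
      · rw [h]; exact one_mem _
      · rw [h]; exact hz
  · exact hC.not_short hD S hz hz2 hPz hshort (by rw [Subgroup.orderOf_coe, ha]) fun h => haz (Subtype.ext h)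

/-- The elements of the first kind in a centre are not only two. -/
theorem X1_three (hD : ∃ S T : Sylow 2 G, S ≠ T ∧ Spt S ⊓ Spt T ≠ ⊥) (S : Sylow 2 G) {x : Q G}
    (hx : x ∈ X1 S) (y : Q G) : ∃ w ∈ X1 S, w ≠ x ∧ w ≠ y := by
  haveI := Fact.mk Nat.prime_two
  by_contra hno
  push Not at hno
  have hx1 : x ≠ 1 := by obtain ⟨a, -, -, h⟩ := hx.1; exact h
  obtain ⟨g, hg, hne⟩ := hC.not_isolated hx.1.sq hx1 hx.2.1
  have hgS := hC.smul_eq_of_conj_mem hx.1 hx.2.1 hg
  have hgy : pr g * x * (pr g)⁻¹ = y := hno _ (X1_conj hgS hx) hne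
  have hy : y ∈ X1 S := hgy ▸ X1_conj hgS hx
  -- the odd part of `g` moves `x` as `g` does
  obtain ⟨k, m, hm, hkm⟩ : ∃ k m, ¬ 2 ∣ m ∧ orderOf g = 2 ^ k * m :=
    Nat.exists_eq_pow_mul_and_not_dvd (orderOf_pos g).ne' 2 (by norm_num)
  have hgm : g ^ m • S = S := by
    rw [Sylow.smul_eq_iff_mem_normalizer]; exact pow_mem (Sylow.smul_eq_iff_mem_normalizer.1 hgS) m
  have hswap : pr g * y * (pr g)⁻¹ = x := by
    by_contra h
    have hy' : pr g * y * (pr g)⁻¹ = y := hno _ (X1_conj hgS hy) h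
    refine hne ?_
    have h2 := hgy.trans hy'.symm
    rw [mul_left_inj, mul_right_inj] at h2
    rw [hgy, ← h2]
  have hpow : ∀ n : ℕ, pr g ^ n * x * (pr g ^ n)⁻¹ = if Even n then x else y := by
    intro n
    induction n with
    | zero => simp
    | succ n ih =>
      rw [pow_succ', show pr g * pr g ^ n * x * (pr g * pr g ^ n)⁻¹ =
        pr g * (pr g ^ n * x * (pr g ^ n)⁻¹) * (pr g)⁻¹ by group, ih]
      by_cases hn : Even n
      · rw [if_pos hn, if_neg (by simpa [parity_simps] using hn), hgy]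
      · rw [if_neg hn, if_pos (by simpa [parity_simps] using hn), hswap]
  have hmem : g ^ m ∈ (S : Subgroup G) := by
    have hp : IsPGroup 2 (zpowers (g ^ m)) := IsPGroup.of_card (n := k) (by
      rw [Nat.card_zpowers, orderOf_pow, hkm, Nat.gcd_eq_right (dvd_mul_left m _),
        Nat.mul_div_cancel _ (Nat.pos_of_ne_zero fun h => hm (by rw [h]; exact dvd_zero 2))])
    have h' : g ^ m ∈ zpowers (g ^ m) ⊓ normalizer (S : Set G) :=
      ⟨mem_zpowers _, Sylow.smul_eq_iff_mem_normalizer.1 hgm⟩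
    rw [hp.inf_normalizer_sylow S] at h'
    exact h'.2
  have h1 := hx.2.2 _ (mem_Spt.2 hmem)
  have h2 := hpow m
  rw [← map_pow, h1, mul_inv_cancel_right, if_neg (by rwa [Nat.even_iff, ← Nat.dvd_iff_mod_eq_zero])] at h2
  exact hne (hgy.trans h2.symm)

theorem X1_ne_one {x : Q G} (hx : x ∈ X1 S) : x ≠ 1 := by
  obtain ⟨a, -, -, h⟩ := hx.1; exact h

/-- Lifts of elements of the first kind with product of the second kind: the core has order two. -/
theorem anticommute (hz : z ∈ Cfsg.pCore 2 G) (hz2 : orderOf z = 2) {a b : G} (ha : orderOf a = 2)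
    (hb : orderOf b = 2) (hab : pr a * pr b = pr b * pr a) (hne : pr a ≠ pr b) (hI : ¬ IsI (pr a * pr b)) :
    b * a = a * b * z ∧ Nat.card ↥(Cfsg.pCore 2 G) = 2 := by
  have hne' : pr (a * b) ≠ 1 := fun h => hne (by
    rw [map_mul, ← eq_inv_iff_mul_eq_one, ← map_inv, involution_inv hb] at h; exact h)
  rcases hC.comm_cases hz hz2 ha hab with h | h
  · refine absurd ?_ hI
    rw [← map_mul]
    refine hC.isI_of_sq (one_mem _) hne' ?_
    calc a * b * (a * b) = a * (b * a) * b := by group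
      _ = a * a * (b * b) := by rw [h]; group
      _ = 1 * 1 := by rw [involution_sq ha, involution_sq hb]
  · refine ⟨h, (hC.card_core_or hz hz2).resolve_right fun ⟨p, hp, hpz⟩ => hI ?_⟩
    rw [← map_mul]
    refine hC.isI_of_sq hp hne' ?_
    calc a * b * (a * b) = a * (b * a) * b := by group
      _ = a * (a * b) * (z * b) := by rw [h]; group
      _ = a * a * (b * (z * b)) := by group
      _ = p * p := by
        rw [← hC.comm_core hz b, ← mul_assoc, ← mul_assoc, involution_sq ha, one_mul, involution_sq hb, one_mul, hpz]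

/-- A hyperplane avoiding `X1` makes the point exceptional. -/
theorem hyperplane (hD : ∃ S T : Sylow 2 G, S ≠ T ∧ Spt S ⊓ Spt T ≠ ⊥) (S : Sylow 2 G) {B : Subgroup (Q G)}
    (hB : B ≤ Ee S) (hidx : B.relIndex (Ee S) ≤ 2) (hmiss : ∀ x ∈ X1 S, x ∉ B) :
    ∃ x y w : Q G, Except S x y w ∧ ∀ e, e ∈ B ↔ e = 1 ∨ e = x * y ∨ e = x * w ∨ e = y * w := by
  obtain ⟨z, hz, hz2⟩ := hC.exists_z
  obtain ⟨x, hx⟩ := hC.exists_X1 hD S
  obtain ⟨y, hy, hyx, -⟩ := hC.X1_three hD S hx x
  have hidx2 : B.relIndex (Ee S) = 2 := by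
    have h1 : B.relIndex (Ee S) ≠ 1 := fun h => hmiss x hx (relIndex_eq_one.1 h (subset_closure hx))
    have h0 : B.relIndex (Ee S) ≠ 0 := index_ne_zero_of_finite
    omega
  have hpair : ∀ {a b : Q G}, a ∈ X1 S → b ∈ X1 S → a * b ∈ B := fun {a b} ha hb =>
    (mul_mem_iff_of_index_two (H := B.subgroupOf (Ee S)) hidx2 (a := ⟨a, subset_closure ha⟩)
      (b := ⟨b, subset_closure hb⟩)).2 ⟨fun h => absurd h (hmiss a ha), fun h => absurd h (hmiss b hb)⟩
  have hnI : ∀ {a b : Q G}, a ∈ X1 S → b ∈ X1 S → ¬ IsI (a * b) := fun {a b} ha hb h =>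
    hmiss _ ⟨h, Ee_le (mul_mem (subset_closure ha) (subset_closure hb)),
      fun s hs => Ee_central (mul_mem (subset_closure ha) (subset_closure hb)) s hs⟩ (hpair ha hb)
  obtain ⟨w, hw, hwx, hwy⟩ := hC.X1_three hD S hx y
  have hxy2 : ∀ {a b : Q G}, a ∈ X1 S → b ∈ X1 S → a * b = b * a := fun ha hb => X1_mul_comm ha hb
  -- lifts
  obtain ⟨a, ha, rfl, -⟩ := id hx.1
  obtain ⟨b, hb, rfl, -⟩ := id hy.1
  obtain ⟨c, hc, rfl, -⟩ := id hw.1
  obtain ⟨hba, hcard⟩ := hC.anticommute hz hz2 ha hb (hxy2 hx hy) hyx.symm (hnI hx hy)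
  obtain ⟨hca, -⟩ := hC.anticommute hz hz2 ha hc (hxy2 hx hw) hwx.symm (hnI hx hw)
  obtain ⟨hcb, -⟩ := hC.anticommute hz hz2 hb hc (hxy2 hy hw) hwy.symm (hnI hy hw)
  have hzc := fun g : G => hC.comm_core hz g
  have hzz := involution_sq hz2
  -- the square of the product of the three
  have mv : ∀ (g h : G), g * (z * h) = z * (g * h) := fun g h => by rw [← mul_assoc, hzc g, mul_assoc]
  have swap : ∀ {g k : G}, k * g = g * k * z → ∀ h, k * (g * h) = z * (g * (k * h)) := fun {g k} e h => by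
    rw [← mul_assoc, e, hzc (g * k)]; group
  have sq : ∀ {g : G}, orderOf g = 2 → ∀ h, g * (g * h) = h := fun e h => by
    rw [← mul_assoc, involution_sq e, one_mul]
  have sab := swap hba
  have sac := swap hca
  have sbc := swap hcb
  have ma := mv a
  have mb := mv b
  have mc := mv c
  have qa := sq ha
  have qb := sq hb
  have qc := sq hc
  have qz := sq hz2
  have habc : a * b * c * (a * b * c) = z := by
    rw [← mul_one (a * b * c * (a * b * c))]
    simp only [mul_assoc, sab, sac, sbc, ma, mb, mc, qa, qb, qc, qz]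
    exact mul_one z
  have h3B : pr a * pr b * pr c ∉ B := fun h =>
    hmiss (pr c) hw (by have := mul_mem (inv_mem (hpair hx hy)) h; rwa [inv_mul_cancel_left] at this)
  have h3ne : pr a * pr b * pr c ≠ 1 := fun h => h3B (by rw [h]; exact one_mem _)
  have honly : ∀ u ∈ X1 S, u = pr a ∨ u = pr b ∨ u = pr c := by
    intro u hu
    by_contra hno
    push Not at hno
    obtain ⟨d, hd, rfl, -⟩ := id hu.1
    obtain ⟨hda, -⟩ := hC.anticommute hz hz2 ha hd (hxy2 hx hu) hno.1.symm (hnI hx hu)
    obtain ⟨hdb, -⟩ := hC.anticommute hz hz2 hb hd (hxy2 hy hu) hno.2.1.symm (hnI hy hu)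
    obtain ⟨hdc, -⟩ := hC.anticommute hz hz2 hc hd (hxy2 hw hu) hno.2.2.symm (hnI hw hu)
    -- the product of four squares to one
    have hsq : a * b * c * d * (a * b * c * d) = 1 := by
      have sad := swap hda
      have sbd := swap hdb
      have scd := swap hdc
      have md := mv d
      have qd := sq hd
      rw [← mul_one (a * b * c * d * (a * b * c * d))]
      simp only [mul_assoc, sab, sac, sbc, sad, sbd, scd, ma, mb, mc, md, qa, qb, qc, qd, qz]
    by_cases h4 : pr a * pr b * pr c * pr d = 1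
    · -- then the product of three would be of the first kind
      have e : pr (a * b * c) = pr d := by
        rw [map_mul, map_mul, eq_inv_of_mul_eq_one_left h4, ← map_inv, involution_inv hd]
      have hp := pr_eq_iff.1 e
      obtain ⟨p, hp, hdp⟩ : ∃ p ∈ Cfsg.pCore 2 G, d = a * b * c * p := ⟨_, hp, by group⟩
      have h1 := involution_sq hd
      rw [hdp, show a * b * c * p * (a * b * c * p) = a * b * c * (p * (a * b * c)) * p by group,
        ← hC.comm_core hp, show a * b * c * (a * b * c * p) * p = a * b * c * (a * b * c) * (p * p) by group,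
        habc] at h1
      refine involution_ne_one hz2 ?_
      rcases hC.core_sq_one hz hz2 hp (by
        rw [← pow_two, ← orderOf_dvd_iff_pow_eq_one, ← hcard]
        exact Subgroup.orderOf_dvd_natCard _ hp) with rfl | rfl
      · rwa [one_mul, mul_one] at h1
      · rwa [hzz, mul_one] at h1
    · have hI : IsI (pr a * pr b * pr c * pr d) := by
        rw [← map_mul, ← map_mul, ← map_mul]
        exact hC.isI_of_sq (one_mem _) (by simpa [map_mul] using h4) (by rw [hsq, one_mul])
      have hm : pr a * pr b * pr c * pr d ∈ B := by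
        rw [mul_assoc]; exact mul_mem (hpair hx hy) (hpair hw hu)
      have hmE := hB hm
      exact hmiss _ ⟨hI, Ee_le hmE, fun s hs => Ee_central hmE s hs⟩ hm
  refine ⟨pr a, pr b, pr c, ⟨hx, hy, hw, hyx.symm, hwx.symm, hwy.symm, honly, hnI hx hy, hnI hx hw, hnI hy hw,
    h3ne⟩, fun e => ⟨fun he => ?_, ?_⟩⟩
  · -- the elements of `B`
    have hgen : ∀ e ∈ Ee S, e = 1 ∨ e = pr a ∨ e = pr b ∨ e = pr c ∨ e = pr a * pr b ∨ e = pr a * pr c ∨
        e = pr b * pr c ∨ e = pr a * pr b * pr c := by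
      intro e he
      have sa := hx.1.sq
      have sb := hy.1.sq
      have sc := hw.1.sq
      have cab := hxy2 hx hy
      have cac := hxy2 hx hw
      have cbc := hxy2 hy hw
      induction he using Subgroup.closure_induction_left with
      | one => exact Or.inl rfl
      | mul_left u hu v _ ih =>
        rcases honly u hu with rfl | rfl | rfl
        · rcases ih with rfl | rfl | rfl | rfl | rfl | rfl | rfl | rfl <;>
            simp only [← mul_assoc, sa, one_mul, mul_one, true_or, or_true]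
        · rcases ih with rfl | rfl | rfl | rfl | rfl | rfl | rfl | rfl <;>
            simp only [← mul_assoc, ← cab, mul_one, sb, one_mul, true_or, or_true] <;>
            simp only [mul_assoc, sb, mul_one, true_or, or_true] <;>
            simp only [← mul_assoc, sb, one_mul, true_or, or_true]
        · rcases ih with rfl | rfl | rfl | rfl | rfl | rfl | rfl | rfl <;>
            simp only [← mul_assoc, ← cac, ← cbc, mul_one, sc, one_mul, true_or, or_true] <;>
            simp only [mul_assoc, ← cbc, sc, mul_one, true_or, or_true] <;>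
            simp only [← mul_assoc, ← cbc, sc, one_mul, true_or, or_true] <;>
            simp only [mul_assoc, sc, mul_one, true_or, or_true]
      | inv_mul_cancel u hu v _ ih =>
        have hu' : u⁻¹ = u := inv_eq_of_mul_eq_one_right hu.1.sq
        rw [hu']
        rcases honly u hu with rfl | rfl | rfl
        · rcases ih with rfl | rfl | rfl | rfl | rfl | rfl | rfl | rfl <;>
            simp only [← mul_assoc, sa, one_mul, mul_one, true_or, or_true]
        · rcases ih with rfl | rfl | rfl | rfl | rfl | rfl | rfl | rfl <;>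
            simp only [← mul_assoc, ← cab, mul_one, sb, one_mul, true_or, or_true] <;>
            simp only [mul_assoc, sb, mul_one, true_or, or_true] <;>
            simp only [← mul_assoc, sb, one_mul, true_or, or_true]
        · rcases ih with rfl | rfl | rfl | rfl | rfl | rfl | rfl | rfl <;>
            simp only [← mul_assoc, ← cac, ← cbc, mul_one, sc, one_mul, true_or, or_true] <;>
            simp only [mul_assoc, ← cbc, sc, mul_one, true_or, or_true] <;>
            simp only [← mul_assoc, ← cbc, sc, one_mul, true_or, or_true] <;>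
            simp only [mul_assoc, sc, mul_one, true_or, or_true]
    rcases hgen e (hB he) with h | h | h | h | h | h | h | h
    · exact Or.inl h
    · exact absurd (h ▸ he) (hmiss _ hx)
    · exact absurd (h ▸ he) (hmiss _ hy)
    · exact absurd (h ▸ he) (hmiss _ hw)
    · exact Or.inr (Or.inl h)
    · exact Or.inr (Or.inr (Or.inl h))
    · exact Or.inr (Or.inr (Or.inr h))
    · exact absurd (h ▸ he) h3B
  · rintro (rfl | rfl | rfl | rfl)
    exacts [one_mem _, hpair hx hy, hpair hx hw, hpair hy hw]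

end Central

end CfsgLib.RankOneInter
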